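import Cfsg.Agent.Lib.Classical.TensorMixed.OrthFour

set_option autoImplicit false
set_option linter.unusedSectionVars false

/-!
The case of a two-dimensional symplectic first and an orthogonal second factor.
-/

namespace CfsgLib.Classical.TensorMixed

open Matrix CfsgLib.Classical.TensorMax CfsgLib.Orth
open CfsgLib.Classical.TensorSymp (adj Sp AForm tv ten kr_mul_apply kc_mul_apply eq_of_mul_kc_all kron_mulVec_ten)
open scoped MatrixGroups Kronecker

variable {F : Type*} [Field F] [Finite F] {α β : Type} [Fintype α] [DecidableEq α] [Fintype β] [DecidableEq β]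
variable {QB : QuadraticForm F (β → F)} {JA : Matrix α α F} {JB : Matrix β β F} {M : Subgroup (GL (α × β) F)}

namespace OrthHyp

variable (H : OrthHyp QB JA JB M)
include H

/-- The conjugates of the reflections of the second factor act on it, in dimension at least five. -/
theorem conj_refl_big (h5 : 5 ≤ Fintype.card β) (hS : Small JB M) {g : GL (α × β) F} (hg : g ∈ M) {v : β → F} (hv : QB v ≠ 0) :
    ∃ T : Matrix β β F,
      g.1 * ((1 : Matrix α α F) ⊗ₖ (1 + (-(QB v)⁻¹) • Matrix.vecMulVec v (JB *ᵥ v))) * (g⁻¹).1 =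
        (1 : Matrix α α F) ⊗ₖ T := by
  classical
  obtain ⟨l⟩ := H.nonempty_left
  let cl : α → β → F := fun i k => (g.1 * kc α v) (i, k) l
  have h1 := finrank_orth H.gB.nd (Submodule.span F (Set.range cl))
  have h2 : Module.finrank F (Submodule.span F (Set.range cl)) ≤ 2 :=
    (finrank_range_le_card cl).trans (le_of_eq H.dimA)
  rw [Module.finrank_pi] at h1
  exact H.conj_refl_wide hS hg hv (l := l) (by change 3 ≤ Module.finrank F (orth QB (Submodule.span F (Set.range cl))); omega)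
    (by change _ ≤ Module.finrank F (orth QB (Submodule.span F (Set.range cl))) + 2; omega)

/-- The conjugates of the reflections of the second factor act on it. -/
theorem conj_refl (hS : Small JB M) {g : GL (α × β) F} (hg : g ∈ M) {v : β → F} (hv : QB v ≠ 0) :
    ∃ T : Matrix β β F,
      g.1 * ((1 : Matrix α α F) ⊗ₖ (1 + (-(QB v)⁻¹) • Matrix.vecMulVec v (JB *ᵥ v))) * (g⁻¹).1 =
        (1 : Matrix α α F) ⊗ₖ T := by
  rcases H.size with h5 | ⟨h3, hω⟩ | ⟨h4, hns⟩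
  · exact H.conj_refl_big h5 hS hg hv
  · exact H.conj_refl_three h3 hω hS hg hv
  · exact H.conj_refl_four h4 hns hS hg hv

/-- When the central elements are scalars, everything is a Kronecker product. -/
theorem tens_all (hS : Small JB M) {g : GL (α × β) F} (hg : g ∈ M) : Tens g.1 := by
  classical
  haveI := H.nonempty_left
  obtain ⟨w, hw, hw0⟩ := H.exists_sing
  obtain ⟨v, hv, qv⟩ := H.gB.exists_perp_aniso H.three hw
  have qv' : QB (v + w) = QB v := by rw [q_add, hw, b_comm, hv, add_zero, add_zero]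
  obtain ⟨T, hT⟩ := H.conj_refl hS hg qv
  obtain ⟨T', hT'⟩ := H.conj_refl hS hg (v := v + w) (by rwa [qv'])
  obtain ⟨d, hd⟩ : ∃ d, d = -(QB v)⁻¹ := ⟨_, rfl⟩
  rw [← hd] at hT
  rw [qv', ← hd] at hT'
  obtain ⟨R, hR⟩ : ∃ R, R = 1 + d • Matrix.vecMulVec v (JB *ᵥ v) := ⟨_, rfl⟩
  obtain ⟨R', hR'⟩ : ∃ R', R' = 1 + d • Matrix.vecMulVec (v + w) (JB *ᵥ (v + w)) := ⟨_, rfl⟩
  rw [← hR] at hT
  rw [← hR'] at hT'
  have hd0 : d ≠ 0 := hd ▸ neg_ne_zero.2 (inv_ne_zero qv)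
  have hww : (JB *ᵥ w) ⬝ᵥ w = 0 := H.sing.1 hw
  have hwv : (JB *ᵥ w) ⬝ᵥ v = 0 := by rw [H.gB.dot_polar, hv]
  have hvw : (JB *ᵥ v) ⬝ᵥ w = 0 := H.orth_comm hwv
  have hdv : d * ((JB *ᵥ v) ⬝ᵥ v) = -2 := by
    rw [H.gB.self, hd]
    field_simp
  obtain ⟨D, hD⟩ : ∃ D, D = R * R' - 1 := ⟨_, rfl⟩
  have hDx : ∀ x, D *ᵥ x = (d * ((JB *ᵥ w) ⬝ᵥ x)) • (w - v) + (d * ((JB *ᵥ v) ⬝ᵥ x)) • w := fun x => by
    simp only [hD, hR, hR', Matrix.sub_mulVec, Matrix.one_mulVec, ← Matrix.mulVec_mulVec, Matrix.add_mulVec,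
      Matrix.smul_mulVec, Matrix.vecMulVec_mulVec, op_smul_eq_smul, Matrix.mulVec_add, Matrix.mulVec_smul,
      dotProduct_add, add_dotProduct, dotProduct_smul, smul_eq_mul, hvw, smul_smul]
    linear_combination (norm := module) congrArg
      (fun t : F => (t * d * (((JB *ᵥ v) ⬝ᵥ x) + ((JB *ᵥ w) ⬝ᵥ x))) • v) hdv
  have hDD : D * D = (2 * d) • Matrix.vecMulVec w (JB *ᵥ w) := by
    refine Matrix.ext_iff_mulVec.2 fun x => ?_
    rw [← Matrix.mulVec_mulVec, hDx x, Matrix.mulVec_add, Matrix.mulVec_smul, Matrix.mulVec_smul, Matrix.mulVec_sub,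
      hDx w, hDx v, Matrix.smul_mulVec, Matrix.vecMulVec_mulVec, op_smul_eq_smul]
    simp only [hww, hwv, hvw, hdv, mul_zero, zero_smul, add_zero, zero_sub, zero_add, smul_zero, smul_smul]
    module
  obtain ⟨D', hD'⟩ : ∃ D', D' = (T * T' - 1) * (T * T' - 1) := ⟨_, rfl⟩
  have hconj : g.1 * (kc α ((2 * d) • w) * kr α (JB *ᵥ w)) * (g⁻¹).1 = (1 : Matrix α α F) ⊗ₖ D' := by
    have hm : ∀ {A B A' B' : Matrix β β F},
        g.1 * ((1 : Matrix α α F) ⊗ₖ A) * (g⁻¹).1 = (1 : Matrix α α F) ⊗ₖ A' →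
        g.1 * ((1 : Matrix α α F) ⊗ₖ B) * (g⁻¹).1 = (1 : Matrix α α F) ⊗ₖ B' →
        g.1 * ((1 : Matrix α α F) ⊗ₖ (A * B)) * (g⁻¹).1 = (1 : Matrix α α F) ⊗ₖ (A' * B') := by
      intro A B A' B' hA hB
      conv_rhs => rw [← Matrix.one_mul (1 : Matrix α α F), Matrix.mul_kronecker_mul, ← hA, ← hB]
      conv_lhs => rw [← Matrix.one_mul (1 : Matrix α α F), Matrix.mul_kronecker_mul]
      simp only [Matrix.mul_assoc]
      rw [← Matrix.mul_assoc (g⁻¹).1 g.1, g.inv_mul, Matrix.one_mul]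
    have h1 : g.1 * ((1 : Matrix α α F) ⊗ₖ D) * (g⁻¹).1 = (1 : Matrix α α F) ⊗ₖ (T * T' - 1) := by
      rw [hD, TensorOrth.kron_sub, TensorOrth.kron_sub, Matrix.one_kronecker_one, ← hm hT hT', Matrix.mul_sub,
        Matrix.sub_mul, Matrix.mul_one, g.mul_inv]
    rw [kc_mul_kr, Matrix.smul_vecMulVec, ← hDD, hD']
    exact hm h1 h1
  have h2d : 2 * d ≠ 0 := mul_ne_zero H.two hd0
  obtain ⟨w', A, A', hAA, hA⟩ := H.image_of_rank_one (smul_ne_zero h2d hw0) (H.mulVecB_ne hw0) hconj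
  have hq : QB w' = 0 := H.sing.2 (H.image_isotropic hg (by
    rw [Matrix.mulVec_smul, smul_dotProduct, dotProduct_smul, hww, smul_zero, smul_zero]) hAA hA)
  have hw' : w' ≠ 0 := by
    rintro rfl
    rw [← zero_smul F (0 : β → F), kc_smul (0 : F), zero_smul, Matrix.zero_mul] at hA
    have h1 := congrArg ((g⁻¹).1 * ·) hA
    simp only [← Matrix.mul_assoc, g.inv_mul, Matrix.one_mul, Matrix.mul_zero] at h1
    obtain ⟨i⟩ := H.nonempty_left
    obtain ⟨k, hk⟩ := Function.ne_iff.1 (smul_ne_zero h2d hw0)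
    exact hk (by simpa [kc_apply] using congrFun₂ h1 (i, k) i)
  have hA' : g.1 * kc α w = kc α w' * ((2 * d)⁻¹ • A) := by
    rw [Matrix.mul_smul, ← hA, kc_smul, Matrix.mul_smul, smul_smul, inv_mul_cancel₀ h2d, one_smul]
  obtain ⟨T₁, hT₁, e⟩ := H.moveB hq hw hw' hw0
  exact H.tens_of_move hS (H.scalarLevels hS) hg hww hw0 hA' hT₁ e

/-- The dichotomy. -/
theorem dichotomy : (∀ g ∈ M, Tens g.1) ∨ ∀ x, Centre JA JB M x := by
  by_cases hS : Small JB M
  · exact Or.inl fun g hg => H.tens_all hS hg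
  · exact Or.inr (H.centre_everywhere hS)

end OrthHyp

end CfsgLib.Classical.TensorMixed
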