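import Cfsg.Agent.Lib.Classical.TensorMixed.SympRoots
import Cfsg.Agent.Lib.Classical.TensorMixed.Orth
import Cfsg.Agent.Lib.Classical.TensorOrth.Main
import Cfsg.Agent.Lib.Classical.TensorSymp.Main
import Cfsg.Agent.Lib.Classical.SympStab

set_option autoImplicit false
set_option linter.unusedSectionVars false

/-!
The stabiliser in the symplectic group of a tensor product of a symplectic and an orthogonal space is maximal,
in odd characteristic.
-/

namespace CfsgLib.Classical.TensorMixed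

open Matrix CfsgLib.Classical.TensorMax
open CfsgLib.Classical.TensorOrth (coords coords_apply toGL toGL_mem_iff toGL_swap tens_swap formOfGram_eq kron_swap
  exists_form gram_symm gram_det smul_symm smul_det excl_three)
open CfsgLib.Classical.TensorSymp (Sp ten matrix_ext_dot aform_gram)
open scoped MatrixGroups Kronecker

variable {F : Type*} [Field F] [Finite F] {α β : Type} [Fintype α] [DecidableEq α] [Fintype β] [DecidableEq β]

/-- The isometries of a matrix form. -/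
def isoGroup {γ : Type} [Fintype γ] [DecidableEq γ] (J : Matrix γ γ F) : Subgroup (GL γ F) where
  carrier := {g | g.1ᵀ * J * g.1 = J}
  one_mem' := by simp
  mul_mem' {a b} ha hb := by
    show (a * b).1ᵀ * J * (a * b).1 = J
    calc (a * b).1ᵀ * J * (a * b).1 = b.1ᵀ * (a.1ᵀ * J * a.1) * b.1 := by
          rw [Units.val_mul, Matrix.transpose_mul]; simp only [Matrix.mul_assoc]
      _ = J := by rw [ha, hb]
  inv_mem' {a} ha := by
    show (a⁻¹).1ᵀ * J * (a⁻¹).1 = J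
    calc (a⁻¹).1ᵀ * J * (a⁻¹).1 = (a⁻¹).1ᵀ * (a.1ᵀ * J * a.1) * (a⁻¹).1 := by rw [ha]
      _ = J := by
        simp only [Matrix.mul_assoc, a.mul_inv, Matrix.mul_one]
        rw [← Matrix.mul_assoc, ← Matrix.transpose_mul, a.mul_inv, Matrix.transpose_one, Matrix.one_mul]

theorem Hyp.exists_not_tens {ε : F} {JA : Matrix α α F} {JB : Matrix β β F} {M : Subgroup (GL (α × β) F)}
    (H : Hyp ε JA JB M) {w : β → F} (hw : (JB *ᵥ w) ⬝ᵥ w = 0) (hw0 : w ≠ 0) :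
    ∃ g : GL (α × β) F, g.1ᵀ * (JA ⊗ₖ JB) * g.1 = JA ⊗ₖ JB ∧ ¬ Tens g.1 := by
  obtain ⟨i⟩ := H.nonempty_left
  obtain ⟨u, hu⟩ : ∃ u : α → F, u = Pi.single i 1 := ⟨_, rfl⟩
  have hu0 : u ≠ 0 := fun e => by simpa [hu] using congrFun e i
  obtain ⟨x, hx⟩ : ∃ x, x = ten u w := ⟨_, rfl⟩
  have hxx : ((JA ⊗ₖ JB) *ᵥ x) ⬝ᵥ x = 0 := by
    rw [hx, TensorSymp.kron_mulVec_ten, TensorSymp.ten_dot, hw, mul_zero]
  have hsp : Sp (JA ⊗ₖ JB) (1 + (1 : F) • Matrix.vecMulVec x ((JA ⊗ₖ JB) *ᵥ x)) :=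
    sp_rank_one (δ := -1) (by rw [H.form_skew, neg_one_smul]) (by rw [hxx, mul_zero]; ring)
  have hd : (1 + (1 : F) • Matrix.vecMulVec x ((JA ⊗ₖ JB) *ᵥ x)).det ≠ 0 := fun e => by
    have := congrArg Matrix.det hsp
    rw [Matrix.det_mul, e, mul_zero] at this
    exact H.det_form.ne_zero this.symm
  refine ⟨Matrix.GeneralLinearGroup.mkOfDetNeZero _ hd, hsp, ?_⟩
  show ¬ Tens (1 + (1 : F) • Matrix.vecMulVec x ((JA ⊗ₖ JB) *ᵥ x))
  rw [one_smul, hx, ← zm_rk]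
  refine H.not_tens_zm hw hw0 fun c e => ?_
  obtain ⟨y, hy, hy'⟩ := exists_orth (fun _ : Fin 1 => JA *ᵥ u) (by have := H.two_le; simp; omega)
  have h1 := congrArg (· *ᵥ y) e
  simp only [Matrix.vecMulVec_mulVec, op_smul_eq_smul, hy' 0, zero_smul, Matrix.smul_mulVec, Matrix.one_mulVec,
    eq_comm (a := (0 : α → F)), smul_eq_zero, or_iff_left hy] at h1
  rw [h1, zero_smul] at e
  obtain ⟨j, hj⟩ : ∃ j, (JA *ᵥ u) j ≠ 0 := Function.ne_iff.1 fun e0 : JA *ᵥ u = 0 => hu0 (by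
    have h2 := congrArg (JA⁻¹ *ᵥ ·) e0
    simpa [Matrix.mulVec_mulVec, Matrix.nonsing_inv_mul JA H.iA] using h2)
  have h2 := congrFun₂ e i j
  rw [Matrix.vecMulVec_apply, hu, Pi.single_eq_same, one_mul, Matrix.zero_apply] at h2
  exact hj (hu ▸ h2)

theorem isMaximalIn {m : ℕ} (e : (Fin m ⊕ Fin m) ≃ α × β) (P : GL (Fin m ⊕ Fin m) F) {JA : Matrix α α F}
    {JB : Matrix β β F}
    (hform : ∀ x y, Cfsg.sympForm m F (coords e P x) (coords e P y) = x ⬝ᵥ (JA ⊗ₖ JB) *ᵥ y)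
    {X : Subgroup (GL (Fin m ⊕ Fin m) F)} (hkr : ∀ g : GL (α × β) F, toGL e P g ∈ X ↔ Tens g.1)
    (hnt : ∃ g : GL (α × β) F, g.1ᵀ * (JA ⊗ₖ JB) * g.1 = JA ⊗ₖ JB ∧ ¬ Tens g.1)
    (hdich : ∀ M : Subgroup (GL (α × β) F), (∀ g ∈ M, g.1ᵀ * (JA ⊗ₖ JB) * g.1 = JA ⊗ₖ JB) →
      (∀ g : GL (α × β) F, g.1ᵀ * (JA ⊗ₖ JB) * g.1 = JA ⊗ₖ JB → Tens g.1 → g ∈ M) →
      (∀ g ∈ M, Tens g.1) ∨ ∀ x, Centre JA JB M x) :
    Cfsg.Geo.IsMaximalIn (Cfsg.spGL m F) (X ⊓ Cfsg.spGL m F) := by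
  classical
  obtain ⟨φ, hφ⟩ : ∃ φ, φ = toGL e P := ⟨_, rfl⟩
  rw [← hφ] at hkr
  have hap : ∀ (g : GL (α × β) F) z, (φ g).1 *ᵥ coords e P z = coords e P (g.1 *ᵥ z) := by
    intro g z
    rw [hφ]
    show ((P : Matrix _ _ F) * Matrix.submatrix g.1 e e * (P⁻¹ : GL (Fin m ⊕ Fin m) F).1) *ᵥ _ = _
    rw [coords_apply, coords_apply, Matrix.mulVec_mulVec, Matrix.mul_assoc, Units.inv_mul, Matrix.mul_one,
      ← Matrix.mulVec_mulVec, Matrix.submatrix_mulVec_equiv]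
    congr 2
    rw [Function.comp_assoc, Equiv.self_comp_symm, Function.comp_id]
  have hsurj : ∀ v, ∃ z, coords e P z = v := fun v => ⟨((P⁻¹ : GL (Fin m ⊕ Fin m) F).1 *ᵥ v) ∘ e.symm, by
    rw [coords_apply, Function.comp_assoc, Equiv.symm_comp_self, Function.comp_id, Matrix.mulVec_mulVec,
      Units.mul_inv, Matrix.one_mulVec]⟩
  have hiso : ∀ g, φ g ∈ Cfsg.spGL m F ↔ g.1ᵀ * (JA ⊗ₖ JB) * g.1 = JA ⊗ₖ JB := by
    intro g
    have key : ∀ x y, x ⬝ᵥ (g.1ᵀ * (JA ⊗ₖ JB) * g.1) *ᵥ y =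
        Cfsg.sympForm m F ((φ g).1 *ᵥ coords e P x) ((φ g).1 *ᵥ coords e P y) := fun x y => by
      rw [hap, hap, hform, ← Matrix.mulVec_mulVec, ← Matrix.mulVec_mulVec, Matrix.dotProduct_mulVec x g.1ᵀ,
        Matrix.vecMul_transpose]
    constructor
    · intro hg
      refine matrix_ext_dot fun x y => ?_
      rw [key, ← hform]
      exact hg _ _
    · intro hg u v
      obtain ⟨x, rfl⟩ := hsurj u
      obtain ⟨y, rfl⟩ := hsurj v
      show Cfsg.sympForm m F ((φ g).1 *ᵥ coords e P x) ((φ g).1 *ᵥ coords e P y) = _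
      rw [← key, hg, hform]
  refine ⟨lt_of_le_of_ne inf_le_right fun hh => ?_, fun K hK hK' => ?_⟩
  · obtain ⟨g, hg, hg'⟩ := hnt
    have := (hiso g).2 hg
    rw [← hh] at this
    exact hg' ((hkr g).1 this.1)
  rcases hdich (K.comap φ.toMonoidHom) (fun g hg => (hiso g).1 (hK' hg))
    (fun g hg ht => hK ⟨(hkr g).2 ht, (hiso g).2 hg⟩) with h | h
  · refine Or.inl (le_antisymm (fun y hy => ?_) hK)
    obtain ⟨g, rfl⟩ := φ.surjective y
    exact ⟨(hkr g).2 (h g hy), hK' hy⟩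
  refine Or.inr (le_antisymm hK' fun y hy => ?_)
  have htop : K.comap ((Subgroup.subtype (Cfsg.spGL m F)).comp SympTrans.toSpGL) = ⊤ := by
    refine SympStab.eq_top_of_centres fun v c => ?_
    obtain ⟨z, rfl⟩ := hsurj v
    obtain ⟨g, hg, hg'⟩ := h z c
    show (SympTrans.toSpGL (SympTrans.T (coords e P z) c) : GL (Fin m ⊕ Fin m) F) ∈ K
    suffices he : (SympTrans.toSpGL (SympTrans.T (coords e P z) c) : GL (Fin m ⊕ Fin m) F) = φ g by
      rw [he]; exact hg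
    refine Units.ext (Matrix.ext_iff_mulVec.2 fun u => ?_)
    obtain ⟨x, rfl⟩ := hsurj u
    rw [SympTrans.toSpGL_coe, hap]
    show SympTrans.app (SympTrans.T (coords e P z) c) (coords e P x) = _
    rw [SympTrans.app_T, hg', Matrix.add_mulVec, Matrix.one_mulVec, Matrix.smul_mulVec, Matrix.vecMulVec_mulVec,
      op_smul_eq_smul, hform, map_add, map_smul, map_smul, smul_smul, dotProduct_comm ((JA ⊗ₖ JB) *ᵥ z) x]
  obtain ⟨s, hs⟩ := SympTrans.toSpGL_surjective ⟨y, hy⟩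
  have := (Subgroup.eq_top_iff' _).1 htop s
  simpa [hs] using this

/-- A field with more than three elements has a unit other than `1` and `-1`. -/
theorem exists_omega [Fintype F] (h : 3 < Fintype.card F) : ∃ ω : F, ω ≠ 0 ∧ ω ≠ 1 ∧ ω ≠ -1 := by
  classical
  by_contra hc
  push Not at hc
  have hsub : (Finset.univ : Finset F) ⊆ {0, 1, -1} := fun x _ => by
    by_cases h0 : x = 0
    · simp [h0]
    by_cases h1 : x = 1
    · simp [h1]
    simp [hc x h0 h1]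
  have h' := (Finset.card_le_card hsub).trans Finset.card_le_three
  rw [Finset.card_univ] at h'
  omega

/-- The stabiliser of a symplectic-orthogonal tensor decomposition with a two-dimensional first factor. -/
theorem isMaximalIn_symp_two [Fintype F] {m n₂ : ℕ} (h2 : (2 : F) ≠ 0) (h3 : 3 ≤ n₂)
    (e : (Fin m ⊕ Fin m) ≃ Fin 2 × Fin n₂) (P : GL (Fin m ⊕ Fin m) F)
    {f₁ : (Fin 2 → F) → (Fin 2 → F) → F} {f₂ : (Fin n₂ → F) → (Fin n₂ → F) → F}
    (hf₁ : Cfsg.Geo.IsSymplecticForm f₁) (hf₂ : Cfsg.Geo.IsSymmetricForm f₂)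
    (hT : Cfsg.Geo.IsTensorFormStructure id (Cfsg.sympForm m F) f₁ f₂ e P)
    (hsize : 5 ≤ n₂ ∨ (n₂ = 3 ∧ ∃ ω : F, ω ≠ 0 ∧ ω ≠ 1 ∧ ω ≠ -1) ∨
      (n₂ = 4 ∧ ∀ U : Submodule F (Fin n₂ → F), Module.finrank F U = 2 → ∃ x ∈ U, f₂ x x ≠ 0)) :
    Cfsg.Geo.IsMaximalIn (Cfsg.spGL m F)
      (Cfsg.Geo.tensorProductSubgroup 2 n₂ e P ⊓ Cfsg.spGL m F) := by
  obtain ⟨c, hc, hB⟩ := hT
  haveI : Nonempty (Fin n₂) := ⟨⟨0, by omega⟩⟩
  have aA := aform_gram hf₁ hc
  obtain ⟨QB, gB, hQB⟩ := exists_form h2 (gram_symm hf₂) (gram_det hf₂)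
  have mk : ∀ M : Subgroup (GL (Fin 2 × Fin n₂) F),
      (∀ g ∈ M, g.1ᵀ * ((c • Cfsg.Geo.gramMatrix f₁) ⊗ₖ Cfsg.Geo.gramMatrix f₂) * g.1 =
        (c • Cfsg.Geo.gramMatrix f₁) ⊗ₖ Cfsg.Geo.gramMatrix f₂) →
      (∀ g : GL (Fin 2 × Fin n₂) F,
        g.1ᵀ * ((c • Cfsg.Geo.gramMatrix f₁) ⊗ₖ Cfsg.Geo.gramMatrix f₂) * g.1 =
          (c • Cfsg.Geo.gramMatrix f₁) ⊗ₖ Cfsg.Geo.gramMatrix f₂ → Tens g.1 → g ∈ M) →
      OrthHyp QB (c • Cfsg.Geo.gramMatrix f₁) (Cfsg.Geo.gramMatrix f₂) M := fun M hle ht =>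
    { two := h2
      sq := one_mul 1
      tA := by rw [aA.skew, neg_one_smul]
      tB := by rw [one_smul]; exact gB.symm
      dA := aA.det_ne
      dB := gB.det_ne
      two_le := by simp
      three := by simpa using h3
      le := hle
      tens := ht
      gB := gB
      dimA := by simp
      size := by
        simp only [Fintype.card_fin]
        rcases hsize with h | h | ⟨h4, hns⟩
        · exact Or.inl h
        · exact Or.inr (Or.inl h)
        · refine Or.inr (Or.inr ⟨h4, fun U hU => ?_⟩)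
          obtain ⟨x, hx, hx'⟩ := hns U hU
          refine ⟨x, hx, fun h0 => hx' ?_⟩
          rw [TensorOrthNotMax.apply_eq_gram hf₂.bilinear, ← hQB, h0, mul_zero] }
  refine isMaximalIn e P (fun x y => ?_) (toGL_mem_iff e P) ?_ (fun M hle ht => (mk M hle ht).dichotomy)
  · rw [coords_apply, coords_apply, hB, formOfGram_eq, Matrix.smul_kronecker, Matrix.smul_mulVec, dotProduct_smul,
      smul_eq_mul]
  · obtain ⟨w, hw, hw0⟩ := gB.exists_sing (by simpa using h3)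
    have H := mk (isoGroup _) (fun g hg => hg) (fun g hg _ => hg)
    exact H.toHyp.exists_not_tens (H.sing.1 hw) hw0

/-- The stabiliser of a symplectic-orthogonal tensor decomposition. -/
theorem isMaximalIn_symp [Fintype F] {m n₁ n₂ : ℕ} (hm : 5 ≤ m ∨ (m = 3 ∧ n₁ = 2))
    (hodd : Odd (Fintype.card F)) (h3 : 3 ≤ n₂) (hex : ¬ (Fintype.card F = 3 ∧ n₂ = 3)) (e : (Fin m ⊕ Fin m) ≃ Fin n₁ × Fin n₂) (P : GL (Fin m ⊕ Fin m) F)
    {f₁ : (Fin n₁ → F) → (Fin n₁ → F) → F} {f₂ : (Fin n₂ → F) → (Fin n₂ → F) → F}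
    (hf₁ : Cfsg.Geo.IsSymplecticForm f₁) (hf₂ : Cfsg.Geo.IsSymmetricForm f₂)
    (hT : Cfsg.Geo.IsTensorFormStructure id (Cfsg.sympForm m F) f₁ f₂ e P) :
    Cfsg.Geo.IsMaximalIn (Cfsg.spGL m F)
      (Cfsg.Geo.tensorProductSubgroup n₁ n₂ e P ⊓ Cfsg.spGL m F) := by
  have h2 : (2 : F) ≠ 0 := Ring.two_ne_zero fun h => by
    have := FiniteField.even_card_iff_char_two.1 h
    obtain ⟨j, hj⟩ := hodd
    omega
  obtain ⟨c, hc, hB⟩ := hT
  have hcard : m + m = n₁ * n₂ := by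
    simpa [Fintype.card_prod, Fintype.card_sum] using Fintype.card_congr e
  obtain ⟨i, hi⟩ := CfsgLib.Asch.even_of_symplectic hf₁
  have hpos : 0 < n₁ := by
    by_contra h
    rw [Nat.eq_zero_of_not_pos h, zero_mul] at hcard
    omega
  haveI : Nonempty (Fin n₁) := ⟨⟨0, hpos⟩⟩
  haveI : Nonempty (Fin n₂) := ⟨⟨0, by omega⟩⟩
  by_cases h12 : n₁ = 2
  · subst h12
    refine isMaximalIn_symp_two h2 h3 e P hf₁ hf₂ ⟨c, hc, hB⟩ ?_
    by_cases h5 : 5 ≤ n₂
    · exact Or.inl h5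
    refine Or.inr (Or.inl ⟨by omega, exists_omega ?_⟩)
    have h2F : 2 ≤ Fintype.card F := Fintype.one_lt_card
    obtain ⟨j, hj⟩ := hodd
    have : ¬ Fintype.card F = 3 := fun h => hex ⟨h, by omega⟩
    omega
  · have h4 : 4 ≤ n₁ := by omega
    have aB := aform_gram hf₁ (one_ne_zero (α := F))
    rw [one_smul] at aB
    obtain ⟨QA, gA, -⟩ := exists_form h2 (smul_symm c (gram_symm hf₂)) (smul_det hc (gram_det hf₂))
    have mk : ∀ M : Subgroup (GL (Fin n₂ × Fin n₁) F),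
        (∀ g ∈ M, g.1ᵀ * ((c • Cfsg.Geo.gramMatrix f₂) ⊗ₖ Cfsg.Geo.gramMatrix f₁) * g.1 =
          (c • Cfsg.Geo.gramMatrix f₂) ⊗ₖ Cfsg.Geo.gramMatrix f₁) →
        (∀ g : GL (Fin n₂ × Fin n₁) F,
          g.1ᵀ * ((c • Cfsg.Geo.gramMatrix f₂) ⊗ₖ Cfsg.Geo.gramMatrix f₁) * g.1 =
            (c • Cfsg.Geo.gramMatrix f₂) ⊗ₖ Cfsg.Geo.gramMatrix f₁ → Tens g.1 → g ∈ M) →
        SympHyp QA (c • Cfsg.Geo.gramMatrix f₂) (Cfsg.Geo.gramMatrix f₁) M := fun M hle ht =>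
      { two := h2
        sq := by ring
        tA := by rw [neg_neg, one_smul]; exact gA.symm
        tB := by rw [aB.skew, neg_one_smul]
        dA := gA.det_ne
        dB := aB.det_ne
        two_le := by simp only [Fintype.card_fin]; omega
        three := by simp only [Fintype.card_fin]; omega
        le := hle
        tens := ht
        gA := gA
        threeA := by simpa using h3
        four := by simpa using h4
        excl3 := by simpa using excl_three h3 hex h2 }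
    refine isMaximalIn (e.trans (Equiv.prodComm _ _)) P (fun x y => ?_) (fun g => ?_) ?_
      (fun M hle ht => (mk M hle ht).dichotomy)
    · rw [coords_apply, coords_apply, Equiv.coe_trans, ← Function.comp_assoc, ← Function.comp_assoc, hB, formOfGram_eq,
        kron_swap, Matrix.smul_kronecker, Matrix.smul_mulVec, dotProduct_smul, smul_eq_mul]
    · rw [toGL_swap, toGL_mem_iff, tens_swap]
    · have H := mk (isoGroup _) (fun g hg => hg) (fun g hg _ => hg)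
      obtain ⟨k⟩ := H.nonempty_right
      exact H.toHyp.exists_not_tens (H.selfB (Pi.single k 1)) (fun e => by simpa using congrFun e k)

/-- The product of a plane and a four-dimensional quadratic space of minus type. -/
theorem isMaximalIn_symp_four [Fintype F] {m : ℕ} (hodd : Odd (Fintype.card F))
    (e : (Fin m ⊕ Fin m) ≃ Fin 2 × Fin 4) (P : GL (Fin m ⊕ Fin m) F)
    {f₁ : (Fin 2 → F) → (Fin 2 → F) → F} {f₂ : (Fin 4 → F) → (Fin 4 → F) → F}
    (hf₁ : Cfsg.Geo.IsSymplecticForm f₁) (hf₂ : Cfsg.Geo.IsSymmetricForm f₂)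
    (hminus : ¬ Cfsg.Geo.IsPlusTypeOn (fun v : Fin 4 → F => f₂ v v) ⊤)
    (hT : Cfsg.Geo.IsTensorFormStructure id (Cfsg.sympForm m F) f₁ f₂ e P) :
    Cfsg.Geo.IsMaximalIn (Cfsg.spGL m F) (Cfsg.Geo.tensorProductSubgroup 2 4 e P ⊓ Cfsg.spGL m F) := by
  have h2 : (2 : F) ≠ 0 := Ring.two_ne_zero fun h => by
    have := FiniteField.even_card_iff_char_two.1 h
    obtain ⟨j, hj⟩ := hodd
    omega
  refine isMaximalIn_symp_two h2 (by norm_num) e P hf₁ hf₂ hT (Or.inr (Or.inr ⟨rfl, fun U hU => ?_⟩))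
  by_contra hc
  push Not at hc
  exact hminus ⟨U, le_top, hc, by rw [hU, finrank_top, Module.finrank_pi, Fintype.card_fin]⟩

end CfsgLib.Classical.TensorMixed
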