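import Cfsg.Agent.Lib.Classical.TensorMixed.Stab

set_option autoImplicit false
set_option linter.unusedSectionVars false

/-!
The centres of the transvections in an intermediate group are closed under joining non-orthogonal ones; a
connected spanning set of them gives every vector.
-/

namespace CfsgLib.Classical.TensorMixed

open Matrix CfsgLib.Classical.TensorMax
open CfsgLib.Classical.TensorSymp (adj Sp ten kron_mulVec_ten ten_dot kr_mul_apply kc_mul_apply)
open scoped MatrixGroups Kronecker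

variable {F : Type*} [Field F] [Finite F] {α β : Type} [Fintype α] [DecidableEq α] [Fintype β] [DecidableEq β]

/-- All the transvections with centre `x` lie in `M`. -/
def Centre (JA : Matrix α α F) (JB : Matrix β β F) (M : Subgroup (GL (α × β) F)) (x : α × β → F) : Prop :=
  ∀ c : F, InM M (1 + c • Matrix.vecMulVec x ((JA ⊗ₖ JB) *ᵥ x))

/-- A set closed under non-orthogonal joins which contains a connected spanning set is everything. -/
theorem closed_all {γ : Type} [Fintype γ] (h2 : (2 : F) ≠ 0) (f : (γ → F) → (γ → F) → F)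
    (addr : ∀ x y z, f x (y + z) = f x y + f x z) (smulr : ∀ (c : F) x y, f x (c • y) = c * f x y)
    (skew : ∀ x y, f y x = -f x y) (nd : ∀ v : γ → F, v ≠ 0 → ∃ y, f y v ≠ 0) (W S : Set (γ → F))
    (h0 : (0 : γ → F) ∈ W) (hjoin : ∀ x ∈ W, ∀ y ∈ W, f x y ≠ 0 → ∀ c : F, x + c • y ∈ W)
    (hsmul : ∀ x ∈ W, ∀ c : F, c • x ∈ W) (hSW : S ⊆ W) (hspan : Submodule.span F S = ⊤)
    (hnb : ∀ a ∈ S, ∀ b ∈ S, ∃ e ∈ S, f a e ≠ 0 ∧ f e b ≠ 0) : ∀ v, v ∈ W := by
  have addl : ∀ x y z, f (x + y) z = f x z + f y z := fun x y z => by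
    rw [skew z (x + y), addr, skew x z, skew y z]; ring
  have smull : ∀ (c : F) x y, f (c • x) y = c * f x y := fun c x y => by
    rw [skew y (c • x), smulr, skew x y]; ring
  have swap : ∀ {x y}, f x y ≠ 0 → f y x ≠ 0 := fun {x y} h => by rw [skew x y]; exact neg_ne_zero.2 h
  have self : ∀ x, f x x = 0 := fun x => by
    have : (2 : F) * f x x = 0 := by linear_combination skew x x
    exact (mul_eq_zero.1 this).resolve_left h2
  have pick : ∀ p q : F, p ≠ 0 → ∃ c : F, c ≠ 0 ∧ p + c * q ≠ 0 := by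
    intro p q hp
    by_cases hc : p + 1 * q = 0
    · refine ⟨-1, neg_ne_zero.2 one_ne_zero, fun e => hp ?_⟩
      have : (2 : F) * p = 0 := by linear_combination hc + e
      exact (mul_eq_zero.1 this).resolve_left h2
    · exact ⟨1, one_ne_zero, hc⟩
  have hsp : ∀ v : γ → F, v ≠ 0 → ∃ a ∈ S, f a v ≠ 0 := by
    intro v hv
    by_contra hc
    push Not at hc
    obtain ⟨y, hy⟩ := nd v hv
    have hy' : y ∈ Submodule.span F S := by rw [hspan]; trivial
    refine hy ?_
    clear hy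
    induction hy' using Submodule.span_induction with
    | mem a ha => exact hc a ha
    | zero =>
      have := smull 0 0 v
      rwa [zero_smul, zero_mul] at this
    | add a b _ _ ha hb => rw [addl, ha, hb, add_zero]
    | smul c a _ ha => rw [smull, ha, mul_zero]
  -- an element of `W` orthogonal to none of three vectors
  let Good : (γ → F) → (γ → F) → Prop := fun x y => ∃ z ∈ W, f z x ≠ 0 ∧ f z y ≠ 0 ∧ f z x + f z y ≠ 0
  have one_side : ∀ x ∈ W, ∀ y, y ≠ 0 → f x y = 0 → (∃ a ∈ S, f a x ≠ 0 ∧ f a y = 0) → Good x y := by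
    rintro x hx y hy0 hxy ⟨a, ha, hax, hay⟩
    have L1 : ∀ a ∈ W, f a x ≠ 0 → f a y = 0 → ∀ b ∈ W, f b y ≠ 0 → f a b ≠ 0 → Good x y := by
      intro a ha hax hay b hb hby hab
      have val : ∀ c, f (a + c • b) y = c * f b y := fun c => by rw [addl, smull, hay, zero_add]
      by_cases hbx : f b x = 0
      · obtain ⟨c, hc, hc'⟩ := pick (f a x) (f b y) hax
        refine ⟨a + c • b, hjoin a ha b hb hab c, ?_, by rw [val]; exact mul_ne_zero hc hby, ?_⟩
        · rwa [addl, smull, hbx, mul_zero, add_zero]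
        · rwa [val, addl, smull, hbx, mul_zero, add_zero]
      by_cases hs : f b x + f b y = 0
      · obtain ⟨c, hc, hc'⟩ := pick (f a x) (f b x) hax
        refine ⟨a + c • b, hjoin a ha b hb hab c, ?_, by rw [val]; exact mul_ne_zero hc hby, ?_⟩
        · rwa [addl, smull]
        · rw [val, addl, smull]
          intro e
          exact hax (by linear_combination e - c * hs)
      exact ⟨b, hb, hbx, hby, hs⟩
    have L2 : ∀ b ∈ W, f b x ≠ 0 → f b y ≠ 0 → Good x y := by
      intro b hb hbx hby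
      by_cases hab : f a b = 0
      · refine L1 a (hSW ha) hax hay (b + (1 : F) • x) (hjoin b hb x hx hbx 1) ?_ ?_
        · rwa [addl, smull, hxy, mul_zero, add_zero]
        · rwa [addr, smulr, hab, zero_add, one_mul]
      · exact L1 a (hSW ha) hax hay b hb hby hab
    obtain ⟨b, hb, hby⟩ := hsp y hy0
    by_cases hbx : f b x = 0
    swap
    · exact L2 b (hSW hb) hbx hby
    by_cases hab : f a b = 0
    swap
    · exact L1 a (hSW ha) hax hay b (hSW hb) hby hab
    obtain ⟨e, he, hae, heb⟩ := hnb a ha b hb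
    by_cases hex : f e x = 0
    swap
    · obtain ⟨d, hd, hd'⟩ := pick (f b y) (f e y) hby
      refine L2 (b + d • e) (hjoin b (hSW hb) e (hSW he) (swap heb) d) ?_ (by rwa [addl, smull])
      rw [addl, smull, hbx, zero_add]
      exact mul_ne_zero hd hex
    by_cases hey : f e y = 0
    swap
    · exact L1 a (hSW ha) hax hay e (hSW he) hey hae
    refine L1 (a + (1 : F) • e) (hjoin a (hSW ha) e (hSW he) hae 1) ?_ ?_ b (hSW hb) hby ?_
    · rwa [addl, smull, hex, mul_zero, add_zero]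
    · rw [addl, smull, hey, hay, mul_zero, add_zero]
    · rwa [addl, smull, hab, zero_add, one_mul]
  have hadd : ∀ x ∈ W, ∀ y ∈ W, x + y ∈ W := by
    intro x hx y hy
    by_cases hxy : f x y = 0
    swap
    · simpa using hjoin x hx y hy hxy 1
    by_cases hx0 : x = 0
    · rwa [hx0, zero_add]
    by_cases hy0 : y = 0
    · rwa [hy0, add_zero]
    by_cases hs : x + y = 0
    · rw [hs]; exact h0
    obtain ⟨z, hz, hzx, hzy, hzs⟩ : Good x y := by
      obtain ⟨a, ha, hav⟩ := hsp _ hs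
      rw [addr] at hav
      by_cases hay : f a y = 0
      · exact one_side x hx y hy0 hxy ⟨a, ha, by rwa [hay, add_zero] at hav, hay⟩
      by_cases hax : f a x = 0
      · obtain ⟨z, h1, h2, h3, h4⟩ := one_side y hy x hx0 (by rw [skew x y, hxy, neg_zero]) ⟨a, ha, hay, hax⟩
        exact ⟨z, h1, h3, h2, by rwa [add_comm]⟩
      exact ⟨a, hSW ha, hax, hay, hav⟩
    have h1 := hjoin x hx z hz (swap hzx) 1
    have h2 := hjoin _ h1 y hy (by rwa [addl, smull, hxy, zero_add, one_mul]) 1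
    have h3 := hjoin _ h2 z hz (by
      rw [addl, addl, smull, smull, self, mul_zero, add_zero, one_mul, skew z x, skew z y]
      exact fun e => hzs (by linear_combination -e)) (-1)
    simpa [one_smul, add_assoc, add_comm, add_left_comm] using h3
  intro v
  have hv : v ∈ Submodule.span F S := by rw [hspan]; trivial
  induction hv using Submodule.span_induction with
  | mem a ha => exact hSW ha
  | zero => exact h0
  | add a b _ _ ha hb => exact hadd a ha b hb
  | smul c a _ ha => exact hsmul a ha c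

theorem span_ten {U : Set (α → F)} {W : Set (β → F)} (hU : Submodule.span F U = ⊤) (hW : Submodule.span F W = ⊤) :
    Submodule.span F {x : α × β → F | ∃ u ∈ U, ∃ w ∈ W, x = ten u w} = ⊤ := by
  classical
  set S := Submodule.span F {x : α × β → F | ∃ u ∈ U, ∃ w ∈ W, x = ten u w} with hS
  have h1 : ∀ u ∈ U, ∀ b, ten u b ∈ S := fun u hu b => by
    have hb : b ∈ Submodule.span F W := by rw [hW]; trivial
    induction hb using Submodule.span_induction with
    | mem w hw => exact Submodule.subset_span ⟨u, hu, w, hw, rfl⟩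
    | zero =>
      rw [show ten u (0 : β → F) = 0 by ext p; simp [ten]]
      exact S.zero_mem
    | add a b _ _ ha hb => rw [TensorSymp.ten_add_right]; exact S.add_mem ha hb
    | smul c a _ ha => rw [TensorSymp.ten_smul_right]; exact S.smul_mem c ha
  have h2 : ∀ a b, ten a b ∈ S := fun a b => by
    have ha : a ∈ Submodule.span F U := by rw [hU]; trivial
    induction ha using Submodule.span_induction with
    | mem u hu => exact h1 u hu b
    | zero =>
      rw [show ten (0 : α → F) b = 0 by ext p; simp [ten]]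
      exact S.zero_mem
    | add a a' _ _ ha hb => rw [TensorSymp.ten_add_left]; exact S.add_mem ha hb
    | smul c a _ ha => rw [TensorSymp.ten_smul_left]; exact S.smul_mem c ha
  refine top_unique fun v _ => ?_
  rw [pi_eq_sum_univ' v]
  refine S.sum_mem fun p _ => S.smul_mem _ ?_
  obtain ⟨i, k⟩ := p
  rw [TensorSymp.single_eq_ten]
  exact h2 _ _

variable {ε : F} {JA : Matrix α α F} {JB : Matrix β β F} {M : Subgroup (GL (α × β) F)}

namespace Hyp

variable (H : Hyp ε JA JB M)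
include H

theorem form_swap (x y : α × β → F) :
    ((JA ⊗ₖ JB) *ᵥ y) ⬝ᵥ x = -(((JA ⊗ₖ JB) *ᵥ x) ⬝ᵥ y) := by
  rw [dotProduct_comm, Matrix.dotProduct_mulVec, ← Matrix.mulVec_transpose, H.form_skew, Matrix.neg_mulVec,
    neg_dotProduct]

theorem centre_conj {g : GL (α × β) F} (hg : g ∈ M) {x : α × β → F} (hx : Centre JA JB M x) :
    Centre JA JB M (g.1 *ᵥ x) := by
  intro c
  obtain ⟨t, ht, ht'⟩ := hx c
  refine ⟨g * t * g⁻¹, M.mul_mem (M.mul_mem hg ht) (M.inv_mem hg), ?_⟩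
  have e : ((JA ⊗ₖ JB) *ᵥ x) ᵥ* (g⁻¹).1 = (JA ⊗ₖ JB) *ᵥ (g.1 *ᵥ x) := by
    have h1 : ((JA ⊗ₖ JB) *ᵥ (g.1 *ᵥ x)) ᵥ* g.1 = (JA ⊗ₖ JB) *ᵥ x := by
      rw [← Matrix.mulVec_transpose, Matrix.mulVec_mulVec, Matrix.mulVec_mulVec, H.le g hg]
    rw [← h1, Matrix.vecMul_vecMul, g.mul_inv, Matrix.vecMul_one]
  rw [Units.val_mul, Units.val_mul, ht', Matrix.mul_add, Matrix.mul_one, Matrix.add_mul, g.mul_inv, Matrix.mul_smul,
    Matrix.smul_mul, Matrix.mul_vecMulVec, Matrix.vecMulVec_mul, e]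

theorem centre_smul {x : α × β → F} (hx : Centre JA JB M x) (d : F) : Centre JA JB M (d • x) := by
  intro c
  rw [Matrix.mulVec_smul, Matrix.smul_vecMulVec, Matrix.vecMulVec_smul, smul_smul, smul_smul]
  exact hx _

theorem centre_zero : Centre JA JB M (0 : α × β → F) := fun c => by
  rw [Matrix.zero_vecMulVec, smul_zero, add_zero]
  exact ⟨1, M.one_mem, rfl⟩

theorem centre_join {x y : α × β → F} (hx : Centre JA JB M x) (hy : Centre JA JB M y)
    (h : ((JA ⊗ₖ JB) *ᵥ x) ⬝ᵥ y ≠ 0) (c : F) : Centre JA JB M (x + c • y) := by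
  obtain ⟨t, ht, ht'⟩ := hy (c / (((JA ⊗ₖ JB) *ᵥ y) ⬝ᵥ x))
  have h' : ((JA ⊗ₖ JB) *ᵥ y) ⬝ᵥ x ≠ 0 := by rw [H.form_swap]; exact neg_ne_zero.2 h
  have := H.centre_conj ht hx
  rwa [ht', Matrix.add_mulVec, Matrix.one_mulVec, Matrix.smul_mulVec, Matrix.vecMulVec_mulVec, op_smul_eq_smul,
    smul_smul, div_mul_cancel₀ _ h'] at this

/-- A connected spanning set of pure centres gives every centre. -/
theorem centre_all {U : Set (α → F)} {W : Set (β → F)} (hU : Submodule.span F U = ⊤)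
    (hW : Submodule.span F W = ⊤)
    (hUn : ∀ u ∈ U, ∀ u' ∈ U, ∃ e ∈ U, (JA *ᵥ u) ⬝ᵥ e ≠ 0 ∧ (JA *ᵥ e) ⬝ᵥ u' ≠ 0)
    (hWn : ∀ w ∈ W, ∀ w' ∈ W, ∃ e ∈ W, (JB *ᵥ w) ⬝ᵥ e ≠ 0 ∧ (JB *ᵥ e) ⬝ᵥ w' ≠ 0)
    (hc : ∀ u ∈ U, ∀ w ∈ W, Centre JA JB M (ten u w)) : ∀ x, Centre JA JB M x := by
  refine closed_all H.two (fun x y => ((JA ⊗ₖ JB) *ᵥ x) ⬝ᵥ y) (fun x y z => dotProduct_add _ _ _)
    (fun c x y => by rw [dotProduct_smul, smul_eq_mul]) (fun x y => H.form_swap x y) (fun v hv => ?_)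
    {x | Centre JA JB M x} {x | ∃ u ∈ U, ∃ w ∈ W, x = ten u w} H.centre_zero
    (fun x hx y hy h c => H.centre_join hx hy h c) (fun x hx c => H.centre_smul hx c) ?_ (span_ten hU hW) ?_
  · by_contra hc
    push Not at hc
    refine hv ?_
    have h0 : v ᵥ* (JA ⊗ₖ JB) = 0 := dotProduct_eq_zero _ fun y => by
      rw [← Matrix.dotProduct_mulVec, dotProduct_comm]; exact hc y
    have h1 := congrArg (· ᵥ* (JA ⊗ₖ JB)⁻¹) h0
    simpa only [Matrix.vecMul_vecMul, Matrix.mul_nonsing_inv _ H.det_form, Matrix.vecMul_one, Matrix.zero_vecMul]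
      using h1
  · rintro x ⟨u, hu, w, hw, rfl⟩
    exact hc u hu w hw
  · rintro _ ⟨u, hu, w, hw, rfl⟩ _ ⟨u', hu', w', hw', rfl⟩
    obtain ⟨e, he, e1, e2⟩ := hUn u hu u' hu'
    obtain ⟨f, hf, f1, f2⟩ := hWn w hw w' hw'
    exact ⟨ten e f, ⟨e, he, f, hf, rfl⟩, by rw [kron_mulVec_ten, ten_dot]; exact mul_ne_zero e1 f1,
      by rw [kron_mulVec_ten, ten_dot]; exact mul_ne_zero e2 f2⟩

/-- A non-scalar central element is no Kronecker product. -/
theorem not_tens_zm {w : β → F} (hw : (JB *ᵥ w) ⬝ᵥ w = 0) (hw0 : w ≠ 0) {C : Matrix α α F}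
    (hC : ∀ c : F, C ≠ c • 1) : ¬ Tens (1 + Zm JB w C : Matrix (α × β) (α × β) F) := by
  rintro ⟨S, T, hST⟩
  obtain ⟨z, wz, -, -⟩ := H.exists_dual hw hw0
  obtain ⟨θ, t1, t2⟩ := exists_dual_pair hw0 (v := z) (fun c e => by
    rw [e, dotProduct_smul, hw, smul_zero] at wz
    exact zero_ne_one wz) 1 0
  have h0 : kc α w = kc α (T *ᵥ w) * S := by
    rw [← kron_mul_kc, ← hST, Matrix.add_mul, Matrix.one_mul, H.zm_mul_kc, hw, zero_smul, add_zero]
  have hz : kc α z + kc α w * C = kc α (T *ᵥ z) * S := by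
    rw [← kron_mul_kc, ← hST, Matrix.add_mul, Matrix.one_mul, H.zm_mul_kc, wz, one_smul]
  have e0 := congrArg (kr α θ * ·) h0
  have e1 := congrArg (kr α θ * ·) hz
  simp only [Matrix.mul_add, kr_mul_kc, kr_kc_mul, t1, t2, one_smul, zero_smul, zero_add] at e0 e1
  have hne : θ ⬝ᵥ (T *ᵥ w) ≠ 0 := fun e => by
    haveI := H.nonempty_left
    rw [e, zero_smul] at e0
    exact one_ne_zero e0
  refine hC ((θ ⬝ᵥ (T *ᵥ z)) * (θ ⬝ᵥ (T *ᵥ w))⁻¹) ?_
  rw [e1, mul_smul, e0, smul_smul (θ ⬝ᵥ (T *ᵥ w))⁻¹, inv_mul_cancel₀ hne, one_smul]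

end Hyp

end CfsgLib.Classical.TensorMixed
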