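import Cfsg.Agent.Lib.Classical.TensorMixed.Gen

set_option autoImplicit false
set_option linter.unusedSectionVars false

/-!
The case of a two-dimensional symplectic first and an orthogonal second factor: basic facts.
-/

namespace CfsgLib.Classical.TensorMixed

open Matrix CfsgLib.Classical.TensorMax CfsgLib.Orth
open CfsgLib.Classical.TensorOrth (Gram exists_frame Plane)
open CfsgLib.Classical.TensorSymp (adj Sp AForm tv ten kr_mul_apply kc_mul_apply eq_of_mul_kc_all kron_mulVec_ten)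
open scoped MatrixGroups Kronecker

variable {F : Type*} [Field F] [Finite F] {α β : Type} [Fintype α] [DecidableEq α] [Fintype β] [DecidableEq β]

/-- The hypotheses of the case. -/
structure OrthHyp (QB : QuadraticForm F (β → F)) (JA : Matrix α α F) (JB : Matrix β β F)
    (M : Subgroup (GL (α × β) F)) : Prop extends Hyp (1 : F) JA JB M where
  gB : Gram QB JB
  dimA : Fintype.card α = 2
  size : 5 ≤ Fintype.card β ∨ (Fintype.card β = 3 ∧ ∃ ω : F, ω ≠ 0 ∧ ω ≠ 1 ∧ ω ≠ -1) ∨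
    (Fintype.card β = 4 ∧ ∀ U : Submodule F (β → F), Module.finrank F U = 2 → ∃ x ∈ U, QB x ≠ 0)

/-- The central levels which occur at the singular vectors. -/
def ZsO (QB : QuadraticForm F (β → F)) (JB : Matrix β β F) (M : Subgroup (GL (α × β) F)) (C : Matrix α α F) : Prop :=
  ∀ w : β → F, QB w = 0 → w ≠ 0 → InM M (1 + Zm JB w C)

variable {QB : QuadraticForm F (β → F)} {JA : Matrix α α F} {JB : Matrix β β F} {M : Subgroup (GL (α × β) F)}

/-- An anisotropic vector of `W` outside `H`. -/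
theorem exists_aniso_notMem {QB : QuadraticForm F (β → F)} (h2 : (2 : F) ≠ 0) {W H : Submodule F (β → F)}
    {v₀ : β → F} (hv₀ : v₀ ∈ W) (q₀ : QB v₀ ≠ 0) (hle : ¬ W ≤ H) : ∃ v ∈ W, QB v ≠ 0 ∧ v ∉ H := by
  obtain ⟨x, hx, hxH⟩ := SetLike.not_le_iff_exists.1 hle
  by_cases qx : QB x = 0
  swap
  · exact ⟨x, hx, qx, hxH⟩
  by_cases hv : v₀ ∈ H
  swap
  · exact ⟨v₀, hv₀, q₀, hv⟩
  by_cases hs : QB (v₀ + x) = 0
  · refine ⟨v₀ + (-1 : F) • x, W.add_mem hv₀ (W.smul_mem _ hx), fun e => ?_, fun e => hxH ?_⟩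
    · rw [q_add, qx] at hs
      rw [q_add, q_smul, qx, b_smul_right] at e
      exact q₀ ((mul_eq_zero.1 (show (2 : F) * QB v₀ = 0 by linear_combination hs + e)).resolve_left h2)
    · have := H.sub_mem hv e
      rwa [neg_one_smul, ← sub_eq_add_neg, sub_sub_cancel] at this
  · exact ⟨v₀ + x, W.add_mem hv₀ hx, hs, fun e => hxH (by simpa using H.sub_mem e hv)⟩

/-- An anisotropic vector outside `H` with a singular vector of `W` orthogonal to it. -/
theorem exists_pair_perp {QB : QuadraticForm F (β → F)} (h2 : (2 : F) ≠ 0) {W H : Submodule F (β → F)}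
    (hW : 3 ≤ Module.finrank F W) {v₀ : β → F} (hv₀ : v₀ ∈ W) (q₀ : QB v₀ ≠ 0) (hle : ¬ W ≤ H) :
    ∃ v ∈ W, QB v ≠ 0 ∧ v ∉ H ∧ ∃ y ∈ W, y ≠ 0 ∧ QB y = 0 ∧ QuadraticMap.polar ⇑QB v y = 0 := by
  classical
  by_cases hr : ∃ r ∈ W, r ≠ 0 ∧ ∀ z ∈ W, QuadraticMap.polar ⇑QB z r = 0
  · obtain ⟨r, hr, hr0, hz⟩ := hr
    obtain ⟨v, hv, qv, hvH⟩ := exists_aniso_notMem h2 hv₀ q₀ hle
    have e := hz r hr
    rw [b_self] at e
    exact ⟨v, hv, qv, hvH, r, hr, hr0, (mul_eq_zero.1 e).resolve_left h2, hz v hv⟩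
  push Not at hr
  obtain ⟨y, hy, hy0, qy⟩ := exists_singular (Q := QB) (U := W) hW
  obtain ⟨z, hz, hzy⟩ := hr y hy hy0
  obtain ⟨z1, hz1, e1⟩ : ∃ z1 ∈ W, QuadraticMap.polar ⇑QB y z1 = 1 :=
    ⟨(QuadraticMap.polar ⇑QB z y)⁻¹ • z, W.smul_mem _ hz, by rw [b_smul_right, b_comm y z, inv_mul_cancel₀ hzy]⟩
  obtain ⟨f, rfl⟩ : ∃ f, f = z1 - QB z1 • y := ⟨_, rfl⟩
  have hf : z1 - QB z1 • y ∈ W := W.sub_mem hz1 (W.smul_mem _ hy)
  generalize hfdef : z1 - QB z1 • y = f at hf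
  have yf : QuadraticMap.polar ⇑QB y f = 1 := by
    rw [← hfdef, b_sub_right, b_smul_right, e1, b_self_zero qy, mul_zero, sub_zero]
  have qf : QB f = 0 := by
    rw [← hfdef, q_sub, q_smul, qy, b_smul_right, b_comm z1 y, e1]; ring
  have hf0 : f ≠ 0 := fun e => by rw [e, b_zero_right] at yf; exact zero_ne_one yf
  let W' : Submodule F (β → F) := W ⊓ orth QB (Submodule.span F {y, f})
  have mW' : ∀ {x}, x ∈ W' → x ∈ W ∧ QuadraticMap.polar ⇑QB x y = 0 ∧ QuadraticMap.polar ⇑QB x f = 0 := fun {x} hx =>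
    ⟨hx.1, by rw [b_comm]; exact mem_orth.1 hx.2 y (Submodule.subset_span (by simp)),
      by rw [b_comm]; exact mem_orth.1 hx.2 f (Submodule.subset_span (by simp))⟩
  have split : ∀ x ∈ W, x - QuadraticMap.polar ⇑QB x f • y - QuadraticMap.polar ⇑QB x y • f ∈ W' := by
    intro x hx
    refine ⟨W.sub_mem (W.sub_mem hx (W.smul_mem _ hy)) (W.smul_mem _ hf), mem_orth.2 fun u hu => ?_⟩
    obtain ⟨a, b, rfl⟩ := Submodule.mem_span_pair.1 hu
    simp only [b_add_left, b_smul_left, b_sub_right, b_smul_right, b_self_zero qy, b_self_zero qf, yf,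
      b_comm f y, b_comm y x, b_comm f x]
    ring
  obtain ⟨v₁, hv₁, q₁⟩ : ∃ v ∈ W', QB v ≠ 0 := by
    by_contra hc
    push Not at hc
    have hsp : W ≤ Submodule.span F (({y, f} : Finset (β → F)) : Set (β → F)) := by
      intro x hx
      have h0 : x - QuadraticMap.polar ⇑QB x f • y - QuadraticMap.polar ⇑QB x y • f = 0 := by
        by_contra hne
        obtain ⟨u, hu, hue⟩ := hr _ (split x hx).1 hne
        refine hue ?_
        have hu' := split u hu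
        have hb : ∀ a ∈ W', ∀ b ∈ W', QuadraticMap.polar ⇑QB a b = 0 := fun a ha b hb => by
          have := hc _ (W'.add_mem ha hb)
          rwa [q_add, hc a ha, hc b hb, zero_add, zero_add] at this
        have h3 := hb _ hu' _ (split x hx)
        obtain ⟨-, m1, m2⟩ := mW' (split x hx)
        rw [b_sub_left, b_sub_left, b_smul_left, b_smul_left, b_comm y (_ - _), m1, b_comm f (_ - _), m2] at h3
        simpa using h3
      rw [sub_sub, sub_eq_zero] at h0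
      rw [h0]
      exact Submodule.add_mem _ (Submodule.smul_mem _ _ (Submodule.subset_span (by simp)))
        (Submodule.smul_mem _ _ (Submodule.subset_span (by simp)))
    have := (Submodule.finrank_mono hsp).trans ((finrank_span_finset_le_card _).trans Finset.card_le_two)
    omega
  obtain ⟨hv1W, v1y, v1f⟩ := mW' hv₁
  by_cases hle' : W' ≤ H
  swap
  · obtain ⟨v, hv, qv, hvH⟩ := exists_aniso_notMem h2 hv₁ q₁ hle'
    exact ⟨v, (mW' hv).1, qv, hvH, y, hy, hy0, qy, (mW' hv).2.1⟩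
  by_cases hyH : y ∈ H
  · have hfH : f ∉ H := fun hfH => hle fun x hx => by
      have := H.add_mem (H.add_mem (hle' (split x hx)) (H.smul_mem (QuadraticMap.polar ⇑QB x f) hyH))
        (H.smul_mem (QuadraticMap.polar ⇑QB x y) hfH)
      convert this using 1
      abel
    exact ⟨v₁ + f, W.add_mem hv1W hf, by rwa [q_add, qf, v1f, add_zero, add_zero],
      fun e => hfH (by simpa using H.sub_mem e (hle' hv₁)), f, hf, hf0, qf,
      by rw [b_add_left, v1f, b_self_zero qf, add_zero]⟩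
  · exact ⟨v₁ + y, W.add_mem hv1W hy, by rwa [q_add, qy, v1y, add_zero, add_zero],
      fun e => hyH (by simpa using H.sub_mem e (hle' hv₁)), y, hy, hy0, qy,
      by rw [b_add_left, v1y, b_self_zero qy, add_zero]⟩

namespace OrthHyp

variable (H : OrthHyp QB JA JB M)
include H

theorem aA : AForm JA where
  skew := by rw [H.tA, neg_one_smul]
  alt x := by
    have e := H.swapA x x
    have : (2 : F) * ((JA *ᵥ x) ⬝ᵥ x) = 0 := by linear_combination e
    rw [dotProduct_comm]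
    exact (mul_eq_zero.1 this).resolve_left H.two
  det_ne := H.dA

theorem dimB : 3 ≤ Module.finrank F (β → F) := by
  rw [Module.finrank_pi]
  exact H.three

theorem sing {w : β → F} : QB w = 0 ↔ (JB *ᵥ w) ⬝ᵥ w = 0 := H.gB.sing_iff w

theorem sp_refl {v : β → F} (hv : QB v ≠ 0) :
    Sp JB (1 + (-(QB v)⁻¹) • Matrix.vecMulVec v (JB *ᵥ v)) :=
  sp_rank_one (δ := 1) (by rw [one_smul]; exact H.gB.symm) (by
    rw [H.gB.self]
    field_simp
    ring)

theorem refl_mulVec (v x : β → F) :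
    (1 + (-(QB v)⁻¹) • Matrix.vecMulVec v (JB *ᵥ v)) *ᵥ x =
      x - ((QB v)⁻¹ * QuadraticMap.polar ⇑QB v x) • v := by
  rw [Matrix.add_mulVec, Matrix.one_mulVec, Matrix.smul_mulVec, Matrix.vecMulVec_mulVec, op_smul_eq_smul,
    smul_smul, H.gB.dot_polar, neg_mul, neg_smul, ← sub_eq_add_neg]

theorem exists_sing : ∃ w : β → F, QB w = 0 ∧ w ≠ 0 := H.gB.exists_sing H.three

theorem singular_neighbour {w w' : β → F} (hw : QB w = 0) (hw0 : w ≠ 0) (hw' : QB w' = 0) (hw0' : w' ≠ 0) :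
    ∃ e, QB e = 0 ∧ e ≠ 0 ∧ QuadraticMap.polar ⇑QB w e ≠ 0 ∧ QuadraticMap.polar ⇑QB e w' ≠ 0 := by
  by_cases hd : QuadraticMap.polar ⇑QB w w' = 0
  swap
  · obtain ⟨f, hf, f1, f2⟩ := H.gB.exists_third H.three hw hw' hd
    exact ⟨f, hf, ne_zero_of_b f1, by rwa [b_comm], f2⟩
  obtain ⟨y, -, hy⟩ := exists_partner H.gB.nd hw hw0
  obtain ⟨y', -, hy'⟩ := exists_partner H.gB.nd hw' hw0'
  obtain ⟨z, z1, z2⟩ : ∃ z, QuadraticMap.polar ⇑QB w z ≠ 0 ∧ QuadraticMap.polar ⇑QB w' z ≠ 0 := by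
    by_cases e1 : QuadraticMap.polar ⇑QB w' y = 0
    swap
    · exact ⟨y, by rw [hy]; exact one_ne_zero, e1⟩
    by_cases e2 : QuadraticMap.polar ⇑QB w y' = 0
    swap
    · exact ⟨y', e2, by rw [hy']; exact one_ne_zero⟩
    exact ⟨y + y', by rw [b_add_right, hy, e2, add_zero]; exact one_ne_zero,
      by rw [b_add_right, hy', e1, zero_add]; exact one_ne_zero⟩
  obtain ⟨e, he⟩ : ∃ e, e = z - (QB z / QuadraticMap.polar ⇑QB w z) • w := ⟨_, rfl⟩
  have e1 : QuadraticMap.polar ⇑QB w e = QuadraticMap.polar ⇑QB w z := by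
    rw [he, b_sub_right, b_smul_right, b_self_zero hw, mul_zero, sub_zero]
  refine ⟨e, ?_, fun h => z1 (by rw [← e1, h, b_zero_right]), by rwa [e1], ?_⟩
  · rw [he, q_sub, q_smul, hw, b_smul_right, b_comm z w, mul_zero, add_zero, div_mul_cancel₀ _ z1, sub_self]
  · rw [he, b_sub_left, b_smul_left, hd, mul_zero, sub_zero, b_comm]; exact z2

theorem move_of_ne {w w' : β → F} (hw : QB w = 0) (hw' : QB w' = 0)
    (h : QuadraticMap.polar ⇑QB w w' ≠ 0) : ∃ T, Sp JB T ∧ T *ᵥ w = w' := by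
  have hq : QB (w - w') = -QuadraticMap.polar ⇑QB w w' := by rw [q_sub, hw, hw', zero_add, zero_sub]
  have hq0 : QB (w - w') ≠ 0 := by rw [hq]; exact neg_ne_zero.2 h
  refine ⟨_, H.sp_refl hq0, ?_⟩
  rw [H.refl_mulVec, b_sub_left, b_self_zero hw, b_comm w' w, zero_sub, ← hq, inv_mul_cancel₀ hq0, one_smul,
    sub_sub_cancel]

theorem moveB {w w' : β → F} (hw : QB w = 0) (hw' : QB w' = 0) (h0 : w ≠ 0) (h0' : w' ≠ 0) :
    ∃ T, Sp JB T ∧ T *ᵥ w = w' := by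
  obtain ⟨e, he, -, e1, e2⟩ := H.singular_neighbour hw h0 hw' h0'
  obtain ⟨T₁, h₁, h₁'⟩ := H.move_of_ne hw he e1
  obtain ⟨T₂, h₂, h₂'⟩ := H.move_of_ne he hw' e2
  refine ⟨T₂ * T₁, ?_, by rw [← Matrix.mulVec_mulVec, h₁', h₂']⟩
  calc (T₂ * T₁)ᵀ * JB * (T₂ * T₁) = T₁ᵀ * (T₂ᵀ * JB * T₂) * T₁ := by
        rw [Matrix.transpose_mul]; simp only [Matrix.mul_assoc]
    _ = JB := by rw [h₂, h₁]

theorem line_of_perp {u x : α → F} (hu : u ≠ 0) (h : (JA *ᵥ u) ⬝ᵥ x = 0) : ∃ c : F, x = c • u := by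
  by_contra hc
  push Not at hc
  obtain ⟨y, hy⟩ := H.aA.exists_form_ne hu
  have hli : LinearIndependent F ![u, x] := (LinearIndependent.pair_iff' hu).2 fun a e => hc a e.symm
  have htop := hli.span_eq_top_of_card_eq_finrank (by rw [Fintype.card_fin, Module.finrank_pi, H.dimA])
  have hy' : y ∈ Submodule.span F ({u, x} : Set (α → F)) := by
    rw [← Matrix.range_cons_cons_empty, htop]
    trivial
  obtain ⟨a, b, rfl⟩ := Submodule.mem_span_pair.1 hy'
  rw [dotProduct_add, dotProduct_smul, dotProduct_smul, H.aA.self, h, smul_zero, smul_zero, add_zero] at hy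
  exact zero_ne_one hy

theorem exists_value {C : Matrix α α F} (hC : ∀ c : F, C ≠ c • 1) : ∃ u : α → F, (JA *ᵥ u) ⬝ᵥ (C *ᵥ u) ≠ 0 := by
  haveI := H.nonempty_left
  obtain ⟨u, hu, hu'⟩ := exists_moved hC
  refine ⟨u, fun e => ?_⟩
  obtain ⟨c, hc⟩ := H.line_of_perp hu e
  exact hu' c hc

theorem scalar_of_self {E : Matrix α α F} (h : adj JA E = E) : ∃ c : F, E = c • 1 := by
  by_contra hc
  push Not at hc
  obtain ⟨u, hu⟩ := H.exists_value hc
  refine hu ?_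
  have e1 : (JA *ᵥ (adj JA E *ᵥ u)) ⬝ᵥ u = (JA *ᵥ u) ⬝ᵥ (E *ᵥ u) := by
    rw [adj, Matrix.mulVec_mulVec, ← Matrix.mul_assoc, ← Matrix.mul_assoc, Matrix.mul_nonsing_inv JA H.iA,
      Matrix.one_mul, ← Matrix.mulVec_mulVec, Matrix.mulVec_transpose, ← Matrix.dotProduct_mulVec]
  rw [h, H.aA.swap] at e1
  have : (2 : F) * ((JA *ᵥ u) ⬝ᵥ (E *ᵥ u)) = 0 := by linear_combination -e1
  exact (mul_eq_zero.1 this).resolve_left H.two

theorem scalarLevels (hS : Small JB M) : ScalarLevels JB M := by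
  intro w hw hw0 h hh y hy E he
  obtain ⟨c, hc⟩ := hS w hw hw0 _ (H.rad_comm hw hw0 hh hy he)
  rw [one_smul] at hc
  refine H.scalar_of_self ?_
  have h1 := congrArg (adj JA) hc
  rw [H.adj_sub, H.adj_adj, H.adj_smul, H.adj_one, ← neg_sub, hc, neg_eq_iff_add_eq_zero, ← two_smul F, smul_eq_zero,
    or_iff_right H.two] at h1
  rw [h1, sub_eq_zero] at hc
  exact hc.symm

theorem zs_of {w : β → F} (hw : QB w = 0) (hw0 : w ≠ 0) {C : Matrix α α F} (h : InM M (1 + Zm JB w C)) :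
    ZsO QB JB M C := by
  intro w' hw' hw0'
  obtain ⟨T, hT, e⟩ := H.moveB hw hw' hw0 hw0'
  have := H.inM_zm_conj (H.sp_one JA) hT h
  rwa [e, inv_one, Matrix.one_mul, Matrix.mul_one] at this

theorem zs_add {C C' : Matrix α α F} (h : ZsO QB JB M C) (h' : ZsO QB JB M C') : ZsO QB JB M (C + C') :=
  fun w hw hw0 => by
    rw [H.zm_add]
    exact (h w hw hw0).add (h' w hw hw0) (H.zm_mul (H.sing.1 hw) _ _)

theorem zs_neg {C : Matrix α α F} (h : ZsO QB JB M C) : ZsO QB JB M (-C) := fun w hw hw0 => by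
  have := (h w hw hw0).neg (H.zm_mul (H.sing.1 hw) _ _)
  rwa [← neg_one_smul F (Zm JB w C), ← H.zm_smul, neg_one_smul] at this

theorem zs_smul {C : Matrix α α F} (h : ZsO QB JB M C) (c : F) : ZsO QB JB M (c • C) := by
  have hsq : ∀ d : F, ZsO QB JB M ((d * d) • C) := fun d w hw hw0 => by
    by_cases hd : d = 0
    · simpa [hd, Zm] using (InM.one : InM M 1)
    rw [← H.zm_smul_vec]
    exact h _ (by rw [q_smul, hw, mul_zero]) (smul_ne_zero hd hw0)
  have e : c = (c + 1) * (2 : F)⁻¹ * ((c + 1) * (2 : F)⁻¹) - (c - 1) * (2 : F)⁻¹ * ((c - 1) * (2 : F)⁻¹) := by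
    have h2 := H.two
    field_simp
    ring
  rw [e, sub_smul, sub_eq_add_neg]
  exact H.zs_add (hsq _) (H.zs_neg (hsq _))

theorem zs_conj {C : Matrix α α F} (h : ZsO QB JB M C) {S : Matrix α α F} (hS : Sp JA S) :
    ZsO QB JB M (S * C * S⁻¹) := fun w hw hw0 => by
  have := H.inM_zm_conj hS (H.sp_one JB) (h w hw hw0)
  rwa [Matrix.one_mulVec] at this

/-- A non-scalar central element gives every pure transvection. -/
theorem zs_root (hns : ¬ Small JB M) {u : α → F} (hu : u ≠ 0) :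
    ZsO QB JB M (Matrix.vecMulVec u (JA *ᵥ u)) := by
  unfold Small at hns
  push Not at hns
  obtain ⟨w, hw, hw0, C, hC, hns⟩ := hns
  obtain ⟨u₀, hu₀⟩ := H.exists_value hns
  obtain ⟨κ, hκ⟩ : ∃ κ, κ = (JA *ᵥ u₀) ⬝ᵥ (C *ᵥ u₀) := ⟨_, rfl⟩
  rw [← hκ] at hu₀
  have hz : ZsO QB JB M C := H.zs_of (H.sing.2 hw) hw0 hC
  obtain ⟨N, hN⟩ : ∃ N, N = Matrix.vecMulVec u₀ (JA *ᵥ u₀) := ⟨_, rfl⟩
  have hA := H.aA
  have i1 : (tv JA u₀ 1)⁻¹ = tv JA u₀ (-1) := Matrix.inv_eq_right_inv (hA.tv_mul_neg u₀ 1)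
  have i2 : (tv JA u₀ (-1))⁻¹ = tv JA u₀ 1 := Matrix.inv_eq_left_inv (hA.tv_mul_neg u₀ 1)
  have v1 : tv JA u₀ 1 = 1 + N := by rw [tv, one_smul, hN]
  have v2 : tv JA u₀ (-1) = 1 - N := by rw [tv, neg_one_smul, Matrix.neg_vecMulVec, hN, sub_eq_add_neg]
  have h1 := H.zs_conj hz (hA.sp_tv u₀ 1)
  have h2 := H.zs_conj hz (hA.sp_tv u₀ (-1))
  rw [i1, v1, v2] at h1
  rw [i2, v1, v2] at h2
  have h3 := H.zs_add (H.zs_add h1 h2) (H.zs_smul hz (-2))
  have hNCN : N * C * N = κ • N := by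
    rw [hN, Matrix.vecMulVec_mul, Matrix.vecMulVec_mul_vecMulVec, ← Matrix.dotProduct_mulVec, ← hκ,
      Matrix.vecMulVec_smul]
  have e : (1 + N) * C * (1 - N) + (1 - N) * C * (1 + N) + (-2 : F) • C = (-2 * κ) • N := by
    rw [mul_smul, ← hNCN]
    simp only [Matrix.mul_add, Matrix.add_mul, Matrix.mul_sub, Matrix.sub_mul, Matrix.one_mul, Matrix.mul_one]
    module
  rw [e] at h3
  have h4 := H.zs_smul h3 (-2 * κ)⁻¹
  rw [smul_smul, inv_mul_cancel₀ (mul_ne_zero (neg_ne_zero.2 H.two) hu₀), one_smul, hN] at h4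
  have hu₀' : u₀ ≠ 0 := fun e => hu₀ (by rw [hκ, e, Matrix.mulVec_zero, zero_dotProduct])
  obtain ⟨S, hS, hSu⟩ : ∃ S, Sp JA S ∧ S *ᵥ u₀ = u := by
    by_cases hne : (JA *ᵥ u) ⬝ᵥ u₀ = 0
    · obtain ⟨y, -, hy1, hy2⟩ := hA.exists_both (fun i : Fin 0 => i.elim0)
        (by obtain ⟨y, hy⟩ := hA.exists_form_ne hu₀'; exact ⟨y, fun i => i.elim0, by rw [hy]; exact one_ne_zero⟩)
        (by obtain ⟨y, hy⟩ := hA.exists_form_ne hu; exact ⟨y, fun i => i.elim0, by rw [hy]; exact one_ne_zero⟩)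
      rw [hA.swap] at hy1
      refine ⟨_, hA.sp_mul (hA.sp_tv (u - y) ((JA *ᵥ u) ⬝ᵥ y)⁻¹) (hA.sp_tv (y - u₀) ((JA *ᵥ y) ⬝ᵥ u₀)⁻¹), ?_⟩
      rw [← Matrix.mulVec_mulVec, hA.tv_move (neg_ne_zero.1 hy1), hA.tv_move hy2]
    · exact ⟨_, hA.sp_tv _ _, hA.tv_move hne⟩
  have h5 := H.zs_conj h4 hS
  have e2 : (JA *ᵥ u₀) ᵥ* S⁻¹ = JA *ᵥ u := by
    rw [← hA.vecMul_image hS u₀, Matrix.vecMul_vecMul, (H.sp_inv H.dA hS).1, Matrix.vecMul_one, hSu]
  rwa [Matrix.mul_vecMulVec, Matrix.vecMulVec_mul, hSu, e2] at h5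

theorem singular_span : Submodule.span F {x : β → F | QB x = 0 ∧ x ≠ 0} = ⊤ := by
  set T := Submodule.span F {x : β → F | QB x = 0 ∧ x ≠ 0} with hT
  have hm : ∀ x, QB x = 0 → x ∈ T := fun x hx => by
    by_cases h : x = 0
    · rw [h]; exact T.zero_mem
    · exact Submodule.subset_span ⟨hx, h⟩
  obtain ⟨u, hu, hu0⟩ := H.exists_sing
  refine top_unique fun a _ => ?_
  obtain ⟨u', hu', huu⟩ := exists_partner H.gB.nd hu hu0
  obtain ⟨p, q, z, z1, z2, rfl⟩ := H.gB.partner_decomp hu hu0 hu' huu a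
  have e : z = (u' + z + (-QB z) • u) + (-1 : F) • u' + QB z • u := by module
  refine T.add_mem (T.add_mem (T.smul_mem _ (hm u hu)) (T.smul_mem _ (hm u' hu'))) ?_
  rw [e]
  refine T.add_mem (T.add_mem (hm _ ?_) (T.smul_mem _ (hm u' hu'))) (T.smul_mem _ (hm u hu))
  rw [q_add, q_add, q_smul, hu', hu, z2, b_add_left, b_smul_right, b_smul_right, b_comm u' u, huu, b_comm z u, z1]
  ring

/-- A non-scalar central element gives all transvections. -/
theorem centre_everywhere (hns : ¬ Small JB M) : ∀ x, Centre JA JB M x := by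
  have hspanA : Submodule.span F {x : α → F | x ≠ 0} = ⊤ := by
    refine top_unique fun v _ => ?_
    by_cases hv : v = 0
    · rw [hv]; exact Submodule.zero_mem _
    · exact Submodule.subset_span hv
  refine H.centre_all (U := {x : α → F | x ≠ 0}) (W := {x : β → F | QB x = 0 ∧ x ≠ 0}) hspanA H.singular_span
    ?_ ?_ ?_
  · intro w hw w' hw'
    have hA := H.aA
    obtain ⟨y, -, y1, y2⟩ := hA.exists_both (fun i : Fin 0 => i.elim0)
      (by obtain ⟨y, hy⟩ := hA.exists_form_ne hw; exact ⟨y, fun i => i.elim0, by rw [hy]; exact one_ne_zero⟩)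
      (by obtain ⟨y, hy⟩ := hA.exists_form_ne hw'; exact ⟨y, fun i => i.elim0, by rw [hy]; exact one_ne_zero⟩)
    exact ⟨y, fun e => y1 (by rw [e, dotProduct_zero]), y1, by rw [hA.swap]; exact neg_ne_zero.2 y2⟩
  · rintro w ⟨hw, hw0⟩ w' ⟨hw', hw0'⟩
    obtain ⟨e, he, he0, e1, e2⟩ := H.singular_neighbour hw hw0 hw' hw0'
    exact ⟨e, ⟨he, he0⟩, by rwa [H.gB.dot_polar], by rwa [H.gB.dot_polar]⟩
  · intro u hu w hw c
    have hzm : (Zm JB w (Matrix.vecMulVec u (JA *ᵥ u)) : Matrix (α × β) (α × β) F) =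
        Matrix.vecMulVec (ten u w) ((JA ⊗ₖ JB) *ᵥ ten u w) := by
      rw [Zm, kc_mul_mul_kr, kron_mulVec_ten]
      ext ⟨i, k⟩ ⟨j, l⟩
      simp [ten, Matrix.vecMulVec_apply, Matrix.kronecker_apply]
      ring
    rw [← hzm, ← H.zm_smul]
    exact H.zs_smul (H.zs_root hns hu) c w hw.1 hw.2

/-- A Kronecker product fixing `F^α ⊗ y` acts on the second factor. -/
theorem right_of_fix {x : GL (α × β) F} (hx : Tens x.1) {y : β → F} (hy : y ≠ 0)
    (hfix : x.1 * kc α y = kc α y) : ∃ T : Matrix β β F, x.1 = (1 : Matrix α α F) ⊗ₖ T := by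
  haveI := H.nonempty_left
  obtain ⟨S, T, hST⟩ := hx
  obtain ⟨θ, hθ⟩ := exists_dual_one hy
  have e1 := congrArg (kr α θ * ·) (hfix.symm.trans (by rw [hST, kron_mul_kc]))
  simp only [kr_mul_kc, kr_kc_mul, hθ, one_smul] at e1
  have hne : θ ⬝ᵥ (T *ᵥ y) ≠ 0 := fun e => by
    rw [e, zero_smul] at e1
    exact one_ne_zero e1
  refine ⟨(θ ⬝ᵥ (T *ᵥ y))⁻¹ • T, ?_⟩
  rw [hST, Matrix.kronecker_smul, ← Matrix.smul_kronecker, e1, smul_smul, inv_mul_cancel₀ hne, one_smul]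

/-- The adjoint of a matrix with a vanishing column lives in one row. -/
theorem adj_row {C : Matrix α α F} {l : α} (hC : ∀ i, C i l = 0) {p : α} (hp : p ≠ l) (q : α) :
    adj JA C p q = 0 := by
  have hd : ∀ p, JA⁻¹ p p = 0 := fun p => by
    have e : JA⁻¹ᵀ = -JA⁻¹ := by
      rw [Matrix.transpose_nonsing_inv, H.aA.skew]
      refine Matrix.inv_eq_right_inv ?_
      rw [neg_mul_neg, Matrix.mul_nonsing_inv JA H.iA]
    have h := congrFun₂ e p p
    rw [Matrix.transpose_apply, Matrix.neg_apply] at h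
    exact (mul_eq_zero.1 (show (2 : F) * JA⁻¹ p p = 0 by linear_combination h)).resolve_left H.two
  rw [adj, Matrix.mul_apply]
  refine Finset.sum_eq_zero fun b _ => ?_
  rw [Matrix.mul_apply, Finset.sum_mul]
  refine Finset.sum_eq_zero fun a _ => ?_
  rw [Matrix.transpose_apply]
  by_cases ha : a = l
  · rw [ha, hC, mul_zero, zero_mul]
  by_cases hpa : p = a
  · rw [hpa, hd, zero_mul, zero_mul]
  exfalso
  have h := Finset.card_le_univ ({p, a, l} : Finset α)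
  rw [H.dimA, Finset.card_insert_of_notMem (by simp [hpa, hp]), Finset.card_pair ha] at h
  omega

/-- A conjugate of a reflection whose residue is orthogonal to a singular vector. -/
theorem refl_fix (hS : Small JB M) {g : GL (α × β) F} (hg : g ∈ M) {v : β → F} (hv : QB v ≠ 0) {y : β → F}
    (hy : QB y = 0) (hy0 : y ≠ 0) (hker : kr α (JB *ᵥ y) * (g.1 * kc α v) = 0) :
    ∃ T : Matrix β β F,
      g.1 * ((1 : Matrix α α F) ⊗ₖ (1 + (-(QB v)⁻¹) • Matrix.vecMulVec v (JB *ᵥ v))) * (g⁻¹).1 =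
        (1 : Matrix α α F) ⊗ₖ T := by
  obtain ⟨r, hr, hr'⟩ := H.inM_right (H.sp_refl hv)
  obtain ⟨k, hk⟩ : ∃ k, k = g * r * g⁻¹ := ⟨_, rfl⟩
  have hkM : k ∈ M := hk ▸ M.mul_mem (M.mul_mem hg hr) (M.inv_mem hg)
  have hkv : k.1 = g.1 * ((1 : Matrix α α F) ⊗ₖ (1 + (-(QB v)⁻¹) • Matrix.vecMulVec v (JB *ᵥ v))) * (g⁻¹).1 := by
    rw [hk, Units.val_mul, Units.val_mul, hr']
  obtain ⟨Z, hZ⟩ : ∃ Z, Z = g.1 * kc α v := ⟨_, rfl⟩
  rw [← hZ] at hker
  have hk1 : kr α (JB *ᵥ y) * k.1 = kr α (JB *ᵥ y) := by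
    rw [hkv, Matrix.kronecker_add, Matrix.one_kronecker_one, Matrix.kronecker_smul, ← kc_mul_kr, Matrix.mul_add,
      Matrix.mul_one, Matrix.add_mul, g.mul_inv, Matrix.mul_add, Matrix.mul_one, Matrix.mul_smul, Matrix.smul_mul,
      Matrix.mul_smul, ← Matrix.mul_assoc g.1, ← hZ, ← Matrix.mul_assoc, ← Matrix.mul_assoc, hker, Matrix.zero_mul,
      Matrix.zero_mul, smul_zero, add_zero]
  have hfix1 := H.fix_of_kr hkM hk1
  have hfix : k.1 * kc α y = kc α y := by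
    conv_lhs => rw [← hfix1]
    rw [← Matrix.mul_assoc, k.mul_inv, Matrix.one_mul]
  have hT := H.tens_of_stab hS (H.scalarLevels hS) hkM (H.sing.1 hy) hy0 (A := 1) (by rw [hfix, Matrix.mul_one])
  obtain ⟨T, hT'⟩ := H.right_of_fix hT hy0 hfix
  exact ⟨T, hkv ▸ hT'⟩

end OrthHyp

end CfsgLib.Classical.TensorMixed
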