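import Cfsg.Agent.Lib.Classical.TensorMixed.OrthBase

set_option autoImplicit false
set_option linter.unusedSectionVars false
set_option linter.unusedSimpArgs false
set_option linter.style.haveILetI false

/-!
The conjugates of the reflections of a three-dimensional orthogonal factor act on it, in an intermediate
group whose central elements are scalars.

For a residual space `Z = g (F^α ⊗ v)` write `ct y` for the contraction of `Z` with `y`; its norm is a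
quadratic form in `y`. A residual space with a pure vector is pure; from this, an anisotropic zero of the
norm makes `ct` vanish there; and if the norm has only singular zeros, a product of two reflections has
an anisotropic one.
-/

namespace CfsgLib.Classical.TensorMixed

open Matrix CfsgLib.Classical.TensorMax CfsgLib.Orth
open CfsgLib.Classical.TensorSymp (adj Sp AForm tv ten kr_mul_apply kc_mul_apply eq_of_mul_kc_all kron_mulVec_ten
  ten_dot kc_mulVec ten_add_left ten_add_right ten_smul_left ten_smul_right)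
open scoped MatrixGroups Kronecker

variable {F : Type*} [Field F] [Finite F] {α β : Type} [Fintype α] [DecidableEq α] [Fintype β] [DecidableEq β]

/-- The contraction of the image of `F^α ⊗ v` with `y`. -/
def ct (JB : Matrix β β F) (g : GL (α × β) F) (v y : β → F) : Matrix α α F :=
  kr α (JB *ᵥ y) * (g.1 * kc α v)

/-- Half the trace of `adj E * E`. -/
noncomputable def nrm (JA E : Matrix α α F) : F := (2 : F)⁻¹ * Matrix.trace (adj JA E * E)

/-- The symmetric product of two vectors of the second factor. -/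
def sy (JB : Matrix β β F) (x y : β → F) : Matrix β β F :=
  Matrix.vecMulVec x (JB *ᵥ y) + Matrix.vecMulVec y (JB *ᵥ x)

/-- The level `S` over the pure transvection at `a`. -/
def Lev (JA : Matrix α α F) (M : Subgroup (GL (α × β) F)) (a : α → F) (S : Matrix β β F) : Prop :=
  InM M (1 + Matrix.vecMulVec a (JA *ᵥ a) ⊗ₖ S)

theorem sy_comm (JB : Matrix β β F) (x y : β → F) : sy JB x y = sy JB y x := add_comm _ _

theorem sy_add_right (JB : Matrix β β F) (x y z : β → F) : sy JB x (y + z) = sy JB x y + sy JB x z := by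
  simp only [sy, Matrix.mulVec_add, Matrix.vecMulVec_add, Matrix.add_vecMulVec]
  abel

theorem sy_smul_right (JB : Matrix β β F) (c : F) (x y : β → F) : sy JB x (c • y) = c • sy JB x y := by
  simp only [sy, Matrix.mulVec_smul, Matrix.vecMulVec_smul, Matrix.smul_vecMulVec, smul_add]

variable {QB : QuadraticForm F (β → F)} {JA : Matrix α α F} {JB : Matrix β β F} {M : Subgroup (GL (α × β) F)}

theorem ct_add (g : GL (α × β) F) (v y z : β → F) : ct JB g v (y + z) = (ct JB g v y + ct JB g v z : Matrix α α F) := by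
  rw [ct, Matrix.mulVec_add, kr_add, Matrix.add_mul, ct, ct]

theorem ct_smul (g : GL (α × β) F) (v : β → F) (c : F) (y : β → F) :
    ct JB g v (c • y) = (c • ct JB g v y : Matrix α α F) := by
  rw [ct, Matrix.mulVec_smul, kr_smul, Matrix.smul_mul, ct]

theorem ct_sub (g : GL (α × β) F) (v y z : β → F) : ct JB g v (y - z) = (ct JB g v y - ct JB g v z : Matrix α α F) := by
  rw [ct, Matrix.mulVec_sub, kr_sub, Matrix.sub_mul, ct, ct]

namespace OrthHyp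

variable (H : OrthHyp QB JA JB M)
include H

/-! ### The norm on the first factor -/

theorem adj_self_mul (E : Matrix α α F) : adj JA E * E = nrm JA E • 1 := by
  obtain ⟨c, hc⟩ := H.scalar_of_self (E := adj JA E * E) (by rw [H.adj_mul, H.adj_adj])
  have h2 := H.two
  rw [nrm, hc, Matrix.trace_smul, Matrix.trace_one, H.dimA, smul_eq_mul, Nat.cast_ofNat]
  congr 1
  field_simp

theorem mul_adj_self (E : Matrix α α F) : E * adj JA E = nrm JA E • 1 := by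
  obtain ⟨s, hs⟩ := H.scalar_of_self (E := E * adj JA E) (by rw [H.adj_mul, H.adj_adj])
  by_cases hE : E = 0
  · rw [hE, Matrix.zero_mul, nrm, Matrix.mul_zero, Matrix.trace_zero, mul_zero, zero_smul]
  rw [hs]
  congr 1
  refine smul_left_injective F hE ?_
  show s • E = nrm JA E • E
  have := congrArg (E * ·) (H.adj_self_mul E)
  rw [← Matrix.mul_assoc, hs, Matrix.smul_mul, Matrix.one_mul, Matrix.mul_smul, Matrix.mul_one] at this
  exact this

theorem nrm_unique {E : Matrix α α F} {c : F} (h : adj JA E * E = c • 1) : nrm JA E = c := by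
  haveI := H.nonempty_left
  exact smul_left_injective F (one_ne_zero (α := Matrix α α F)) ((H.adj_self_mul E).symm.trans h)

theorem nrm_mul (E E' : Matrix α α F) : nrm JA (E * E') = nrm JA E * nrm JA E' :=
  H.nrm_unique (by
    rw [H.adj_mul, Matrix.mul_assoc, ← Matrix.mul_assoc (adj JA E), H.adj_self_mul, Matrix.smul_mul,
      Matrix.one_mul, Matrix.mul_smul, H.adj_self_mul, smul_smul])

theorem nrm_smul (c : F) (E : Matrix α α F) : nrm JA (c • E) = c * c * nrm JA E :=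
  H.nrm_unique (by rw [H.adj_smul, Matrix.smul_mul, Matrix.mul_smul, H.adj_self_mul, smul_smul, smul_smul])

theorem nrm_adj (E : Matrix α α F) : nrm JA (adj JA E) = nrm JA E :=
  H.nrm_unique (by rw [H.adj_adj, H.mul_adj_self])

theorem nrm_zero : nrm JA (0 : Matrix α α F) = 0 := H.nrm_unique (by rw [Matrix.mul_zero, zero_smul])

theorem nrm_expand (E E' : Matrix α α F) : ∃ P : F, ∀ t : F,
    nrm JA (E + t • E') = nrm JA E + t * P + t * t * nrm JA E' := by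
  refine ⟨(2 : F)⁻¹ * (Matrix.trace (adj JA E * E') + Matrix.trace (adj JA E' * E)), fun t => ?_⟩
  simp only [nrm, H.adj_add, H.adj_smul, Matrix.add_mul, Matrix.mul_add, Matrix.smul_mul, Matrix.mul_smul,
    Matrix.trace_add, Matrix.trace_smul, smul_eq_mul]
  ring

/-- The two-dimensional expansion in a symplectic pair. -/
theorem pair_decomp {a a' : α → F} (h : (JA *ᵥ a) ⬝ᵥ a' = 1) (w : α → F) :
    w = ((JA *ᵥ a) ⬝ᵥ w) • a' - ((JA *ᵥ a') ⬝ᵥ w) • a := by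
  have ha : a ≠ 0 := fun e => by rw [e, Matrix.mulVec_zero, zero_dotProduct] at h; exact zero_ne_one h
  obtain ⟨c, hc⟩ := H.line_of_perp ha (x := w - ((JA *ᵥ a) ⬝ᵥ w) • a') (by
    rw [dotProduct_sub, dotProduct_smul, h, smul_eq_mul, mul_one, sub_self])
  have h' : (JA *ᵥ a') ⬝ᵥ a = -1 := by rw [H.aA.swap, h]
  have e := congrArg (fun z => (JA *ᵥ a') ⬝ᵥ z) hc
  simp only [dotProduct_sub, dotProduct_smul, h', H.aA.self, smul_eq_mul, mul_zero, sub_zero, mul_neg, mul_one] at e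
  rw [e, neg_smul, sub_neg_eq_add, ← hc, add_sub_cancel]

theorem exists_one {a : α → F} (ha : a ≠ 0) : ∃ a', (JA *ᵥ a) ⬝ᵥ a' = 1 := H.aA.exists_form_ne ha

/-! ### The second factor -/

theorem exists_third_perp (h3 : Fintype.card β = 3) {y p : β → F} (qy : QB y ≠ 0) (qp : QB p ≠ 0)
    (hyp : QuadraticMap.polar ⇑QB y p = 0) :
    ∃ z, QuadraticMap.polar ⇑QB y z = 0 ∧ QuadraticMap.polar ⇑QB p z = 0 ∧ QB z ≠ 0 ∧
      ∀ x, x = (QuadraticMap.polar ⇑QB y x / (2 * QB y)) • y + (QuadraticMap.polar ⇑QB p x / (2 * QB p)) • p +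
        (QuadraticMap.polar ⇑QB z x / (2 * QB z)) • z := by
  obtain ⟨z, hz0, hz⟩ := exists_orth ![JB *ᵥ y, JB *ᵥ p] (by simp [h3])
  have zy : QuadraticMap.polar ⇑QB y z = 0 := by rw [← H.gB.dot_polar]; exact hz 0
  have zp : QuadraticMap.polar ⇑QB p z = 0 := by rw [← H.gB.dot_polar]; exact hz 1
  have h2 := H.two
  have val : ∀ a b c : F, QuadraticMap.polar ⇑QB y (a • y + b • p + c • z) = a * (2 * QB y) ∧
      QuadraticMap.polar ⇑QB p (a • y + b • p + c • z) = b * (2 * QB p) ∧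
      QuadraticMap.polar ⇑QB z (a • y + b • p + c • z) = c * (2 * QB z) := fun a b c => by
    refine ⟨?_, ?_, ?_⟩ <;>
      simp only [b_add_right, b_smul_right, b_self, hyp, zy, zp, b_comm p y, b_comm z y, b_comm z p, mul_zero,
        add_zero, zero_add]
  have hli : LinearIndependent F ![y, p, z] := by
    rw [Fintype.linearIndependent_iff]
    intro f hf
    rw [Fin.sum_univ_three] at hf
    simp only [Matrix.cons_val_zero, Matrix.cons_val_one, Matrix.cons_val] at hf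
    obtain ⟨e0, e1, -⟩ := val (f 0) (f 1) (f 2)
    rw [hf, b_zero_right] at e0 e1
    have f0 : f 0 = 0 := (mul_eq_zero.1 e0.symm).resolve_right (mul_ne_zero h2 qy)
    have f1 : f 1 = 0 := (mul_eq_zero.1 e1.symm).resolve_right (mul_ne_zero h2 qp)
    rw [f0, f1, zero_smul, zero_smul, zero_add, zero_add, smul_eq_zero] at hf
    intro i
    fin_cases i
    exacts [f0, f1, hf.resolve_right hz0]
  have htop := hli.span_eq_top_of_card_eq_finrank (by rw [Fintype.card_fin, Module.finrank_pi, h3])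
  have hex : ∀ x, ∃ a b c : F, x = a • y + b • p + c • z := fun x => by
    obtain ⟨f, hf⟩ := (Submodule.mem_span_range_iff_exists_fun F).1 (htop.symm ▸ Submodule.mem_top (x := x))
    exact ⟨f 0, f 1, f 2, by rw [← hf, Fin.sum_univ_three]; simp⟩
  have qz : QB z ≠ 0 := fun e => hz0 (H.gB.nd z fun x => by
    obtain ⟨a, b, c, rfl⟩ := hex x
    rw [(val a b c).2.2, e, mul_zero, mul_zero])
  refine ⟨z, zy, zp, qz, fun x => ?_⟩
  obtain ⟨a, b, c, rfl⟩ := hex x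
  obtain ⟨e0, e1, e2⟩ := val a b c
  rw [e0, e1, e2, mul_div_cancel_right₀ _ (mul_ne_zero h2 qy), mul_div_cancel_right₀ _ (mul_ne_zero h2 qp),
    mul_div_cancel_right₀ _ (mul_ne_zero h2 qz)]

theorem block_decomp {y p z : β → F}
    (hdec : ∀ x, x = (QuadraticMap.polar ⇑QB y x / (2 * QB y)) • y + (QuadraticMap.polar ⇑QB p x / (2 * QB p)) • p +
      (QuadraticMap.polar ⇑QB z x / (2 * QB z)) • z) (X : Matrix (α × β) α F) :
    X = kc α y * ((2 * QB y)⁻¹ • (kr α (JB *ᵥ y) * X)) + kc α p * ((2 * QB p)⁻¹ • (kr α (JB *ᵥ p) * X)) +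
      kc α z * ((2 * QB z)⁻¹ • (kr α (JB *ᵥ z) * X)) := by
  ext ⟨i, k⟩ j
  have h := congrFun (hdec fun k => X (i, k) j) k
  simp only [Pi.add_apply, Pi.smul_apply, smul_eq_mul] at h
  simp only [Matrix.add_apply, kc_mul_apply, Matrix.smul_apply, kr_mul_apply, H.gB.dot_polar, smul_eq_mul]
  rw [h]
  ring

theorem exists_sing_ne {y : β → F} (hy : y ≠ 0) : ∃ n, QB n = 0 ∧ n ≠ 0 ∧ QuadraticMap.polar ⇑QB y n ≠ 0 := by
  by_contra hc
  push Not at hc
  refine hy (H.gB.nd y fun x => ?_)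
  have hx : x ∈ Submodule.span F {x : β → F | QB x = 0 ∧ x ≠ 0} := H.singular_span ▸ Submodule.mem_top
  induction hx using Submodule.span_induction with
  | mem a ha => exact hc a ha.1 ha.2
  | zero => exact b_zero_right y
  | add a b _ _ ha hb => rw [b_add_right, ha, hb, add_zero]
  | smul c a _ ha => rw [b_smul_right, ha, mul_zero]

/-- An orthogonal pair with opposite values through a given vector. -/
theorem exists_opposite {y : β → F} (hy : QB y ≠ 0) :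
    ∃ p, QuadraticMap.polar ⇑QB y p = 0 ∧ QB p = -QB y := by
  obtain ⟨n, qn, -, hn⟩ := H.exists_sing_ne (y := y) (fun e => hy (by rw [e, map_zero]))
  refine ⟨(2 * QB y / QuadraticMap.polar ⇑QB y n) • n - y, ?_, ?_⟩
  · rw [b_sub_right, b_smul_right, b_self, div_mul_cancel₀ _ hn, sub_self]
  · rw [q_sub, q_smul, qn, b_smul_left, b_comm n y, div_mul_cancel₀ _ hn]
    ring

/-! ### The conjugates of the reflections -/

theorem exists_conj {g : GL (α × β) F} (hg : g ∈ M) {v : β → F} (hv : QB v ≠ 0) :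
    ∃ k ∈ M, k.1 = g.1 * ((1 : Matrix α α F) ⊗ₖ (1 + (-(QB v)⁻¹) • Matrix.vecMulVec v (JB *ᵥ v))) * (g⁻¹).1 ∧
      k.1 = 1 + (-(QB v)⁻¹) • ((g.1 * kc α v) * (kr α (JB *ᵥ v) * (g⁻¹).1)) ∧
      ∀ x : β → F, k.1 * kc α x =
        kc α x + (-(QB v)⁻¹) • ((g.1 * kc α v) * adj JA (ct JB g v x)) := by
  obtain ⟨r, hr, hr'⟩ := H.inM_right (H.sp_refl hv)
  refine ⟨g * r * g⁻¹, M.mul_mem (M.mul_mem hg hr) (M.inv_mem hg), by rw [Units.val_mul, Units.val_mul, hr'], ?_⟩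
  have e : (g * r * g⁻¹).1 = 1 + (-(QB v)⁻¹) • ((g.1 * kc α v) * (kr α (JB *ᵥ v) * (g⁻¹).1)) := by
    rw [Units.val_mul, Units.val_mul, hr', Matrix.kronecker_add, Matrix.one_kronecker_one,
      Matrix.kronecker_smul, ← kc_mul_kr, Matrix.mul_add, Matrix.mul_one, Matrix.add_mul, g.mul_inv, Matrix.mul_smul,
      Matrix.smul_mul]
    simp only [Matrix.mul_assoc]
  refine ⟨e, fun x => ?_⟩
  have hX : adj JA (ct JB g v x) = blk (g⁻¹).1 (JB *ᵥ v) x := by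
    have h1 := H.blk_adj hg v x
    rw [one_smul] at h1
    have h2 : ct JB g v x = blk g.1 (JB *ᵥ x) v := by rw [ct, blk, Matrix.mul_assoc]
    rw [h2, h1, H.adj_adj]
  rw [e, hX, blk, Matrix.add_mul, Matrix.one_mul, Matrix.smul_mul]
  simp only [Matrix.mul_assoc]

theorem residual_norm (g : GL (α × β) F) (v : β → F) :
    kr α (JB *ᵥ v) * (g⁻¹).1 * (g.1 * kc α v) = (2 * QB v) • 1 := by
  rw [Matrix.mul_assoc, ← Matrix.mul_assoc (g⁻¹).1, g.inv_mul, Matrix.one_mul, kr_mul_kc, H.gB.self]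

theorem adj_ct {g : GL (α × β) F} (hg : g ∈ M) (v x : β → F) :
    adj JA (ct JB g v x) = kr α (JB *ᵥ v) * (g⁻¹).1 * kc α x := by
  have h1 := H.blk_adj hg v x
  rw [one_smul, blk, blk] at h1
  rw [ct, ← Matrix.mul_assoc, h1, H.adj_adj]

/-- The norms on an orthogonal basis. -/
theorem norm_sum {g : GL (α × β) F} (hg : g ∈ M) (v : β → F) {y p z : β → F}
    (hdec : ∀ x, x = (QuadraticMap.polar ⇑QB y x / (2 * QB y)) • y + (QuadraticMap.polar ⇑QB p x / (2 * QB p)) • p +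
      (QuadraticMap.polar ⇑QB z x / (2 * QB z)) • z) :
    (2 * QB y)⁻¹ * nrm JA (ct JB g v y) + (2 * QB p)⁻¹ * nrm JA (ct JB g v p) +
      (2 * QB z)⁻¹ * nrm JA (ct JB g v z) = 2 * QB v := by
  have h := H.residual_norm g v
  rw [H.block_decomp hdec (g.1 * kc α v)] at h
  have hc : ∀ x : β → F, kr α (JB *ᵥ x) * (g.1 * kc α v) = ct JB g v x := fun _ => rfl
  simp only [hc, Matrix.mul_add, ← Matrix.mul_assoc (kr α (JB *ᵥ v) * (g⁻¹).1), ← H.adj_ct hg, Matrix.mul_smul,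
    H.adj_self_mul, smul_smul, ← add_smul] at h
  haveI := H.nonempty_left
  exact smul_left_injective F (one_ne_zero (α := Matrix α α F)) h

/-- The contraction of the image of a conjugate. -/
theorem ct_next {g k : GL (α × β) F} {v : β → F}
    (hk : ∀ x : β → F, k.1 * kc α x = kc α x + (-(QB v)⁻¹) • ((g.1 * kc α v) * adj JA (ct JB g v x)))
    (x w : β → F) : ct JB k x w =
      QuadraticMap.polar ⇑QB w x • 1 + (-(QB v)⁻¹) • (ct JB g v w * adj JA (ct JB g v x)) := by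
  rw [ct, hk, Matrix.mul_add, kr_mul_kc, H.gB.dot_polar, Matrix.mul_smul, ← Matrix.mul_assoc]
  rfl

/-- A reflection carried to the second factor carries its residual space there. -/
theorem image_of_pure {k : GL (α × β) F} {x : β → F} (hx : QB x ≠ 0) {T : Matrix β β F}
    (h : k.1 * ((1 : Matrix α α F) ⊗ₖ (1 + (-(QB x)⁻¹) • Matrix.vecMulVec x (JB *ᵥ x))) * (k⁻¹).1 =
      (1 : Matrix α α F) ⊗ₖ T) :
    ∃ (x' : β → F) (A A' : Matrix α α F), A' * A = 1 ∧ k.1 * kc α x = kc α x' * A := by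
  obtain ⟨e, he⟩ : ∃ e, e = -(QB x)⁻¹ := ⟨_, rfl⟩
  have he0 : e ≠ 0 := he ▸ neg_ne_zero.2 (inv_ne_zero hx)
  have hx0 : x ≠ 0 := fun h => hx (by rw [h, map_zero])
  refine H.image_of_rank_one (φ := JB *ᵥ x) (N := e⁻¹ • (T - 1)) hx0 (H.mulVecB_ne hx0) ?_
  rw [Matrix.kronecker_smul, TensorOrth.kron_sub, ← h, Matrix.one_kronecker_one, ← he, Matrix.kronecker_add,
    Matrix.one_kronecker_one, Matrix.kronecker_smul, ← kc_mul_kr, Matrix.mul_add, Matrix.mul_one, Matrix.add_mul,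
    k.mul_inv, add_sub_cancel_left, Matrix.mul_smul, Matrix.smul_mul, smul_smul, inv_mul_cancel₀ he0, one_smul]

/-! ### A residual space with a pure vector -/

/-- Pairing a pure tensor. -/
theorem ten_form (a a' : α → F) (b b' : β → F) :
    ((JA ⊗ₖ JB) *ᵥ ten a b) ⬝ᵥ ten a' b' = ((JA *ᵥ a) ⬝ᵥ a') * QuadraticMap.polar ⇑QB b b' := by
  rw [kron_mulVec_ten, ten_dot, H.gB.dot_polar]

theorem rk_conj {t : GL (α × β) F} (ht : t ∈ M) (x y : α × β → F) :
    t.1 * Matrix.vecMulVec x ((JA ⊗ₖ JB) *ᵥ y) * (t⁻¹).1 =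
      Matrix.vecMulVec (t.1 *ᵥ x) ((JA ⊗ₖ JB) *ᵥ (t.1 *ᵥ y)) := by
  have e : ((JA ⊗ₖ JB) *ᵥ y) ᵥ* (t⁻¹).1 = (JA ⊗ₖ JB) *ᵥ (t.1 *ᵥ y) := by
    have h1 : ((JA ⊗ₖ JB) *ᵥ (t.1 *ᵥ y)) ᵥ* t.1 = (JA ⊗ₖ JB) *ᵥ y := by
      rw [← Matrix.mulVec_transpose, Matrix.mulVec_mulVec, Matrix.mulVec_mulVec, H.le t ht]
    rw [← h1, Matrix.vecMul_vecMul, t.mul_inv, Matrix.vecMul_one]
  rw [Matrix.mul_vecMulVec, Matrix.vecMulVec_mul, e]

/-- A conjugate of a reflection on a vector, in a symplectic pair. -/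
theorem conj_formula {g k : GL (α × β) F} (hg : g ∈ M) {v : β → F}
    (hk : k.1 = 1 + (-(QB v)⁻¹) • ((g.1 * kc α v) * (kr α (JB *ᵥ v) * (g⁻¹).1)))
    {u u' : α → F} (hu : (JA *ᵥ u) ⬝ᵥ u' = 1) :
    (∀ ξ, k.1 *ᵥ ξ = ξ + (-(QB v)⁻¹) •
      ((((JA ⊗ₖ JB) *ᵥ ((g.1 * kc α v) *ᵥ u)) ⬝ᵥ ξ) • ((g.1 * kc α v) *ᵥ u') -
        (((JA ⊗ₖ JB) *ᵥ ((g.1 * kc α v) *ᵥ u')) ⬝ᵥ ξ) • ((g.1 * kc α v) *ᵥ u))) ∧
    ((JA ⊗ₖ JB) *ᵥ ((g.1 * kc α v) *ᵥ u)) ⬝ᵥ ((g.1 * kc α v) *ᵥ u') = 2 * QB v := by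
  have hform : ∀ (w : α → F) ξ, ((JA ⊗ₖ JB) *ᵥ ((g.1 * kc α v) *ᵥ w)) ⬝ᵥ ξ =
      (JA *ᵥ w) ⬝ᵥ ((kr α (JB *ᵥ v) * (g⁻¹).1) *ᵥ ξ) := fun w ξ => by
    obtain ⟨η, hη⟩ : ∃ η, η = (g⁻¹).1 *ᵥ ξ := ⟨_, rfl⟩
    have hξ : ξ = g.1 *ᵥ η := by rw [hη, Matrix.mulVec_mulVec, g.mul_inv, Matrix.one_mulVec]
    conv_lhs => rw [← Matrix.mulVec_mulVec w g.1, hξ, Matrix.dotProduct_mulVec, ← Matrix.mulVec_transpose,
      Matrix.mulVec_mulVec, Matrix.mulVec_mulVec, H.le g hg, kc_mulVec, kron_mulVec_ten, ← kc_mulVec]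
    rw [← Matrix.mulVec_mulVec, ← hη, Matrix.dotProduct_mulVec]
    congr 1
    rw [← Matrix.mulVec_transpose]
    congr 1
    ext ⟨p, q⟩ i
    simp [kc_apply, kr_apply, eq_comm]
  refine ⟨fun ξ => ?_, ?_⟩
  · rw [hk, Matrix.add_mulVec, Matrix.one_mulVec, Matrix.smul_mulVec, ← Matrix.mulVec_mulVec]
    congr 2
    conv_lhs => rw [H.pair_decomp hu ((kr α (JB *ᵥ v) * (g⁻¹).1) *ᵥ ξ), Matrix.mulVec_sub, Matrix.mulVec_smul,
      Matrix.mulVec_smul, ← hform, ← hform]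
  · rw [hform, Matrix.mulVec_mulVec, H.residual_norm, Matrix.smul_mulVec, Matrix.one_mulVec, dotProduct_smul, hu,
      smul_eq_mul, mul_one]

theorem exists_move {u₀ u : α → F} (h₀ : u₀ ≠ 0) (hu : u ≠ 0) : ∃ S, Sp JA S ∧ S *ᵥ u₀ = u := by
  have hA := H.aA
  by_cases hne : (JA *ᵥ u) ⬝ᵥ u₀ = 0
  · obtain ⟨y, -, hy1, hy2⟩ := hA.exists_both (fun i : Fin 0 => i.elim0)
      (by obtain ⟨y, hy⟩ := hA.exists_form_ne h₀; exact ⟨y, fun i => i.elim0, by rw [hy]; exact one_ne_zero⟩)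
      (by obtain ⟨y, hy⟩ := hA.exists_form_ne hu; exact ⟨y, fun i => i.elim0, by rw [hy]; exact one_ne_zero⟩)
    rw [hA.swap] at hy1
    refine ⟨_, hA.sp_mul (hA.sp_tv (u - y) ((JA *ᵥ u) ⬝ᵥ y)⁻¹) (hA.sp_tv (y - u₀) ((JA *ᵥ y) ⬝ᵥ u₀)⁻¹), ?_⟩
    rw [← Matrix.mulVec_mulVec, hA.tv_move (neg_ne_zero.1 hy1), hA.tv_move hy2]
  · exact ⟨_, hA.sp_tv _ _, hA.tv_move hne⟩

theorem lev_add {a : α → F} {S S' : Matrix β β F} (h : Lev JA M a S) (h' : Lev JA M a S') :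
    Lev JA M a (S + S') := by
  rw [Lev, Matrix.kronecker_add]
  refine h.add h' ?_
  rw [← Matrix.mul_kronecker_mul, Matrix.vecMulVec_mul_vecMulVec, H.aA.self, zero_smul, Matrix.vecMulVec_zero,
    Matrix.zero_kronecker]

theorem lev_neg {a : α → F} {S : Matrix β β F} (h : Lev JA M a S) : Lev JA M a (-S) := by
  have h0 : Matrix.vecMulVec a (JA *ᵥ a) ⊗ₖ S * Matrix.vecMulVec a (JA *ᵥ a) ⊗ₖ S = 0 := by
    rw [← Matrix.mul_kronecker_mul, Matrix.vecMulVec_mul_vecMulVec, H.aA.self, zero_smul, Matrix.vecMulVec_zero,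
      Matrix.zero_kronecker]
  have := h.neg h0
  rwa [Lev, ← neg_one_smul F S, Matrix.kronecker_smul, neg_one_smul]

theorem lev_smul {a : α → F} (ha : a ≠ 0) {S : Matrix β β F} (h : Lev JA M a S) (c : F) : Lev JA M a (c • S) := by
  have hsq : ∀ s : F, Lev JA M a ((s * s) • S) := fun s => by
    by_cases hs : s = 0
    · rw [Lev, hs, mul_zero, zero_smul, Matrix.kronecker_zero, add_zero]
      exact InM.one
    obtain ⟨P, hP, hPa⟩ := H.exists_move ha (u := s • a) (smul_ne_zero hs ha)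
    obtain ⟨hP1, -⟩ := H.sp_inv H.dA hP
    obtain ⟨n, hn, hn'⟩ := H.inM_left hP
    obtain ⟨x, hx, hx'⟩ := h
    refine ⟨n * x * n⁻¹, M.mul_mem (M.mul_mem hn hx) (M.inv_mem hn), ?_⟩
    have hi : (n⁻¹).1 = P⁻¹ ⊗ₖ (1 : Matrix β β F) := by
      refine (left_inv_eq_right_inv (a := n.1) n.inv_mul ?_)
      rw [hn', ← Matrix.mul_kronecker_mul, hP1, Matrix.one_mul, Matrix.one_kronecker_one]
    rw [Units.val_mul, Units.val_mul, hx', Matrix.mul_add, Matrix.mul_one, Matrix.add_mul, n.mul_inv, hn', hi,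
      ← Matrix.mul_kronecker_mul, ← Matrix.mul_kronecker_mul, Matrix.one_mul, Matrix.mul_one, Matrix.mul_vecMulVec,
      Matrix.vecMulVec_mul]
    have e2 : (JA *ᵥ a) ᵥ* P⁻¹ = JA *ᵥ (s • a) := by
      rw [← H.aA.vecMul_image hP a, Matrix.vecMul_vecMul, hP1, Matrix.vecMul_one, hPa]
    rw [e2, hPa, Matrix.mulVec_smul, Matrix.vecMulVec_smul, Matrix.smul_vecMulVec, smul_smul, Matrix.smul_kronecker,
      Matrix.kronecker_smul]
  have e : c = (c + 1) * (2 : F)⁻¹ * ((c + 1) * (2 : F)⁻¹) - (c - 1) * (2 : F)⁻¹ * ((c - 1) * (2 : F)⁻¹) := by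
    have h2 := H.two
    field_simp
    ring
  rw [e, sub_smul, sub_eq_add_neg]
  exact H.lev_add (hsq _) (H.lev_neg (hsq _))

theorem lev_conj {a : α → F} {S : Matrix β β F} (h : Lev JA M a S) {T : Matrix β β F} (hT : Sp JB T) :
    Lev JA M a (T * S * T⁻¹) := by
  obtain ⟨hT1, -⟩ := H.sp_inv H.dB hT
  obtain ⟨n, hn, hn'⟩ := H.inM_right hT
  obtain ⟨x, hx, hx'⟩ := h
  refine ⟨n * x * n⁻¹, M.mul_mem (M.mul_mem hn hx) (M.inv_mem hn), ?_⟩
  have hi : (n⁻¹).1 = (1 : Matrix α α F) ⊗ₖ T⁻¹ := by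
    refine (left_inv_eq_right_inv (a := n.1) n.inv_mul ?_)
    rw [hn', ← Matrix.mul_kronecker_mul, hT1, Matrix.one_mul, Matrix.one_kronecker_one]
  rw [Units.val_mul, Units.val_mul, hx', Matrix.mul_add, Matrix.mul_one, Matrix.add_mul, n.mul_inv, hn', hi,
    ← Matrix.mul_kronecker_mul, ← Matrix.mul_kronecker_mul, Matrix.one_mul, Matrix.mul_one]

theorem sy_refl {m : β → F} (hm : QB m ≠ 0) {a : α → F} {x y : β → F} (h : Lev JA M a (sy JB x y)) :
    Lev JA M a (sy JB (x - ((QB m)⁻¹ * QuadraticMap.polar ⇑QB m x) • m)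
      (y - ((QB m)⁻¹ * QuadraticMap.polar ⇑QB m y) • m)) := by
  have hT := H.sp_refl hm
  obtain ⟨hT1, -⟩ := H.sp_inv H.dB hT
  have h' := H.lev_conj h hT
  rw [sy, Matrix.mul_add, Matrix.add_mul, Matrix.mul_vecMulVec, Matrix.vecMulVec_mul, Matrix.mul_vecMulVec,
    Matrix.vecMulVec_mul, H.vecMul_image hT hT1, H.vecMul_image hT hT1, H.refl_mulVec, H.refl_mulVec] at h'
  exact h'

/-- From one orthogonal pair to another one. -/
theorem sy_turn {a : α → F} (ha : a ≠ 0) {b q x : β → F} (qx : QB x ≠ 0)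
    (hbx : QuadraticMap.polar ⇑QB b x = 0) (hqx : QuadraticMap.polar ⇑QB q x ≠ 0)
    (h : Lev JA M a (sy JB b q)) : Lev JA M a (sy JB b x) := by
  have h1 := H.sy_refl qx h
  rw [b_comm x b, hbx, mul_zero, zero_smul, sub_zero, sub_eq_add_neg, ← neg_smul, sy_add_right,
    sy_smul_right] at h1
  have h2 := H.lev_add h1 (H.lev_neg h)
  rw [← sub_eq_add_neg, add_sub_cancel_left] at h2
  have hc : -((QB x)⁻¹ * QuadraticMap.polar ⇑QB x q) ≠ 0 :=
    neg_ne_zero.2 (mul_ne_zero (inv_ne_zero qx) (by rwa [b_comm]))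
  have h3 := H.lev_smul ha h2 (-((QB x)⁻¹ * QuadraticMap.polar ⇑QB x q))⁻¹
  rwa [smul_smul, inv_mul_cancel₀ hc, one_smul] at h3

theorem sy_second {ω : F} (hω : ω ≠ 0 ∧ ω ≠ 1 ∧ ω ≠ -1) {a : α → F} (ha : a ≠ 0) {b y z : β → F}
    (qy : QB y ≠ 0) (qz : QB z ≠ 0) (by0 : QuadraticMap.polar ⇑QB b y = 0)
    (bz : QuadraticMap.polar ⇑QB b z = 0) (yz : QuadraticMap.polar ⇑QB y z = 0)
    (h : Lev JA M a (sy JB b y)) : Lev JA M a (sy JB b z) := by
  obtain ⟨t, ht, hq⟩ : ∃ t : F, t ≠ 0 ∧ QB (y + t • z) ≠ 0 := by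
    have e : ∀ t : F, QB (y + t • z) = QB y + t * t * QB z := fun t => by
      rw [q_add, q_smul, b_smul_right, yz, mul_zero, add_zero]
    by_cases h1 : QB y + QB z = 0
    swap
    · exact ⟨1, one_ne_zero, by rw [e, one_mul, one_mul]; exact h1⟩
    refine ⟨ω, hω.1, ?_⟩
    rw [e]
    intro h2
    have h3 : (ω - 1) * (ω + 1) * QB z = 0 := by linear_combination h2 - h1
    rcases mul_eq_zero.1 ((mul_eq_zero.1 h3).resolve_right qz) with h4 | h4
    · exact hω.2.1 (sub_eq_zero.1 h4)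
    · exact hω.2.2 (eq_neg_of_add_eq_zero_left h4)
  have h1 := H.sy_turn ha (x := y + t • z) hq (by rw [b_add_right, b_smul_right, by0, bz, mul_zero, add_zero])
    (by rw [b_add_right, b_smul_right, yz, mul_zero, add_zero, b_self]; exact mul_ne_zero H.two qy) h
  rw [sy_add_right, sy_smul_right] at h1
  have h2 := H.lev_add h1 (H.lev_neg h)
  rw [← sub_eq_add_neg, add_sub_cancel_left] at h2
  have h3 := H.lev_smul ha h2 t⁻¹
  rwa [smul_smul, inv_mul_cancel₀ ht, one_smul] at h3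

/-- A level in the symmetric product of two orthogonal vectors contradicts the scalar centres. -/
theorem no_sy_level (h3 : Fintype.card β = 3) {ω : F} (hω : ω ≠ 0 ∧ ω ≠ 1 ∧ ω ≠ -1) (hS : Small JB M)
    {a : α → F} (ha : a ≠ 0) {b q : β → F} (qb : QB b ≠ 0) (hbq : QuadraticMap.polar ⇑QB b q = 0) (hq : q ≠ 0)
    (h : Lev JA M a (sy JB b q)) : False := by
  obtain ⟨w, qw, hw0, hbw⟩ := H.exists_sing_ne (y := b) (fun e => qb (by rw [e, map_zero]))
  obtain ⟨s, hs⟩ : ∃ s, s = QuadraticMap.polar ⇑QB b w / (2 * QB b) := ⟨_, rfl⟩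
  obtain ⟨y, hy⟩ : ∃ y, y = w - s • b := ⟨_, rfl⟩
  have h2 := H.two
  have hs0 : s ≠ 0 := hs ▸ div_ne_zero hbw (mul_ne_zero h2 qb)
  have hb2 : QuadraticMap.polar ⇑QB b w = s * (2 * QB b) := by rw [hs, div_mul_cancel₀ _ (mul_ne_zero h2 qb)]
  have by0 : QuadraticMap.polar ⇑QB b y = 0 := by rw [hy, b_sub_right, b_smul_right, b_self, hb2, sub_self]
  have qy : QB y ≠ 0 := by
    have : QB y = -(s * s * QB b) := by
      rw [hy, q_sub, q_smul, qw, b_smul_right, b_comm w b, hb2]; ring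
    rw [this]
    exact neg_ne_zero.2 (mul_ne_zero (mul_ne_zero hs0 hs0) qb)
  obtain ⟨z, bz, yz, qz, hdec⟩ := H.exists_third_perp h3 qb qy by0
  have hz : Lev JA M a (sy JB b z) := by
    by_cases e : QuadraticMap.polar ⇑QB q z = 0
    swap
    · exact H.sy_turn ha qz bz e h
    refine H.sy_second hω ha qy qz by0 bz yz (H.sy_turn ha qy by0 (fun e' => hq ?_) h)
    rw [hdec q, b_comm y q, e', b_comm z q, e, hbq]
    simp
  have hzy : Lev JA M a (sy JB z y) :=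
    H.sy_second hω ha qb qy (by rw [b_comm, bz]) (by rw [b_comm, yz]) by0 (sy_comm JB b z ▸ hz)
  have hzw : Lev JA M a (sy JB z w) := by
    have e : w = s • b + y := by rw [hy]; abel
    rw [e, sy_add_right, sy_smul_right, sy_comm JB z b]
    exact H.lev_add (H.lev_smul ha hz s) hzy
  have zw : QuadraticMap.polar ⇑QB z w = 0 := by
    rw [show w = s • b + y by rw [hy]; abel, b_add_right, b_smul_right, b_comm z b, bz, b_comm z y, yz]
    simp
  have qm : QB (z + w) = QB z := by rw [q_add, qw, zw, add_zero, add_zero]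
  have h1 := H.sy_refl (m := z + w) (by rwa [qm]) hzw
  rw [b_add_left, b_add_left, b_self, b_comm w z, zw, b_self_zero qw, add_zero, add_zero, qm, mul_zero, zero_smul,
    sub_zero, ← mul_assoc, mul_comm (QB z)⁻¹, mul_assoc, inv_mul_cancel₀ qz, mul_one] at h1
  have h4 := H.lev_smul ha (H.lev_add h1 hzw) (-(4 : F))⁻¹
  have e4 : sy JB (z - (2 : F) • (z + w)) w + sy JB z w = (-(4 : F)) • Matrix.vecMulVec w (JB *ᵥ w) := by
    simp only [sy, Matrix.mulVec_sub, Matrix.mulVec_add, Matrix.mulVec_smul, Matrix.sub_vecMulVec,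
      Matrix.add_vecMulVec, Matrix.smul_vecMulVec, Matrix.vecMulVec_sub, Matrix.vecMulVec_add, Matrix.vecMulVec_smul]
    module
  have h40 : (-(4 : F)) ≠ 0 := neg_ne_zero.2 (by
    rw [show (4 : F) = 2 * 2 by norm_num]; exact mul_ne_zero h2 h2)
  rw [e4, smul_smul, inv_mul_cancel₀ h40, one_smul, Lev] at h4
  obtain ⟨c, hc⟩ := hS w (H.sing.1 qw) hw0 (Matrix.vecMulVec a (JA *ᵥ a)) (by rwa [Zm, kc_mul_mul_kr])
  have e := congrArg (· *ᵥ a) hc
  simp only [Matrix.vecMulVec_mulVec, H.aA.self, MulOpposite.op_zero, zero_smul, Matrix.smul_mulVec,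
    Matrix.one_mulVec, eq_comm (a := (0 : α → F)), smul_eq_zero, or_iff_left ha] at e
  rw [e, zero_smul] at hc
  obtain ⟨i, hi⟩ := Function.ne_iff.1 ha
  obtain ⟨j, hj⟩ := Function.ne_iff.1 (H.aA.mulVec_ne ha)
  exact mul_ne_zero hi hj (by simpa [Matrix.vecMulVec_apply] using congrFun₂ hc i j)

/-- A residual space which contains a pure vector is pure. -/
theorem pure_of_pure_vector (h3 : Fintype.card β = 3) {ω : F} (hω : ω ≠ 0 ∧ ω ≠ 1 ∧ ω ≠ -1) (hS : Small JB M)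
    {g : GL (α × β) F} (hg : g ∈ M) {v : β → F} (hv : QB v ≠ 0) {u a₀ : α → F} {b : β → F} (hu : u ≠ 0)
    (qb : QB b ≠ 0) (hab : (g.1 * kc α v) *ᵥ u = ten a₀ b) :
    ∃ T : Matrix β β F,
      g.1 * ((1 : Matrix α α F) ⊗ₖ (1 + (-(QB v)⁻¹) • Matrix.vecMulVec v (JB *ᵥ v))) * (g⁻¹).1 =
        (1 : Matrix α α F) ⊗ₖ T := by
  have h2 := H.two
  obtain ⟨k, hk, hk₀, hk₁, -⟩ := H.exists_conj hg hv
  obtain ⟨r, hr, hr₀, hr₁, -⟩ := H.exists_conj M.one_mem qb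
  have ha₀ : a₀ ≠ 0 := fun e => hu (by
    have h1 := congrArg ((kr α (JB *ᵥ v) * (g⁻¹).1) *ᵥ ·) hab
    simp only [Matrix.mulVec_mulVec, H.residual_norm, Matrix.smul_mulVec, Matrix.one_mulVec] at h1
    rw [e, show ten (0 : α → F) b = 0 by ext p; simp [ten], Matrix.mulVec_zero, smul_eq_zero] at h1
    exact h1.resolve_left (mul_ne_zero h2 hv))
  obtain ⟨a₁, ha₁⟩ := H.exists_one ha₀
  obtain ⟨u₁, hu₁⟩ := H.exists_one hu
  have ha₁' : (JA *ᵥ a₁) ⬝ᵥ a₀ = -1 := by rw [H.aA.swap, ha₁]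
  obtain ⟨ζ, hζ⟩ : ∃ ζ, ζ = (g.1 * kc α v) *ᵥ u₁ := ⟨_, rfl⟩
  obtain ⟨R, hR⟩ : ∃ R : β → F, R = fun j => (JA *ᵥ a₀) ⬝ᵥ fun i => ζ (i, j) := ⟨_, rfl⟩
  obtain ⟨P, hP⟩ : ∃ P : β → F, P = fun j => -((JA *ᵥ a₁) ⬝ᵥ fun i => ζ (i, j)) := ⟨_, rfl⟩
  have hζd : ζ = ten a₀ P + ten a₁ R := by
    funext p
    have := congrFun (H.pair_decomp ha₁ fun i => ζ (i, p.2)) p.1
    simp only [Pi.sub_apply, Pi.smul_apply, smul_eq_mul] at this
    simp only [Pi.add_apply, ten, hR, hP]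
    rw [this]
    ring
  obtain ⟨t, ht⟩ : ∃ t, t = QuadraticMap.polar ⇑QB b P / (2 * QB b) := ⟨_, rfl⟩
  obtain ⟨l, hl⟩ : ∃ l, l = QB v / QB b := ⟨_, rfl⟩
  obtain ⟨P', hP'⟩ : ∃ P', P' = P - t • b := ⟨_, rfl⟩
  obtain ⟨R', hR'⟩ : ∃ R', R' = R - l • b := ⟨_, rfl⟩
  have hbR : QuadraticMap.polar ⇑QB b R = 2 * QB v := by
    have := (H.conj_formula hg hk₁ hu₁).2
    rw [hab, ← hζ, hζd, dotProduct_add, H.ten_form, H.ten_form, H.aA.self, ha₁, zero_mul, zero_add, one_mul] at this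
    exact this
  have bP : QuadraticMap.polar ⇑QB b P' = 0 := by
    rw [hP', b_sub_right, b_smul_right, b_self, ht, div_mul_cancel₀ _ (mul_ne_zero h2 qb), sub_self]
  have bR : QuadraticMap.polar ⇑QB b R' = 0 := by
    rw [hR', b_sub_right, b_smul_right, b_self, hbR, hl]
    field_simp
    ring
  obtain ⟨z, hz⟩ : ∃ z, z = ten a₀ P' + ten a₁ R' := ⟨_, rfl⟩
  have hu₂ : (JA *ᵥ u) ⬝ᵥ (u₁ - t • u) = 1 := by
    rw [dotProduct_sub, dotProduct_smul, H.aA.self, hu₁, smul_zero, sub_zero]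
  have hζ₂ : (g.1 * kc α v) *ᵥ (u₁ - t • u) = l • ten a₁ b + z := by
    rw [Matrix.mulVec_sub, Matrix.mulVec_smul, hab, ← hζ, hζd, hz, hP', hR']
    funext p
    simp only [Pi.add_apply, Pi.sub_apply, Pi.smul_apply, ten, smul_eq_mul]
    ring
  have kf := (H.conj_formula hg hk₁ hu₂).1
  rw [hab, hζ₂] at kf
  have hone : ∀ w, (((1 : GL (α × β) F)).1 * kc α b) *ᵥ w = ten w b := fun w => by
    rw [Units.val_one, Matrix.one_mul, kc_mulVec]
  have rf := (H.conj_formula M.one_mem hr₁ ha₁).1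
  rw [hone, hone] at rf
  obtain ⟨Ω, hΩ⟩ : ∃ Ω, Ω = JA ⊗ₖ JB := ⟨_, rfl⟩
  obtain ⟨d, hd⟩ : ∃ d, d = -(QB v)⁻¹ := ⟨_, rfl⟩
  obtain ⟨db, hdb⟩ : ∃ db, db = -(QB b)⁻¹ := ⟨_, rfl⟩
  rw [← hd] at kf
  rw [← hdb] at rf
  have hdl : d * l = db := by rw [hd, hl, hdb]; field_simp
  obtain ⟨a, ha⟩ : ∃ a, a = ten a₀ b := ⟨_, rfl⟩
  obtain ⟨e', he'⟩ : ∃ e', e' = ten a₁ b := ⟨_, rfl⟩
  rw [← ha, ← he', ← hΩ] at kf rf
  have faa : (Ω *ᵥ a) ⬝ᵥ a = 0 := by rw [ha, hΩ, H.ten_form, H.aA.self, zero_mul]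
  have fae : (Ω *ᵥ a) ⬝ᵥ e' = 2 * QB b := by rw [ha, he', hΩ, H.ten_form, ha₁, one_mul, b_self]
  have fea : (Ω *ᵥ e') ⬝ᵥ a = -(2 * QB b) := by rw [ha, he', hΩ, H.ten_form, ha₁', b_self, neg_one_mul]
  have fee : (Ω *ᵥ e') ⬝ᵥ e' = 0 := by rw [he', hΩ, H.ten_form, H.aA.self, zero_mul]
  have faz : (Ω *ᵥ a) ⬝ᵥ z = 0 := by
    rw [ha, hz, hΩ, dotProduct_add, H.ten_form, H.ten_form, bP, bR, mul_zero, mul_zero, add_zero]
  have fez : (Ω *ᵥ e') ⬝ᵥ z = 0 := by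
    rw [he', hz, hΩ, dotProduct_add, H.ten_form, H.ten_form, bP, bR, mul_zero, mul_zero, add_zero]
  have fza : (Ω *ᵥ z) ⬝ᵥ a = 0 := by rw [hΩ, H.form_swap, ← hΩ, faz, neg_zero]
  have fzz : (Ω *ᵥ z) ⬝ᵥ z = 0 := by
    have e := H.form_swap z z
    rw [← hΩ] at e
    exact (mul_eq_zero.1 (show (2 : F) * ((Ω *ᵥ z) ⬝ᵥ z) = 0 by linear_combination e)).resolve_left h2
  by_cases hz0 : z = 0
  · refine ⟨_, hk₀.symm.trans ((Matrix.ext_iff_mulVec.2 fun ξ => ?_).trans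
      (hr₀.trans (by rw [inv_one, Units.val_one, Matrix.one_mul, Matrix.mul_one])))⟩
    rw [kf, rf, hz0, add_zero, Matrix.mulVec_smul, smul_dotProduct, ← hdl]
    module
  exfalso
  obtain ⟨Y, hY⟩ : ∃ Y : (α × β → F) → Matrix (α × β) (α × β) F,
      ∀ x, Y x = Matrix.vecMulVec x (Ω *ᵥ a) + Matrix.vecMulVec a (Ω *ᵥ x) := ⟨_, fun x => rfl⟩
  have hYm : ∀ x ξ, Y x *ᵥ ξ = ((Ω *ᵥ a) ⬝ᵥ ξ) • x + ((Ω *ᵥ x) ⬝ᵥ ξ) • a := fun x ξ => by
    rw [hY, Matrix.add_mulVec, Matrix.vecMulVec_mulVec, Matrix.vecMulVec_mulVec, op_smul_eq_smul, op_smul_eq_smul]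
  obtain ⟨h, hh⟩ : ∃ h, h = r * k := ⟨_, rfl⟩
  have hhM : h ∈ M := hh ▸ M.mul_mem hr hk
  have hqd : d * db * QB b = -d := by rw [hdb]; field_simp
  have hh' : h.1 = 1 + d • Y z := Matrix.ext_iff_mulVec.2 fun ξ => by
    rw [hh, Units.val_mul, ← Matrix.mulVec_mulVec, rf, kf, Matrix.add_mulVec, Matrix.one_mulVec, Matrix.smul_mulVec,
      hYm]
    simp only [Matrix.mulVec_add, Matrix.mulVec_smul, Matrix.mulVec_sub, dotProduct_add, add_dotProduct,
      dotProduct_sub, smul_dotProduct, dotProduct_smul, smul_eq_mul, faa, fae, fea, fee, faz, fez, mul_zero,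
      add_zero, zero_sub, sub_zero, zero_add]
    have hb : db * QB b = -1 := by rw [hdb]; field_simp
    have hl' : d * l * QB b = -1 := by rw [hdl, hb]
    linear_combination (norm := module)
      congrArg (fun c : F => (c * ((Ω *ᵥ a) ⬝ᵥ ξ)) • e' - (c * ((Ω *ᵥ e') ⬝ᵥ ξ)) • a) hdl +
      congrArg (fun c : F => (2 * db * ((Ω *ᵥ a) ⬝ᵥ ξ) * c) • e' - (2 * db * ((Ω *ᵥ e') ⬝ᵥ ξ) * c) • a) hl' +
      congrArg (fun c : F => -((2 * ((Ω *ᵥ z) ⬝ᵥ ξ) * c) • a)) hqd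
  have hYY : ∀ x, (Ω *ᵥ a) ⬝ᵥ z = 0 → Y x * Y z = ((Ω *ᵥ x) ⬝ᵥ z) • Matrix.vecMulVec a (Ω *ᵥ a) +
      ((Ω *ᵥ x) ⬝ᵥ a) • Matrix.vecMulVec a (Ω *ᵥ z) := fun x _ => Matrix.ext_iff_mulVec.2 fun ξ => by
    rw [← Matrix.mulVec_mulVec, hYm z ξ, hYm x, Matrix.add_mulVec, Matrix.smul_mulVec, Matrix.smul_mulVec,
      Matrix.vecMulVec_mulVec, Matrix.vecMulVec_mulVec, op_smul_eq_smul, op_smul_eq_smul]
    simp only [dotProduct_add, dotProduct_smul, smul_eq_mul, faz, faa, mul_zero, add_zero, zero_smul, zero_add]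
    module
  have hYp : ∀ p : β → F, Y (ten a₀ p) = Matrix.vecMulVec a₀ (JA *ᵥ a₀) ⊗ₖ sy JB b p := fun p => by
    rw [hY, ha, hΩ, kron_mulVec_ten, kron_mulVec_ten, sy]
    ext ⟨i, m⟩ ⟨j, n⟩
    simp [ten, Matrix.vecMulVec_apply, Matrix.kronecker_apply]
    ring
  by_cases hR0 : R' = 0
  · have hzP : z = ten a₀ P' := by rw [hz, hR0, show ten a₁ (0 : β → F) = 0 by ext p; simp [ten], add_zero]
    have hP0 : P' ≠ 0 := fun e => hz0 (by rw [hzP, e]; ext p; simp [ten])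
    have hL : Lev JA M a₀ (d • sy JB b P') :=
      ⟨h, hhM, by rw [hh', hzP, hYp, Matrix.kronecker_smul]⟩
    have hL' := H.lev_smul ha₀ hL d⁻¹
    rw [smul_smul, inv_mul_cancel₀ (hd ▸ neg_ne_zero.2 (inv_ne_zero hv)), one_smul] at hL'
    exact H.no_sy_level h3 hω hS ha₀ qb bP hP0 hL'
  obtain ⟨n, hn, hn'⟩ := H.inM_left (H.aA.sp_tv a₀ 1)
  have tv0 : tv JA a₀ 1 *ᵥ a₀ = a₀ := by
    rw [tv, one_smul, Matrix.add_mulVec, Matrix.one_mulVec, Matrix.vecMulVec_mulVec, H.aA.self, op_smul_eq_smul,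
      zero_smul, add_zero]
  have tv1 : tv JA a₀ 1 *ᵥ a₁ = a₁ + a₀ := by
    rw [tv, one_smul, Matrix.add_mulVec, Matrix.one_mulVec, Matrix.vecMulVec_mulVec, ha₁, op_smul_eq_smul,
      one_smul]
  have na : n.1 *ᵥ a = a := by rw [hn', ha, kron_mulVec_ten, tv0, Matrix.one_mulVec]
  have nz : n.1 *ᵥ z = z + ten a₀ R' := by
    rw [hn', hz, Matrix.mulVec_add, kron_mulVec_ten, kron_mulVec_ten, tv0, tv1, Matrix.one_mulVec, Matrix.one_mulVec,
      ten_add_left, add_assoc]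
  have hconj : (n * h * n⁻¹).1 = 1 + d • Y (n.1 *ᵥ z) := by
    rw [Units.val_mul, Units.val_mul, hh', hY, hY, hΩ, Matrix.mul_add, Matrix.mul_one, Matrix.add_mul, n.mul_inv,
      Matrix.mul_smul, Matrix.smul_mul, Matrix.mul_add, Matrix.add_mul, H.rk_conj hn, H.rk_conj hn, na]
  have hinv : (h⁻¹).1 = 1 - d • Y z := by
    refine (left_inv_eq_right_inv (a := h.1) h.inv_mul ?_)
    rw [hh', Matrix.add_mul, Matrix.mul_sub, Matrix.mul_sub, Matrix.one_mul, Matrix.one_mul, Matrix.mul_one,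
      Matrix.smul_mul, Matrix.mul_smul, hYY z faz, fzz, fza]
    simp
  obtain ⟨μ, hμ⟩ : ∃ μ, μ = (Ω *ᵥ (n.1 *ᵥ z)) ⬝ᵥ z := ⟨_, rfl⟩
  have hza : (Ω *ᵥ (n.1 *ᵥ z)) ⬝ᵥ a = 0 := by
    rw [nz, Matrix.mulVec_add, add_dotProduct, fza, ha, hΩ, H.ten_form, H.aA.self, zero_mul, add_zero]
  have hYsub : Y (n.1 *ᵥ z) = Y z + Y (ten a₀ R') := by
    rw [nz, hY, hY, hY, Matrix.mulVec_add, Matrix.vecMulVec_add, Matrix.add_vecMulVec]; abel
  have haa : Matrix.vecMulVec a (Ω *ᵥ a) =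
      Matrix.vecMulVec a₀ (JA *ᵥ a₀) ⊗ₖ Matrix.vecMulVec b (JB *ᵥ b) := by
    rw [ha, hΩ, kron_mulVec_ten]
    ext ⟨i, m⟩ ⟨j, n⟩
    simp [ten, Matrix.vecMulVec_apply, Matrix.kronecker_apply]
    ring
  have hL : Lev JA M a₀ (d • sy JB b R' + (-(d * d * μ)) • Matrix.vecMulVec b (JB *ᵥ b)) := by
    refine ⟨n * h * n⁻¹ * h⁻¹, M.mul_mem (M.mul_mem (M.mul_mem hn hhM) (M.inv_mem hn)) (M.inv_mem hhM), ?_⟩
    rw [Units.val_mul, hconj, hinv, Matrix.kronecker_add, Matrix.kronecker_smul, Matrix.kronecker_smul, ← hYp, ← haa,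
      Matrix.add_mul, Matrix.one_mul, Matrix.mul_sub, Matrix.mul_one, Matrix.smul_mul, Matrix.mul_smul, hYY _ faz,
      hza, ← hμ, zero_smul, add_zero, hYsub]
    module
  have hTb := H.sp_refl qb
  obtain ⟨hT1, -⟩ := H.sp_inv H.dB hTb
  have hL2 := H.lev_conj hL hTb
  simp only [Matrix.mul_add, Matrix.add_mul, Matrix.mul_smul, Matrix.smul_mul, sy, Matrix.mul_vecMulVec,
    Matrix.vecMulVec_mul, H.vecMul_image hTb hT1, H.refl_mulVec, bR, mul_zero, zero_smul, sub_zero, b_self] at hL2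
  have hL3 := H.lev_add hL (H.lev_neg hL2)
  have eb : b - ((QB b)⁻¹ * (2 * QB b)) • b = -b := by
    rw [mul_comm (2 : F), ← mul_assoc, inv_mul_cancel₀ qb, one_mul]; module
  rw [eb] at hL3
  have eS : d • sy JB b R' + (-(d * d * μ)) • Matrix.vecMulVec b (JB *ᵥ b) +
      -(d • (Matrix.vecMulVec (-b) (JB *ᵥ R') + Matrix.vecMulVec R' (JB *ᵥ (-b))) +
        (-(d * d * μ)) • Matrix.vecMulVec (-b) (JB *ᵥ (-b))) = (2 * d) • sy JB b R' := by
    simp only [sy, Matrix.mulVec_neg, Matrix.vecMulVec_neg, Matrix.neg_vecMulVec]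
    module
  rw [eS] at hL3
  have hd2 : 2 * d ≠ 0 := mul_ne_zero h2 (hd ▸ neg_ne_zero.2 (inv_ne_zero hv))
  have hL4 := H.lev_smul ha₀ hL3 (2 * d)⁻¹
  rw [smul_smul, inv_mul_cancel₀ hd2, one_smul] at hL4
  exact H.no_sy_level h3 hω hS ha₀ qb bR hR0 hL4

/-! ### The zeros of the norm -/

/-- The contraction vanishes at an anisotropic zero of the norm. -/
theorem ct_eq_zero (h3 : Fintype.card β = 3) {ω : F} (hω : ω ≠ 0 ∧ ω ≠ 1 ∧ ω ≠ -1) (hS : Small JB M)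
    {g : GL (α × β) F} (hg : g ∈ M) {v : β → F} (hv : QB v ≠ 0) {y : β → F} (qy : QB y ≠ 0)
    (hN : nrm JA (ct JB g v y) = 0) : ct JB g v y = 0 := by
  have h2 := H.two
  obtain ⟨k, hk, -, -, hkc⟩ := H.exists_conj hg hv
  obtain ⟨C, hC⟩ : ∃ C, C = ct JB g v y := ⟨_, rfl⟩
  rw [← hC] at hN ⊢
  by_contra hne
  obtain ⟨w, hw⟩ : ∃ w, C *ᵥ w ≠ 0 := by
    by_contra hc
    push Not at hc
    exact hne (Matrix.ext_of_mulVec_single fun j => by rw [hc, Matrix.zero_mulVec])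
  obtain ⟨u, hu⟩ : ∃ u, u = C *ᵥ w := ⟨_, rfl⟩
  rw [← hu] at hw
  have hku : (k.1 * kc α y) *ᵥ u = ten u y := by
    rw [hkc, ← hC, Matrix.add_mulVec, kc_mulVec, Matrix.smul_mulVec, hu, ← Matrix.mulVec_mulVec _ (g.1 * kc α v),
      Matrix.mulVec_mulVec w, H.adj_self_mul, hN, zero_smul, Matrix.zero_mulVec, Matrix.mulVec_zero, smul_zero,
      add_zero]
  obtain ⟨T, hT⟩ := H.pure_of_pure_vector h3 hω hS hk qy hw qy hku
  obtain ⟨x', A, A', -, hA⟩ := H.image_of_pure qy hT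
  obtain ⟨i, hi⟩ := Function.ne_iff.1 hw
  have hyx : y = ((A *ᵥ u) i / u i) • x' := by
    funext j
    have e := congrFun hku (i, j)
    rw [hA, ← Matrix.mulVec_mulVec, kc_mulVec] at e
    simp only [ten] at e
    rw [Pi.smul_apply, smul_eq_mul, div_mul_eq_mul_div, e, mul_div_cancel_left₀ _ hi]
  obtain ⟨c, hc⟩ : ∃ c, c = (A *ᵥ u) i / u i := ⟨_, rfl⟩
  rw [← hc] at hyx
  have hc0 : c ≠ 0 := fun e => qy (by rw [hyx, e, zero_smul, map_zero])
  have hA2 : k.1 * kc α y = kc α y * (c⁻¹ • A) := by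
    rw [hA, Matrix.mul_smul]
    conv_rhs => rw [hyx, kc_smul, Matrix.smul_mul, smul_smul, inv_mul_cancel₀ hc0, one_smul]
  have e1 := congrArg (kr α (JB *ᵥ y) * ·) hA2
  rw [kr_kc_mul, ← ct, H.ct_next hkc, ← hC, H.mul_adj_self, hN, zero_smul, smul_zero, add_zero, H.gB.self,
    b_self] at e1
  have e2 : c⁻¹ • A = 1 := (smul_right_injective _ (mul_ne_zero h2 qy) e1).symm
  rw [e2, Matrix.mul_one, hkc, add_eq_left, smul_eq_zero, or_iff_right (neg_ne_zero.2 (inv_ne_zero hv))] at hA2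
  have e3 := congrArg ((kr α (JB *ᵥ v) * (g⁻¹).1) * ·) hA2
  rw [← Matrix.mul_assoc, H.residual_norm, Matrix.smul_mul, Matrix.one_mul, Matrix.mul_zero, smul_eq_zero,
    or_iff_right (mul_ne_zero h2 hv), ← hC] at e3
  have e4 := congrArg (adj JA) e3
  rw [H.adj_adj, H.adj_zero] at e4
  exact hne e4

/-- A second zero of the norm orthogonal to a zero of the contraction gives purity. -/
theorem pure_of_two (h3 : Fintype.card β = 3) {ω : F} (hω : ω ≠ 0 ∧ ω ≠ 1 ∧ ω ≠ -1) (hS : Small JB M)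
    {g : GL (α × β) F} (hg : g ∈ M) {v : β → F} (hv : QB v ≠ 0) {y w : β → F} (qy : QB y ≠ 0)
    (hy : ct JB g v y = (0 : Matrix α α F)) (hw0 : w ≠ 0) (hyw : QuadraticMap.polar ⇑QB y w = 0)
    (hw : nrm JA (ct JB g v w) = 0) :
    ∃ T : Matrix β β F,
      g.1 * ((1 : Matrix α α F) ⊗ₖ (1 + (-(QB v)⁻¹) • Matrix.vecMulVec v (JB *ᵥ v))) * (g⁻¹).1 =
        (1 : Matrix α α F) ⊗ₖ T := by
  by_cases qw : QB w = 0
  · have e : QB (w + y) = QB y := by rw [q_add, qw, b_comm w y, hyw, zero_add, add_zero]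
    have := H.ct_eq_zero h3 hω hS hg hv (y := w + y) (by rwa [e]) (by rwa [ct_add, hy, add_zero])
    rw [ct_add, hy, add_zero] at this
    exact H.refl_fix hS hg hv qw hw0 this
  have hw' := H.ct_eq_zero h3 hω hS hg hv qw hw
  obtain ⟨z, -, -, qz, hdec⟩ := H.exists_third_perp h3 qy qw hyw
  obtain ⟨S, hS'⟩ : ∃ S, S = (2 * QB z)⁻¹ • ct JB g v z := ⟨_, rfl⟩
  have hZ : g.1 * kc α v = kc α z * S := by
    rw [H.block_decomp hdec (g.1 * kc α v), hS', ct]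
    rw [show kr α (JB *ᵥ y) * (g.1 * kc α v) = 0 from hy, show kr α (JB *ᵥ w) * (g.1 * kc α v) = 0 from hw']
    simp
  obtain ⟨k, -, hk₀, -, hkc⟩ := H.exists_conj hg hv
  obtain ⟨e, he⟩ : ∃ e, e = -(QB v)⁻¹ := ⟨_, rfl⟩
  refine ⟨1 + (e * nrm JA S) • Matrix.vecMulVec z (JB *ᵥ z), hk₀ ▸ eq_of_mul_kc_all fun x => ?_⟩
  have hx : ct JB g v x = QuadraticMap.polar ⇑QB x z • S := by rw [ct, hZ, kr_kc_mul, H.gB.dot_polar]
  rw [hkc, ← he, hx, hZ, H.adj_smul, Matrix.mul_smul, Matrix.mul_assoc, H.mul_adj_self, kron_mul_kc, Matrix.mul_one,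
    Matrix.add_mulVec, Matrix.one_mulVec, Matrix.smul_mulVec, Matrix.vecMulVec_mulVec, op_smul_eq_smul, kc_add,
    kc_smul, kc_smul, Matrix.mul_smul, Matrix.mul_one, smul_smul, smul_smul, smul_smul, H.gB.dot_polar, b_comm z x]
  module

/-- A conjugate which exchanges two orthogonal vectors. -/
theorem pure_of_swap (h3 : Fintype.card β = 3) {ω : F} (hω : ω ≠ 0 ∧ ω ≠ 1 ∧ ω ≠ -1) (hS : Small JB M)
    {g : GL (α × β) F} (hg : g ∈ M) {v : β → F} (hv : QB v ≠ 0) {y p : β → F} (qy : QB y ≠ 0)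
    (hy : ct JB g v y = (0 : Matrix α α F)) (hyp : QuadraticMap.polar ⇑QB y p = 0) (qp : QB p = -QB y)
    (hp : 2 * QB p + -(QB v)⁻¹ * nrm JA (ct JB g v p) = 0) :
    ∃ T : Matrix β β F,
      g.1 * ((1 : Matrix α α F) ⊗ₖ (1 + (-(QB v)⁻¹) • Matrix.vecMulVec v (JB *ᵥ v))) * (g⁻¹).1 =
        (1 : Matrix α α F) ⊗ₖ T := by
  have h2 := H.two
  have qp0 : QB p ≠ 0 := by rw [qp]; exact neg_ne_zero.2 qy
  obtain ⟨z, yz, pz, qz, hdec⟩ := H.exists_third_perp h3 qy qp0 hyp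
  have hz0 : z ≠ 0 := fun e => qz (by rw [e, map_zero])
  obtain ⟨d, hd⟩ : ∃ d, d = -(QB v)⁻¹ := ⟨_, rfl⟩
  have hd0 : d ≠ 0 := hd ▸ neg_ne_zero.2 (inv_ne_zero hv)
  rw [← hd] at hp
  obtain ⟨np, hnp⟩ : ∃ np, np = nrm JA (ct JB g v p) := ⟨_, rfl⟩
  obtain ⟨nz, hnz⟩ : ∃ nz, nz = nrm JA (ct JB g v z) := ⟨_, rfl⟩
  rw [← hnp] at hp
  have hnzv : d * nz = -(2 * QB z) := by
    have e := H.norm_sum hg v hdec
    rw [hy, H.nrm_zero, mul_zero, zero_add, ← hnp, ← hnz] at e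
    have hdv : d * QB v = -1 := by rw [hd]; field_simp
    have e' : d * ((2 * QB p)⁻¹ * np + (2 * QB z)⁻¹ * nz) = -2 := by rw [e]; linear_combination 2 * hdv
    field_simp at e'
    have : QB p * (d * nz + 2 * QB z) = 0 := by linear_combination e' - QB z * hp
    linear_combination (mul_eq_zero.1 this).resolve_left qp0
  obtain ⟨k, hk, -, -, hkc⟩ := H.exists_conj hg hv
  rw [← hd] at hkc
  obtain ⟨A, hA⟩ : ∃ A, A = (2 * QB z)⁻¹ • (d • (ct JB g v z * adj JA (ct JB g v p))) := ⟨_, rfl⟩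
  have kp : k.1 * kc α p = kc α z * A := by
    have c1 : ∀ x, kr α (JB *ᵥ x) * (k.1 * kc α p) =
        QuadraticMap.polar ⇑QB x p • 1 + d • (ct JB g v x * adj JA (ct JB g v p)) := fun x => by
      rw [hkc, Matrix.mul_add, kr_mul_kc, H.gB.dot_polar, Matrix.mul_smul, ← Matrix.mul_assoc]
      rfl
    rw [H.block_decomp hdec (k.1 * kc α p), c1, c1, c1, hy, hyp, b_self, b_comm z p, pz, hA, H.mul_adj_self, ← hnp,
      smul_smul d, ← add_smul, hp]
    simp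
  by_cases hsc : ∃ c : F, A = c • 1
  · obtain ⟨c, hc⟩ := hsc
    have hnp0 : d * np ≠ 0 := fun e => mul_ne_zero h2 qp0 (by linear_combination hp - e)
    have e := congrArg (fun X => X * ct JB g v p) (hA.symm.trans hc)
    simp only [Matrix.smul_mul, Matrix.one_mul, Matrix.mul_assoc, H.adj_self_mul, Matrix.mul_smul, Matrix.mul_one,
      smul_smul, ← hnp] at e
    obtain ⟨s, hs⟩ : ∃ s, s = ((2 * QB z)⁻¹ * d * np)⁻¹ * c := ⟨_, rfl⟩
    have hzp : ct JB g v z = s • ct JB g v p := by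
      rw [hs, mul_smul, ← e, smul_smul, inv_mul_cancel₀ (by
        rw [mul_assoc]; exact mul_ne_zero (inv_ne_zero (mul_ne_zero h2 qz)) hnp0), one_smul]
    refine H.pure_of_two h3 hω hS hg hv qy hy (w := z - s • p) (fun e => ?_) ?_ ?_
    · have e1 := congrArg (QuadraticMap.polar ⇑QB z) e
      rw [b_sub_right, b_smul_right, b_self, b_comm z p, pz, mul_zero, sub_zero, b_zero_right] at e1
      exact mul_ne_zero h2 qz e1
    · rw [b_sub_right, b_smul_right, yz, hyp, mul_zero, sub_zero]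
    · rw [ct_sub, ct_smul, hzp, sub_self, H.nrm_zero]
  exfalso
  push Not at hsc
  obtain ⟨e, he⟩ := H.exists_value hsc
  obtain ⟨κ, hκ⟩ : ∃ κ, κ = (JA *ᵥ e) ⬝ᵥ (A *ᵥ e) := ⟨_, rfl⟩
  rw [← hκ] at he
  obtain ⟨δ, hδ⟩ : ∃ δ, δ = nrm JA A := ⟨_, rfl⟩
  have hδv : δ * QB z = QB p := by
    rw [hδ, hA, H.nrm_smul, H.nrm_smul, H.nrm_mul, H.nrm_adj, ← hnp, ← hnz]
    have e2 : d * np = -(2 * QB p) := by linear_combination hp
    field_simp
    linear_combination (d * np) * hnzv - 2 * QB z * e2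
  have hδ0 : δ ≠ 0 := fun h => qp0 (by rw [← hδv, h, zero_mul])
  obtain ⟨m, ν, hm, hν, hlam, hq₁, hq₂⟩ : ∃ m ν : F, m ≠ 0 ∧ ν ≠ 0 ∧ κ * κ * m * m / δ ≠ 1 ∧
      ν * ν ≠ δ ∧ ν * (κ * κ * m * m / δ) * (ν * (κ * κ * m * m / δ)) ≠ δ := by
    obtain ⟨o0, o1, o2⟩ := hω
    by_cases hsq : ∃ r : F, δ = r * r
    · obtain ⟨r, rfl⟩ := hsq
      have hr : r ≠ 0 := fun h => hδ0 (by rw [h, mul_zero])
      have ho : ω * ω ≠ 1 := fun h => by
        rcases mul_eq_zero.1 (show (ω - 1) * (ω + 1) = 0 by linear_combination h) with h' | h'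
        · exact o1 (sub_eq_zero.1 h')
        · exact o2 (eq_neg_of_add_eq_zero_left h')
      have el : κ * κ * (ω * r / κ) * (ω * r / κ) / (r * r) = ω * ω := by field_simp
      refine ⟨ω * r / κ, r / ω, div_ne_zero (mul_ne_zero o0 hr) he, div_ne_zero hr o0, by rwa [el], ?_, ?_⟩
      · intro h
        refine ho ?_
        field_simp at h
        linear_combination -h
      · rw [el]
        intro h
        refine ho ?_
        field_simp at h
        linear_combination h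
    · refine ⟨1, 1, one_ne_zero, one_ne_zero, fun h => hsq ⟨κ, ?_⟩, fun h => hsq ⟨1, h.symm⟩,
        fun h => hsq ⟨_, h.symm⟩⟩
      field_simp at h
      linear_combination -h
  obtain ⟨l, hl⟩ : ∃ l, l = κ * κ * m * m / δ := ⟨_, rfl⟩
  rw [← hl] at hlam hq₂
  obtain ⟨c, hc⟩ : ∃ c, c = (1 - l) * δ / (κ * κ * m) := ⟨_, rfl⟩
  have hc0 : c ≠ 0 := hc ▸ div_ne_zero (mul_ne_zero (sub_ne_zero.2 (Ne.symm hlam)) hδ0)
    (mul_ne_zero (mul_ne_zero he he) hm)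
  obtain ⟨S, hSd⟩ : ∃ S, S = tv JA e c := ⟨_, rfl⟩
  have hSm : ∀ x, S *ᵥ x = x + (c * ((JA *ᵥ e) ⬝ᵥ x)) • e := fun x => by
    rw [hSd, tv, Matrix.add_mulVec, Matrix.one_mulVec, Matrix.smul_vecMulVec, Matrix.smul_mulVec,
      Matrix.vecMulVec_mulVec, op_smul_eq_smul, smul_smul]
  obtain ⟨n, hn, hn'⟩ := H.inM_left (H.aA.sp_tv e c)
  rw [← hSd] at hn'
  obtain ⟨A', hA'⟩ : ∃ A', A' = δ⁻¹ • adj JA A := ⟨_, rfl⟩
  have hAA : A * A' = 1 := by rw [hA', Matrix.mul_smul, H.mul_adj_self, ← hδ, smul_smul, inv_mul_cancel₀ hδ0, one_smul]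
  have hAA' : A' * A = 1 := mul_eq_one_comm.1 hAA
  have ky : k.1 * kc α y = kc α y := by rw [hkc, hy, H.adj_zero, Matrix.mul_zero, smul_zero, add_zero]
  have kiy : (k⁻¹).1 * kc α y = kc α y := by
    conv_lhs => rw [← ky]
    rw [← Matrix.mul_assoc, k.inv_mul, Matrix.one_mul]
  have kiz : (k⁻¹).1 * kc α z = kc α p * A' := by
    have h1 := congrArg (fun X => (k⁻¹).1 * X * A') kp
    simp only [← Matrix.mul_assoc (k⁻¹).1 k.1, k.inv_mul, Matrix.one_mul] at h1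
    rw [Matrix.mul_assoc (k⁻¹).1, Matrix.mul_assoc (kc α z), hAA, Matrix.mul_one] at h1
    exact h1.symm
  obtain ⟨g₁, hg₁⟩ : ∃ g₁, g₁ = k * n * k⁻¹ := ⟨_, rfl⟩
  have hg₁M : g₁ ∈ M := hg₁ ▸ M.mul_mem (M.mul_mem hk hn) (M.inv_mem hk)
  have gy : g₁.1 * kc α y = kc α y * S := by
    rw [hg₁, Units.val_mul, Units.val_mul, Matrix.mul_assoc, kiy, Matrix.mul_assoc, hn', kron_mul_kc,
      Matrix.one_mulVec, ← Matrix.mul_assoc, ky]
  have gz : g₁.1 * kc α z = kc α z * (A * S * A') := by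
    rw [hg₁, Units.val_mul, Units.val_mul, Matrix.mul_assoc, kiz, Matrix.mul_assoc, ← Matrix.mul_assoc n.1, hn',
      kron_mul_kc, Matrix.one_mulVec, ← Matrix.mul_assoc k.1, ← Matrix.mul_assoc k.1, kp]
    simp only [Matrix.mul_assoc]
  have hASA : ∀ x, (A * S * A') *ᵥ x = x + (c * δ⁻¹ * ((JA *ᵥ (A *ᵥ e)) ⬝ᵥ x)) • (A *ᵥ e) := fun x => by
    have e1 : (JA *ᵥ e) ⬝ᵥ (adj JA A *ᵥ x) = (JA *ᵥ (A *ᵥ e)) ⬝ᵥ x := by
      rw [H.aA.swap, adj, Matrix.mulVec_mulVec, ← Matrix.mul_assoc, ← Matrix.mul_assoc,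
        Matrix.mul_nonsing_inv JA H.iA, Matrix.one_mul, ← Matrix.mulVec_mulVec, Matrix.mulVec_transpose,
        ← Matrix.dotProduct_mulVec, ← H.aA.swap]
    rw [← Matrix.mulVec_mulVec, ← Matrix.mulVec_mulVec, hSm, Matrix.mulVec_add, Matrix.mulVec_smul,
      Matrix.mulVec_mulVec x A, hAA, Matrix.one_mulVec, hA', Matrix.smul_mulVec, dotProduct_smul, e1, smul_eq_mul,
      mul_assoc c]
  have eAe : (JA *ᵥ (A *ᵥ e)) ⬝ᵥ e = -κ := by rw [H.aA.swap, hκ]
  obtain ⟨u, hu⟩ : ∃ u, u = e + (κ * m)⁻¹ • (A *ᵥ e) := ⟨_, rfl⟩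
  have hu0 : u ≠ 0 := fun h => he (by
    have h1 := congrArg (fun x => (JA *ᵥ (A *ᵥ e)) ⬝ᵥ x) h
    rw [hu] at h1
    simp only [dotProduct_add, dotProduct_smul, H.aA.self, eAe, smul_zero, add_zero, dotProduct_zero, neg_eq_zero]
      at h1
    exact h1)
  have heig : (A * S * A') *ᵥ u = l • (S *ᵥ u) := by
    rw [hASA, hSm, hu]
    simp only [dotProduct_add, dotProduct_smul, H.aA.self, eAe, ← hκ, smul_eq_mul, mul_zero, add_zero, zero_add]
    have e1 : l * (1 + c * ((κ * m)⁻¹ * κ)) = 1 := by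
      rw [hc, hl]; field_simp; ring
    have e2 : (κ * m)⁻¹ + c * δ⁻¹ * -κ = l * (κ * m)⁻¹ := by
      rw [hc]; field_simp; ring
    linear_combination (norm := module) congrArg (fun t : F => t • (A *ᵥ e)) e2 - congrArg (fun t : F => t • e) e1
  have qm : QB (y + ν • z) ≠ 0 := by
    rw [q_add, q_smul, b_smul_right, yz, mul_zero, add_zero]
    intro h
    refine hq₁ (mul_right_cancel₀ qz ?_)
    rw [hδv, qp]
    linear_combination h
  have qb : QB (y + (ν * l) • z) ≠ 0 := by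
    rw [q_add, q_smul, b_smul_right, yz, mul_zero, add_zero]
    intro h
    refine hq₂ (mul_right_cancel₀ qz ?_)
    rw [hδv, qp]
    linear_combination h
  have hgm : g₁.1 * kc α (y + ν • z) = kc α y * S + ν • (kc α z * (A * S * A')) := by
    rw [kc_add, kc_smul, Matrix.mul_add, Matrix.mul_smul, gy, gz]
  obtain ⟨T, hT⟩ := H.pure_of_pure_vector h3 hω hS hg₁M qm hu0 qb (a₀ := S *ᵥ u) (by
    rw [hgm, Matrix.add_mulVec, Matrix.smul_mulVec, ← Matrix.mulVec_mulVec, ← Matrix.mulVec_mulVec, heig, kc_mulVec,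
      Matrix.mulVec_smul, kc_mulVec, smul_smul, ← ten_smul_right (ν * l), ← ten_add_right])
  obtain ⟨x', A₁, A₁', hA₁', hA₁⟩ := H.image_of_pure qm hT
  have py := congrArg (kr α (JB *ᵥ y) * ·) (hgm.symm.trans hA₁)
  have pz' := congrArg (kr α (JB *ᵥ z) * ·) (hgm.symm.trans hA₁)
  simp only [Matrix.mul_add, Matrix.mul_smul, kr_kc_mul, H.gB.dot_polar, b_self, yz, b_comm z y, zero_smul,
    smul_zero, add_zero, zero_add, smul_smul] at py pz'
  have hy1 : QuadraticMap.polar ⇑QB y x' ≠ 0 := fun h => by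
    rw [h, zero_smul, smul_eq_zero, or_iff_right (mul_ne_zero h2 qy)] at py
    have := congrArg (· *ᵥ e) py
    simp only [hSm, H.aA.self, mul_zero, zero_smul, add_zero, Matrix.zero_mulVec] at this
    exact he (by rw [hκ, this, Matrix.mulVec_zero, zero_dotProduct])
  obtain ⟨c', hc'⟩ : ∃ c', c' = (ν * (2 * QB z))⁻¹ * QuadraticMap.polar ⇑QB z x' *
      ((QuadraticMap.polar ⇑QB y x')⁻¹ * (2 * QB y)) := ⟨_, rfl⟩
  have hfin : A * S * A' = c' • S := by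
    rw [hc', mul_smul, mul_smul (QuadraticMap.polar ⇑QB y x')⁻¹, py, smul_smul (QuadraticMap.polar ⇑QB y x')⁻¹,
      inv_mul_cancel₀ hy1, one_smul, mul_smul (ν * (2 * QB z))⁻¹, ← pz', smul_smul,
      inv_mul_cancel₀ (mul_ne_zero hν (mul_ne_zero h2 qz)), one_smul]
  have hlast := congrArg (fun X => (JA *ᵥ e) ⬝ᵥ (X *ᵥ e)) hfin
  simp only [hASA, Matrix.smul_mulVec, hSm, H.aA.self, eAe, dotProduct_add, dotProduct_smul, ← hκ, smul_eq_mul,
    mul_zero, add_zero, zero_add] at hlast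
  exact mul_ne_zero (mul_ne_zero (mul_ne_zero hc0 (inv_ne_zero hδ0)) (neg_ne_zero.2 he)) he hlast

/-- An anisotropic zero of the contraction gives purity. -/
theorem pure_of_kernel (h3 : Fintype.card β = 3) {ω : F} (hω : ω ≠ 0 ∧ ω ≠ 1 ∧ ω ≠ -1) (hS : Small JB M)
    {g : GL (α × β) F} (hg : g ∈ M) {v : β → F} (hv : QB v ≠ 0) {y : β → F} (qy : QB y ≠ 0)
    (hy : ct JB g v y = (0 : Matrix α α F)) :
    ∃ T : Matrix β β F,
      g.1 * ((1 : Matrix α α F) ⊗ₖ (1 + (-(QB v)⁻¹) • Matrix.vecMulVec v (JB *ᵥ v))) * (g⁻¹).1 =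
        (1 : Matrix α α F) ⊗ₖ T := by
  have h2 := H.two
  have hy0 : y ≠ 0 := fun e => qy (by rw [e, map_zero])
  obtain ⟨p, hyp, qp⟩ := H.exists_opposite qy
  have qp0 : QB p ≠ 0 := by rw [qp]; exact neg_ne_zero.2 qy
  have hp0 : p ≠ 0 := fun e => qp0 (by rw [e, map_zero])
  obtain ⟨d, hd⟩ : ∃ d, d = -(QB v)⁻¹ := ⟨_, rfl⟩
  have hd0 : d ≠ 0 := hd ▸ neg_ne_zero.2 (inv_ne_zero hv)
  obtain ⟨np, hnp⟩ : ∃ np, np = nrm JA (ct JB g v p) := ⟨_, rfl⟩
  by_cases hn0 : np = 0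
  · exact H.pure_of_two h3 hω hS hg hv qy hy hp0 hyp (hnp ▸ hn0)
  by_cases hs : 2 * QB p + d * np = 0
  · exact H.pure_of_swap h3 hω hS hg hv qy hy hyp qp (by rw [← hd, ← hnp]; exact hs)
  by_cases h4 : 4 * QB p + d * np = 0
  · obtain ⟨z, yz, -, qz, hdec⟩ := H.exists_third_perp h3 qy qp0 hyp
    refine H.pure_of_two h3 hω hS hg hv qy hy (w := z) (fun e => qz (by rw [e, map_zero])) yz ?_
    have e := H.norm_sum hg v hdec
    rw [hy, H.nrm_zero, mul_zero, zero_add, ← hnp] at e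
    have hdv : d * QB v = -1 := by rw [hd]; field_simp
    have e' : d * ((2 * QB p)⁻¹ * np + (2 * QB z)⁻¹ * nrm JA (ct JB g v z)) = -2 := by
      rw [e]; linear_combination 2 * hdv
    field_simp at e'
    have : QB p * d * nrm JA (ct JB g v z) = 0 := by linear_combination e' - QB z * h4
    exact (mul_eq_zero.1 this).resolve_left (mul_ne_zero qp0 hd0)
  obtain ⟨γ, hγ⟩ : ∃ γ, γ = (2 * QB p + d * np) / (2 * QB y) := ⟨_, rfl⟩
  have hγ0 : γ ≠ 0 := hγ ▸ div_ne_zero hs (mul_ne_zero h2 qy)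
  have hγv : γ * (2 * QB y) = 2 * QB p + d * np := by rw [hγ, div_mul_cancel₀ _ (mul_ne_zero h2 qy)]
  obtain ⟨x, hx⟩ : ∃ x, x = γ • y + p := ⟨_, rfl⟩
  have qx : QB x ≠ 0 := by
    intro h
    rw [hx, q_add, q_smul, b_smul_left, hyp, mul_zero, add_zero] at h
    have : d * np * (4 * QB p + d * np) = 0 := by
      linear_combination 4 * QB y * h - (γ * (2 * QB y) + (2 * QB p + d * np)) * hγv - 4 * QB p * qp
    exact mul_ne_zero (mul_ne_zero hd0 hn0) h4 this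
  have hcx : ct JB g v x = ct JB g v p := by rw [hx, ct_add, ct_smul, hy, smul_zero, zero_add]
  obtain ⟨k, hk, -, -, hkc⟩ := H.exists_conj hg hv
  have hw : ct JB k x (y - p) = (0 : Matrix α α F) := by
    rw [H.ct_next hkc, ct_sub, hy, hcx, zero_sub, Matrix.neg_mul, H.mul_adj_self, ← hnp, ← hd, ← neg_smul,
      smul_smul, ← add_smul]
    refine smul_eq_zero_of_left ?_ _
    rw [hx, b_sub_left, b_add_right, b_add_right, b_smul_right, b_smul_right, b_self, b_self, hyp, b_comm p y, hyp]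
    linear_combination hγv
  have qw : QB (y - p) = 0 := by rw [q_sub, qp, hyp]; ring
  have hw0 : y - p ≠ 0 := fun e => by
    have h1 := congrArg (QuadraticMap.polar ⇑QB y) e
    rw [b_sub_right, b_self, hyp, sub_zero, b_zero_right] at h1
    exact mul_ne_zero h2 qy h1
  obtain ⟨T, hT⟩ := H.refl_fix hS hk qx qw hw0 hw
  obtain ⟨x', A, A', -, hA⟩ := H.image_of_pure qx hT
  obtain ⟨w, hw0', hwx⟩ := exists_orth ![JB *ᵥ x, JB *ᵥ x'] (by simp [h3])
  have wx : QuadraticMap.polar ⇑QB w x = 0 := by rw [b_comm, ← H.gB.dot_polar]; exact hwx 0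
  have wx' : (JB *ᵥ w) ⬝ᵥ x' = 0 := H.orth_comm (hwx 1)
  have hcw : ct JB g v w = (0 : Matrix α α F) := by
    have h1 := H.ct_next hkc x w
    rw [ct, hA, kr_kc_mul, wx', zero_smul, wx, zero_smul, zero_add, ← hd, eq_comm, smul_eq_zero, or_iff_right hd0,
      hcx] at h1
    have h1' := congrArg (· * ct JB g v p) h1
    simp only [Matrix.mul_assoc, H.adj_self_mul, ← hnp, Matrix.mul_smul, Matrix.mul_one, Matrix.zero_mul,
      smul_eq_zero, or_iff_right hn0] at h1'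
    exact h1'
  obtain ⟨s, hs'⟩ : ∃ s, s = QuadraticMap.polar ⇑QB y w / (2 * QB y) := ⟨_, rfl⟩
  refine H.pure_of_two h3 hω hS hg hv qy hy (w := w - s • y) (fun e => hw0' ?_) ?_ ?_
  · rw [sub_eq_zero] at e
    rw [e, hx, b_smul_left, b_add_right, b_smul_right, b_self, hyp, add_zero, mul_eq_zero] at wx
    rw [e, wx.resolve_right (mul_ne_zero hγ0 (mul_ne_zero h2 qy)), zero_smul]
  · rw [b_sub_right, b_smul_right, b_self, hs', div_mul_cancel₀ _ (mul_ne_zero h2 qy), sub_self]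
  · rw [ct_sub, ct_smul, hy, hcw, smul_zero, sub_zero, H.nrm_zero]

/-- The conjugates of the reflections act on the second factor, in dimension three. -/
theorem conj_refl_three (h3 : Fintype.card β = 3) (hω' : ∃ ω : F, ω ≠ 0 ∧ ω ≠ 1 ∧ ω ≠ -1) (hS : Small JB M)
    {g : GL (α × β) F} (hg : g ∈ M) {v : β → F} (hv : QB v ≠ 0) :
    ∃ T : Matrix β β F,
      g.1 * ((1 : Matrix α α F) ⊗ₖ (1 + (-(QB v)⁻¹) • Matrix.vecMulVec v (JB *ᵥ v))) * (g⁻¹).1 =
        (1 : Matrix α α F) ⊗ₖ T := by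
  obtain ⟨ω, hω⟩ := hω'
  have h2 := H.two
  by_cases haniso : ∃ y, QB y ≠ 0 ∧ nrm JA (ct JB g v y) = 0
  · obtain ⟨y, qy, hN⟩ := haniso
    exact H.pure_of_kernel h3 hω hS hg hv qy (H.ct_eq_zero h3 hω hS hg hv qy hN)
  push Not at haniso
  let N : QuadraticForm F (β → F) := LinearMap.BilinMap.toQuadraticMap (LinearMap.mk₂ F
    (fun a b : β → F => (2 : F)⁻¹ * Matrix.trace (adj JA (ct JB g v a) * ct JB g v b))
    (fun a a' b => by simp only [ct_add, H.adj_add, Matrix.add_mul, Matrix.trace_add, mul_add])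
    (fun c a b => by simp only [ct_smul, H.adj_smul, Matrix.smul_mul, Matrix.trace_smul, smul_eq_mul]; ring)
    (fun a b b' => by simp only [ct_add, Matrix.mul_add, Matrix.trace_add, mul_add])
    (fun c a b => by simp only [ct_smul, Matrix.mul_smul, Matrix.trace_smul, smul_eq_mul]; ring))
  obtain ⟨n, -, hn0, hn'⟩ := exists_singular (Q := N) (U := (⊤ : Submodule F (β → F)))
    (by rw [finrank_top, Module.finrank_pi, h3])
  have hn : nrm JA (ct JB g v n) = 0 := hn'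
  have qn : QB n = 0 := by
    by_contra h
    exact haniso n h hn
  obtain ⟨d, hd⟩ : ∃ d, d = -(QB v)⁻¹ := ⟨_, rfl⟩
  have hd0 : d ≠ 0 := hd ▸ neg_ne_zero.2 (inv_ne_zero hv)
  have hdv : d * QB v = -1 := by rw [hd]; field_simp
  obtain ⟨x, hxn, qx, hxk⟩ : ∃ x, QuadraticMap.polar ⇑QB n x ≠ 0 ∧ QB x ≠ 0 ∧
      QB x + d * nrm JA (ct JB g v x) ≠ 0 := by
    by_contra hc
    push Not at hc
    obtain ⟨f, qf, hnf⟩ := exists_partner H.gB.nd qn hn0
    have qa : QB (f + n) = 1 := by rw [q_add, qf, qn, b_comm f n, hnf]; ring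
    have qb : QB (f - n) = -1 := by rw [q_sub, qf, qn, b_comm f n, hnf]; ring
    have hab : QuadraticMap.polar ⇑QB (f + n) (f - n) = 0 := by
      rw [b_add_left, b_sub_right, b_sub_right, b_self_zero qf, b_self_zero qn, b_comm f n, hnf]; ring
    obtain ⟨z, az, bz, qz, hdec⟩ := H.exists_third_perp h3 (by rw [qa]; exact one_ne_zero)
      (by rw [qb]; exact neg_ne_zero.2 one_ne_zero) hab
    have nz : QuadraticMap.polar ⇑QB n z = 0 := by
      rw [b_add_left] at az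
      rw [b_sub_left] at bz
      exact (mul_eq_zero.1 (show (2 : F) * QuadraticMap.polar ⇑QB n z = 0 by linear_combination az - bz)).resolve_left h2
    have fz : QuadraticMap.polar ⇑QB f z = 0 := by rw [b_add_left, nz, add_zero] at az; exact az
    have ea := hc (f + n) (by rw [b_add_right, hnf, b_self_zero qn, add_zero]; exact one_ne_zero)
      (by rw [qa]; exact one_ne_zero)
    have eb := hc (f - n) (by rw [b_sub_right, hnf, b_self_zero qn, sub_zero]; exact one_ne_zero)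
      (by rw [qb]; exact neg_ne_zero.2 one_ne_zero)
    obtain ⟨P, hP⟩ := H.nrm_expand (ct JB g v f) (ct JB g v z)
    have es : ∀ s : F, s ≠ 0 → s * s * QB z +
        d * (nrm JA (ct JB g v f) + s * P + s * s * nrm JA (ct JB g v z)) = 0 := fun s hs => by
      have qs : QB (f + s • z) = s * s * QB z := by rw [q_add, qf, q_smul, b_smul_right, fz]; ring
      have := hc (f + s • z) (by rw [b_add_right, b_smul_right, hnf, nz, mul_zero, add_zero]; exact one_ne_zero)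
        (by rw [qs]; exact mul_ne_zero (mul_ne_zero hs hs) qz)
      rwa [qs, ct_add, ct_smul, hP] at this
    have e1 := es 1 one_ne_zero
    have e2 := es (-1) (neg_ne_zero.2 one_ne_zero)
    have e3 := es ω hω.1
    have hP0 : d * P = 0 := (mul_eq_zero.1 (show (2 : F) * (d * P) = 0 by linear_combination e1 - e2)).resolve_left h2
    have ez : QB z + d * nrm JA (ct JB g v z) = 0 := by
      have h4 : (ω - 1) * (ω + 1) * (QB z + d * nrm JA (ct JB g v z)) = 0 := by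
        linear_combination e3 - e1 - (ω - 1) * hP0
      refine (mul_eq_zero.1 h4).resolve_left (mul_ne_zero (sub_ne_zero.2 hω.2.1) fun h => ?_)
      exact hω.2.2 (eq_neg_of_add_eq_zero_left h)
    have e := H.norm_sum hg v hdec
    rw [qa] at e ea
    rw [qb] at e eb
    field_simp at e
    have : QB z = 0 := by
      linear_combination d * e + QB z * eb - QB z * ea - ez + 4 * QB z * hdv
    exact qz this
  obtain ⟨k, hk, -, -, hkc⟩ := H.exists_conj hg hv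
  obtain ⟨nx, hnx⟩ : ∃ nx, nx = nrm JA (ct JB g v x) := ⟨_, rfl⟩
  have hnx0 : nx ≠ 0 := hnx ▸ haniso x qx
  obtain ⟨W, hW⟩ : ∃ W, W = (-QuadraticMap.polar ⇑QB n x) • x + (2 * QB x + d * nx) • n := ⟨_, rfl⟩
  have qW : QB W ≠ 0 := by
    have e : QB W = -(QuadraticMap.polar ⇑QB n x * QuadraticMap.polar ⇑QB n x) * (QB x + d * nx) := by
      rw [hW, q_add, q_smul, q_smul, qn, b_smul_left, b_smul_right, b_comm x n]; ring
    rw [e]
    exact mul_ne_zero (neg_ne_zero.2 (mul_ne_zero hxn hxn)) (hnx ▸ hxk)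
  have hcW : ct JB k x W = ((2 * QB x + d * nx) * d) • (ct JB g v n * adj JA (ct JB g v x)) := by
    rw [H.ct_next hkc, ← hd, hW, ct_add, ct_smul, ct_smul, b_add_left, b_smul_left, b_smul_left, b_self, Matrix.add_mul,
      Matrix.smul_mul, Matrix.smul_mul, H.mul_adj_self, ← hnx]
    module
  have hNW : nrm JA (ct JB k x W) = 0 := by rw [hcW, H.nrm_smul, H.nrm_mul, hn, zero_mul, mul_zero]
  obtain ⟨T, hT⟩ := H.pure_of_kernel h3 hω hS hk qx qW (H.ct_eq_zero h3 hω hS hk qx qW hNW)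
  obtain ⟨x', A, A', -, hA⟩ := H.image_of_pure qx hT
  obtain ⟨w, hw0, hwx⟩ := exists_orth ![JB *ᵥ x, JB *ᵥ x'] (by simp [h3])
  have wx : QuadraticMap.polar ⇑QB w x = 0 := by rw [b_comm, ← H.gB.dot_polar]; exact hwx 0
  have wx' : (JB *ᵥ w) ⬝ᵥ x' = 0 := H.orth_comm (hwx 1)
  have h1 := H.ct_next hkc x w
  rw [ct, hA, kr_kc_mul, wx', zero_smul, wx, zero_smul, zero_add, ← hd, eq_comm, smul_eq_zero, or_iff_right hd0] at h1
  have hcw : ct JB g v w = (0 : Matrix α α F) := by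
    have h1' := congrArg (· * ct JB g v x) h1
    simp only [Matrix.mul_assoc, H.adj_self_mul, ← hnx, Matrix.mul_smul, Matrix.mul_one, Matrix.zero_mul,
      smul_eq_zero, or_iff_right hnx0] at h1'
    exact h1'
  by_cases qw : QB w = 0
  · exact H.refl_fix hS hg hv qw hw0 hcw
  · exact H.pure_of_kernel h3 hω hS hg hv qw hcw

end OrthHyp

end CfsgLib.Classical.TensorMixed
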