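import Cfsg.Agent.Lib.Classical.TensorMixed.OrthStep
import Cfsg.Agent.Lib.Classical.TensorMixed.OrthThree
import Cfsg.Agent.Lib.Classical.OmegaApps

set_option autoImplicit false
set_option linter.unusedSectionVars false

/-!
The second factor a quadratic space of dimension four without totally singular planes.
-/

namespace CfsgLib.Classical.TensorMixed

open Matrix CfsgLib.Classical.TensorMax CfsgLib.Orth
open CfsgLib.Classical.TensorSymp (adj Sp AForm tv ten kr_mul_apply kc_mul_apply eq_of_mul_kc_all kron_mulVec_ten)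
open scoped MatrixGroups Kronecker

variable {F : Type*} [Field F] [Finite F] {α β : Type} [Fintype α] [DecidableEq α] [Fintype β] [DecidableEq β]
variable {QB : QuadraticForm F (β → F)} {JA : Matrix α α F} {JB : Matrix β β F} {M : Subgroup (GL (α × β) F)}

/-- An anisotropic plane has singular vectors in its orthogonal, when there is no totally singular plane. -/
theorem exists_sing_orth (h2 : (2 : F) ≠ 0) (hB : Nondeg QB) (h4 : Fintype.card β = 4)
    (hns : ∀ U : Submodule F (β → F), Module.finrank F U = 2 → ∃ x ∈ U, QB x ≠ 0)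
    {N : Submodule F (β → F)} (hN : Module.finrank F N = 2) (haN : ∀ y ∈ N, QB y = 0 → y = 0) :
    ∃ w ∈ orth QB N, w ≠ 0 ∧ QB w = 0 := by
  classical
  letI : Fintype F := Fintype.ofFinite F
  by_contra hc
  push Not at hc
  have haS : ∀ y ∈ orth QB N, QB y = 0 → y = 0 := fun y hy e => by_contra fun h => hc y hy h e
  have hS : Module.finrank F (orth QB N) = 2 := by
    have := finrank_orth hB N
    rw [Module.finrank_pi] at this
    omega
  have hperp : ∀ (U : Submodule F (β → F)), Module.finrank F U = 2 → ∀ a : β → F, ∃ b ∈ U, b ≠ 0 ∧ QuadraticMap.polar ⇑QB a b = 0 := by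
    intro U hU a
    obtain ⟨b, hb, hb0⟩ : ∃ b ∈ U ⊓ orth QB (Submodule.span F {a}), b ≠ 0 := by
      refine Submodule.exists_mem_ne_zero_of_ne_bot fun e => ?_
      have h1 := Submodule.finrank_sup_add_finrank_inf_eq U (orth QB (Submodule.span F {a}))
      have h3 := Submodule.finrank_le (U ⊔ orth QB (Submodule.span F {a}))
      have h5 := finrank_orth hB (Submodule.span F {a})
      have h6 : Module.finrank F (Submodule.span F ({a} : Set (β → F))) ≤ 1 :=
        (finrank_span_le_card _).trans (by simp)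
      rw [e, finrank_bot] at h1
      rw [Module.finrank_pi] at h3 h5
      omega
    exact ⟨b, hb.1, hb0, mem_orth.1 hb.2 a (Submodule.subset_span rfl)⟩
  obtain ⟨s, hs, hs0⟩ := (orth QB N).exists_mem_ne_zero_of_ne_bot fun e => by rw [e, finrank_bot] at hS; omega
  have qs : QB s ≠ 0 := fun e => hs0 (haS s hs e)
  obtain ⟨s', hs', hs'0, hss⟩ := hperp _ hS s
  obtain ⟨p, hp, qp⟩ := CfsgLib.Orth.exists_value (Q := QB) (U := N) (fun x hx h => haN x hx (by
    have := h x hx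
    rw [b_self] at this
    exact (mul_eq_zero.1 this).resolve_left h2)) h2 (le_of_eq hN.symm) (-QB s)
  obtain ⟨p', hp', hp'0, hpp⟩ := hperp _ hN p
  have qs' : QB s' ≠ 0 := fun e => hs'0 (haS s' hs' e)
  have qp' : QB p' ≠ 0 := fun e => hp'0 (haN p' hp' e)
  have qp0 : QB p ≠ 0 := by rw [qp]; exact neg_ne_zero.2 qs
  have key : ∀ (U : Submodule F (β → F)), (∀ y ∈ U, QB y = 0 → y = 0) → ∀ a ∈ U, ∀ b ∈ U, QB a ≠ 0 → QB b ≠ 0 →
      QuadraticMap.polar ⇑QB a b = 0 → ¬ IsSquare (-(QB b * QB a)) := by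
    rintro U haU a ha b hb qa qb hab ⟨r, hr⟩
    have e0 : b + (r / QB a) • a = 0 := haU _ (U.add_mem hb (U.smul_mem _ ha)) (by
      rw [q_add, q_smul, b_smul_right, b_comm b a, hab, mul_zero, add_zero]
      field_simp
      linear_combination -hr)
    have e1 : QuadraticMap.polar ⇑QB b (b + (r / QB a) • a) = 0 := by rw [e0, b_zero_right]
    rw [b_add_right, b_smul_right, b_comm b a, hab, mul_zero, add_zero, b_self] at e1
    exact qb ((mul_eq_zero.1 e1).resolve_left h2)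
  have hprod : ∀ {a b : F}, ¬ IsSquare a → ¬ IsSquare b → IsSquare (a * b) := fun {a b} ha hb => by
    have h1 := quadraticChar_neg_one_iff_not_isSquare.2 ha
    have h3 := quadraticChar_neg_one_iff_not_isSquare.2 hb
    have ha0 : a ≠ 0 := fun h => ha (h ▸ IsSquare.zero)
    have hb0 : b ≠ 0 := fun h => hb (h ▸ IsSquare.zero)
    exact (quadraticChar_one_iff_isSquare (mul_ne_zero ha0 hb0)).1 (by rw [map_mul, h1, h3]; norm_num)
  obtain ⟨r, hr⟩ := hprod (key _ haS s hs s' hs' qs qs' hss) (key _ haN p hp p' hp' qp0 qp' hpp)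
  obtain ⟨μ, hμ⟩ : ∃ μ, μ = r / (QB s * QB p') := ⟨_, rfl⟩
  have qμ : QB s' + μ * μ * QB p' = 0 := by
    rw [hμ]
    field_simp
    rw [qp] at hr
    linear_combination -hr
  have hcross : ∀ {a b}, a ∈ orth QB N → b ∈ N → QuadraticMap.polar ⇑QB a b = 0 := fun ha hb => by
    rw [b_comm]; exact mem_orth.1 ha _ hb
  obtain ⟨x, hx⟩ : ∃ x, x = s + p := ⟨_, rfl⟩
  obtain ⟨x', hx'⟩ : ∃ x', x' = s' + μ • p' := ⟨_, rfl⟩
  have qx : QB x = 0 := by rw [hx, q_add, hcross hs hp, qp, add_zero, add_neg_cancel]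
  have qx' : QB x' = 0 := by
    rw [hx', q_add, q_smul, b_smul_right, hcross hs' hp', mul_zero, add_zero, qμ]
  have bxx : QuadraticMap.polar ⇑QB x x' = 0 := by
    rw [hx, hx', b_add_left, b_add_right, b_add_right, b_smul_right, b_smul_right, hss, hcross hs hp', hpp,
      b_comm p s', hcross hs' hp]
    ring
  have sx : QuadraticMap.polar ⇑QB s x = 2 * QB s := by rw [hx, b_add_right, b_self, hcross hs hp, add_zero]
  have sx' : QuadraticMap.polar ⇑QB s x' = 0 := by
    rw [hx', b_add_right, b_smul_right, hss, hcross hs hp', mul_zero, add_zero]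
  have s'x' : QuadraticMap.polar ⇑QB s' x' = 2 * QB s' := by
    rw [hx', b_add_right, b_smul_right, b_self, hcross hs' hp', mul_zero, add_zero]
  have hli : LinearIndependent F ![x, x'] := LinearIndependent.pair_iff.2 fun a b hab => by
    have h1 := congrArg (QuadraticMap.polar ⇑QB s) hab
    rw [b_add_right, b_smul_right, b_smul_right, sx, sx', mul_zero, add_zero, b_zero_right] at h1
    have ha : a = 0 := (mul_eq_zero.1 h1).resolve_right (mul_ne_zero h2 qs)
    have h3 := congrArg (QuadraticMap.polar ⇑QB s') hab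
    rw [ha, zero_smul, zero_add, b_smul_right, s'x', b_zero_right] at h3
    exact ⟨ha, (mul_eq_zero.1 h3).resolve_right (mul_ne_zero h2 qs')⟩
  obtain ⟨z, hz, qz⟩ := hns (Submodule.span F (Set.range ![x, x'])) (by
    rw [finrank_span_eq_card hli, Fintype.card_fin])
  rw [Matrix.range_cons_cons_empty] at hz
  obtain ⟨a, b, rfl⟩ := Submodule.mem_span_pair.1 hz
  exact qz (by
    rw [q_add, q_smul, q_smul, b_smul_left, b_smul_right, qx, qx', bxx]
    ring)

namespace OrthHyp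

variable (H : OrthHyp QB JA JB M)
include H

theorem ker_ne_zero {E : Matrix α α F} (hE : nrm JA E = 0) : ∃ a : α → F, a ≠ 0 ∧ E *ᵥ a = 0 := by
  classical
  obtain ⟨l⟩ := H.nonempty_left
  by_cases h0 : adj JA E = 0
  · have hE0 : E = 0 := by rw [← H.adj_adj E, h0, H.adj_zero]
    exact ⟨Pi.single l 1, fun e => by simpa using congrFun e l, by rw [hE0, Matrix.zero_mulVec]⟩
  obtain ⟨i, j, hij⟩ : ∃ i j, adj JA E i j ≠ 0 := by
    by_contra hc
    push Not at hc
    exact h0 (Matrix.ext hc)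
  refine ⟨adj JA E *ᵥ Pi.single j 1, fun e => hij ?_, ?_⟩
  · have := congrFun e i
    rw [Matrix.mulVec_single_one] at this
    simpa using this
  · rw [Matrix.mulVec_mulVec, H.mul_adj_self, hE, zero_smul, Matrix.zero_mulVec]

/-- A conjugate acting on the second factor has no contraction with a single vanishing column. -/
theorem col_of_pure {g : GL (α × β) F} {v : β → F} (hv : QB v ≠ 0) {θ : β → F} {l : α}
    (hl : ∀ i, (kr α θ * (g.1 * kc α v)) i l = 0)
    (hT : ∃ T : Matrix β β F,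
      g.1 * ((1 : Matrix α α F) ⊗ₖ (1 + (-(QB v)⁻¹) • Matrix.vecMulVec v (JB *ᵥ v))) * (g⁻¹).1 =
        (1 : Matrix α α F) ⊗ₖ T) :
    kr α θ * (g.1 * kc α v) = 0 := by
  classical
  obtain ⟨T, hT⟩ := hT
  obtain ⟨Z, hZ⟩ : ∃ Z, Z = g.1 * kc α v := ⟨_, rfl⟩
  obtain ⟨R, hR⟩ : ∃ R, R = kr α (JB *ᵥ v) * (g⁻¹).1 := ⟨_, rfl⟩
  obtain ⟨d, hd⟩ : ∃ d, d = -(QB v)⁻¹ := ⟨_, rfl⟩
  rw [← hZ] at hl ⊢
  have hRZ : R * Z = (2 * QB v) • 1 := by rw [hR, hZ, H.residual_norm]
  have hD : (1 : Matrix α α F) ⊗ₖ (T - 1) = d • (Z * R) := by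
    rw [TensorOrth.kron_sub, ← hT, Matrix.one_kronecker_one, ← hd, Matrix.kronecker_add, Matrix.one_kronecker_one,
      Matrix.kronecker_smul, ← kc_mul_kr, Matrix.mul_add, Matrix.mul_one, Matrix.add_mul, g.mul_inv,
      add_sub_cancel_left, Matrix.mul_smul, Matrix.smul_mul, hZ, hR]
    simp only [Matrix.mul_assoc]
  have h1 := congrArg (kr α θ * ·) hD
  simp only [Matrix.mul_smul, kr_mul_kron, Matrix.one_mul, ← Matrix.mul_assoc] at h1
  rcases eq_or_ne (θ ᵥ* (T - 1)) 0 with h0 | h0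
  · rw [h0, kr_zero] at h1
    have h2 := congrArg (· * Z) h1.symm
    simp only [Matrix.zero_mul, Matrix.smul_mul, Matrix.mul_assoc, hRZ, Matrix.mul_smul, Matrix.mul_one, smul_smul,
      smul_eq_zero] at h2
    exact h2.resolve_left (mul_ne_zero (hd ▸ neg_ne_zero.2 (inv_ne_zero hv)) (mul_ne_zero H.two hv))
  · exfalso
    obtain ⟨b, hb⟩ := exists_dual_one h0
    rw [dotProduct_comm] at hb
    have h2 := congrArg (fun A => (A * kc α b).det) h1
    simp only [kr_mul_kc, hb, one_smul, Matrix.det_one, Matrix.smul_mul, Matrix.det_smul, Matrix.det_mul,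
      Matrix.det_eq_zero_of_column_eq_zero l hl, mul_zero, zero_mul, Matrix.mul_assoc _ R] at h2
    exact one_ne_zero h2

/-- A contraction with a vanishing column vanishes. -/
theorem contraction_col (h4 : Fintype.card β = 4)
    (hns : ∀ U : Submodule F (β → F), Module.finrank F U = 2 → ∃ x ∈ U, QB x ≠ 0) (hS : Small JB M)
    {g : GL (α × β) F} (hg : g ∈ M) {v : β → F} (hv : QB v ≠ 0) {θ : β → F} {l : α}
    (hl : ∀ i, (kr α θ * (g.1 * kc α v)) i l = 0) :
    kr α θ * (g.1 * kc α v) = 0 := by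
  classical
  by_contra hne
  obtain ⟨x, rfl⟩ := H.surjB θ
  obtain ⟨Z, hZ⟩ : ∃ Z, Z = g.1 * kc α v := ⟨_, rfl⟩
  rw [← hZ] at hne hl
  let sl : α × α → β → F := fun q k => Z (q.1, k) q.2
  let cl : α → β → F := fun i k => Z (i, k) l
  set W := orth QB (Submodule.span F (Set.range cl)) with hWdef
  have hW : 2 ≤ Module.finrank F W := by
    have h1 := finrank_orth H.gB.nd (Submodule.span F (Set.range cl))
    have h2 : Module.finrank F (Submodule.span F (Set.range cl)) ≤ 2 :=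
      (finrank_range_le_card cl).trans (le_of_eq H.dimA)
    rw [Module.finrank_pi, h4] at h1
    rw [hWdef]
    omega
  have hxW : x ∈ W := mem_orth.2 fun u hu => by
    induction hu using Submodule.span_induction with
    | mem a ha =>
      obtain ⟨i, rfl⟩ := ha
      have := hl i
      rw [kr_mul_apply, H.gB.dot_polar] at this
      rw [b_comm]
      exact this
    | zero => exact b_zero_left x
    | add a b _ _ ha hb => rw [b_add_left, ha, hb, add_zero]
    | smul c a _ ha => rw [b_smul_left, ha, mul_zero]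
  have hle : ¬ W ≤ orth QB (Submodule.span F (Set.range sl)) := fun hle => hne (by
    ext i j
    rw [kr_mul_apply, Matrix.zero_apply, H.gB.dot_polar, b_comm]
    exact mem_orth.1 (hle hxW) _ (Submodule.subset_span ⟨(i, j), rfl⟩))
  obtain ⟨v₀, hv₀, q₀⟩ : ∃ y ∈ W, QB y ≠ 0 := by
    by_contra hc
    push Not at hc
    have hle' : W ≤ orth QB W := fun y hy => mem_orth.2 fun u hu => by
      have := hc _ (W.add_mem hu hy)
      rwa [q_add, hc u hu, hc y hy, zero_add, zero_add] at this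
    have h1 := Submodule.finrank_mono hle'
    have h2 := finrank_orth H.gB.nd W
    rw [Module.finrank_pi, h4] at h2
    obtain ⟨y, hy, qy⟩ := hns W (by omega)
    exact qy (hc y hy)
  obtain ⟨v₂, hv₂, q₂, hv₂L⟩ := exists_aniso_notMem H.two hv₀ q₀ hle
  refine H.refl_step hg hv q₂ (l := l) (fun i => ?_) (fun e => hv₂L (mem_orth.2 fun u hu => ?_))
    fun k hkM _ hR => ?_
  · rw [← hZ, kr_mul_apply, H.gB.dot_polar, b_comm]
    exact mem_orth.1 hv₂ _ (Submodule.subset_span ⟨i, rfl⟩)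
  · induction hu using Submodule.span_induction with
    | mem a ha =>
      obtain ⟨⟨i, j⟩, rfl⟩ := ha
      have := congrFun₂ e i j
      rw [← hZ, Matrix.zero_apply, kr_mul_apply, H.gB.dot_polar] at this
      rw [b_comm]
      exact this
    | zero => exact b_zero_left v₂
    | add a b _ _ ha hb => rw [b_add_left, ha, hb, add_zero]
    | smul c a _ ha => rw [b_smul_left, ha, mul_zero]
  -- the second conjugate has a column in a line
  obtain ⟨R, hR, hk2⟩ := hR
  obtain ⟨a, ha0, ha⟩ : ∃ a : α → F, a ≠ 0 ∧ R *ᵥ a = 0 := by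
    obtain ⟨p, hp⟩ := Fintype.exists_ne_of_one_lt_card (by rw [H.dimA]; norm_num) l
    exact Matrix.exists_mulVec_eq_zero_iff.2 (Matrix.det_eq_zero_of_row_eq_zero p (hR p hp))
  obtain ⟨S, hSp, hSl⟩ := H.exists_move (u₀ := Pi.single l 1) (u := a) (fun e => by simpa using congrFun e l) ha0
  obtain ⟨s, hs, hs'⟩ := H.inM_left hSp
  have hsv : (k * s).1 * kc α v₂ = kc α v₂ * S + Z * (R * S) := by
    rw [Units.val_mul, hs', Matrix.mul_assoc, kron_mul_kc, Matrix.one_mulVec, ← Matrix.mul_assoc, hk2, ← hZ,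
      Matrix.add_mul, Matrix.mul_assoc]
  have hRS : ∀ b, (R * S) b l = 0 := fun b => by
    have h1 := congrFun ha b
    rw [← hSl, Matrix.mulVec_mulVec, Matrix.mulVec_single_one] at h1
    exact h1
  have hline : Submodule.span F (Set.range fun i m => ((k * s).1 * kc α v₂) (i, m) l) ≤
      Submodule.span F ({v₂} : Set (β → F)) := by
    rw [Submodule.span_le]
    rintro _ ⟨i, rfl⟩
    refine Submodule.mem_span_singleton.2 ⟨S i l, funext fun m => ?_⟩
    show _ = ((k * s).1 * kc α v₂) (i, m) l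
    rw [hsv, Matrix.add_apply, kc_mul_apply, Matrix.mul_apply,
      Finset.sum_eq_zero (fun b _ => by rw [hRS, mul_zero]), add_zero, Pi.smul_apply, smul_eq_mul, mul_comm]
  have hW3 : 3 ≤ Module.finrank F
      (orth QB (Submodule.span F (Set.range fun i m => ((k * s).1 * kc α v₂) (i, m) l))) := by
    have h1 := (Submodule.finrank_mono hline).trans
      ((finrank_span_le_card ({v₂} : Set (β → F))).trans (by simp : _ ≤ 1))
    have h2 := finrank_orth H.gB.nd (Submodule.span F (Set.range fun i m => ((k * s).1 * kc α v₂) (i, m) l))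
    rw [Module.finrank_pi, h4] at h2
    omega
  obtain ⟨T, hT⟩ := H.conj_refl_wide hS (M.mul_mem hkM hs) q₂ hW3 (by omega)
  refine ⟨T, ?_⟩
  rw [← hT]
  have hcomm : s.1 * ((1 : Matrix α α F) ⊗ₖ (1 + (-(QB v₂)⁻¹) • Matrix.vecMulVec v₂ (JB *ᵥ v₂))) =
      ((1 : Matrix α α F) ⊗ₖ (1 + (-(QB v₂)⁻¹) • Matrix.vecMulVec v₂ (JB *ᵥ v₂))) * s.1 := by
    rw [hs', ← Matrix.mul_kronecker_mul, ← Matrix.mul_kronecker_mul]
    simp only [Matrix.one_mul, Matrix.mul_one]
  rw [_root_.mul_inv_rev, Units.val_mul, Units.val_mul, Matrix.mul_assoc k.1 s.1, hcomm]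
  simp only [Matrix.mul_assoc]
  rw [← Matrix.mul_assoc s.1, s.mul_inv, Matrix.one_mul]

/-- A contraction which is not invertible vanishes. -/
theorem contraction_ker (h4 : Fintype.card β = 4)
    (hns : ∀ U : Submodule F (β → F), Module.finrank F U = 2 → ∃ x ∈ U, QB x ≠ 0) (hS : Small JB M)
    {g : GL (α × β) F} (hg : g ∈ M) {v : β → F} (hv : QB v ≠ 0) {θ : β → F}
    (hn : nrm JA (kr α θ * (g.1 * kc α v)) = 0) :
    kr α θ * (g.1 * kc α v) = 0 := by
  classical
  obtain ⟨l⟩ := H.nonempty_left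
  obtain ⟨a, ha0, ha⟩ := H.ker_ne_zero hn
  obtain ⟨S, hSp, hSl⟩ := H.exists_move (u₀ := Pi.single l 1) (u := a) (fun e => by simpa using congrFun e l) ha0
  obtain ⟨s, hs, hs'⟩ := H.inM_left hSp
  have e : kr α θ * ((g * s).1 * kc α v) = kr α θ * (g.1 * kc α v) * S := by
    rw [Units.val_mul, hs', Matrix.mul_assoc g.1, kron_mul_kc, Matrix.one_mulVec]
    simp only [Matrix.mul_assoc]
  have h0 := H.contraction_col h4 hns hS (M.mul_mem hg hs) hv (θ := θ) (l := l) fun i => by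
    rw [e]
    have h1 := congrFun ha i
    rwa [← hSl, Matrix.mulVec_mulVec, Matrix.mulVec_single_one] at h1
  rw [e] at h0
  obtain ⟨hS1, -⟩ := H.sp_inv H.dA hSp
  have := congrArg (· * S⁻¹) h0
  simpa [Matrix.mul_assoc, hS1] using this

/-- A conjugate of an element without eigenvectors outside the plane it generates with the scalars. -/
theorem exists_out {C : Matrix α α F} (hC : ∀ (u : α → F) (c : F), C *ᵥ u = c • u → u = 0) :
    ∃ A A' : Matrix α α F, Sp JA A ∧ A' * A = 1 ∧ ∀ x y : F, A' * C * A ≠ x • 1 + y • C := by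
  classical
  obtain ⟨l⟩ := H.nonempty_left
  obtain ⟨u, hu⟩ : ∃ u : α → F, u = Pi.single l 1 := ⟨_, rfl⟩
  have hu0 : u ≠ 0 := fun e => by simpa [hu] using congrFun e l
  obtain ⟨N, hN⟩ : ∃ N, N = Matrix.vecMulVec u (JA *ᵥ u) := ⟨_, rfl⟩
  have hN' : ∀ x, N *ᵥ x = ((JA *ᵥ u) ⬝ᵥ x) • u := fun x => by
    rw [hN, Matrix.vecMulVec_mulVec, op_smul_eq_smul]
  have hNu : N *ᵥ u = 0 := by rw [hN', H.aA.self, zero_smul]
  have hκ : (JA *ᵥ u) ⬝ᵥ (C *ᵥ u) ≠ 0 := fun e => by
    obtain ⟨c, hc⟩ := H.line_of_perp hu0 e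
    exact hu0 (hC u c hc)
  have hNN : N * N = 0 := Matrix.ext_iff_mulVec.2 fun x => by
    rw [← Matrix.mulVec_mulVec, hN' x, Matrix.mulVec_smul, hNu, smul_zero, Matrix.zero_mulVec]
  have hNCN : N * C * N = ((JA *ᵥ u) ⬝ᵥ (C *ᵥ u)) • N := Matrix.ext_iff_mulVec.2 fun x => by
    rw [← Matrix.mulVec_mulVec, ← Matrix.mulVec_mulVec, hN' x, Matrix.mulVec_smul, Matrix.mulVec_smul, hN',
      Matrix.smul_mulVec, hN' x, smul_smul, smul_smul, mul_comm]
  have hsp : ∀ c : F, Sp JA (1 + c • N) := fun c => by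
    rw [hN]
    refine sp_rank_one (δ := (-1 : F)) (by rw [H.tA]) ?_
    rw [H.aA.self]
    ring
  have hinv : ∀ c : F, (1 + (-c) • N) * (1 + c • N) = 1 := fun c => by
    rw [Matrix.add_mul, Matrix.one_mul, Matrix.mul_add, Matrix.mul_one, Matrix.smul_mul, Matrix.mul_smul, hNN,
      smul_zero, smul_zero]
    module
  by_contra hc
  push Not at hc
  obtain ⟨x, y, hxy⟩ := hc (1 + (1 : F) • N) (1 + (-(1 : F)) • N) (hsp 1) (hinv 1)
  obtain ⟨x', y', hxy'⟩ := hc (1 + (-(1 : F)) • N) (1 + (-(-(1 : F))) • N) (hsp (-1)) (hinv (-1))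
  have hsum : (2 : F) • C - (2 * ((JA *ᵥ u) ⬝ᵥ (C *ᵥ u))) • N = (x + x') • (1 : Matrix α α F) + (y + y') • C := by
    rw [add_smul, add_smul, add_add_add_comm, ← hxy, ← hxy', ← smul_smul, ← hNCN]
    simp only [Matrix.add_mul, Matrix.mul_add, Matrix.one_mul, Matrix.mul_one, Matrix.smul_mul, Matrix.mul_smul,
      smul_add, smul_smul]
    module
  have h1 := congrArg (· *ᵥ u) hsum
  simp only [Matrix.sub_mulVec, Matrix.add_mulVec, Matrix.smul_mulVec, Matrix.one_mulVec, hNu, smul_zero,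
    sub_zero] at h1
  have hy : y + y' = 2 := by
    by_contra hy
    refine hu0 (hC u ((x + x') / (2 - (y + y'))) ?_)
    have h3 : (2 - (y + y')) • (C *ᵥ u) = (x + x') • u := by linear_combination (norm := module) h1
    rw [div_eq_inv_mul, ← smul_smul, ← h3, smul_smul, inv_mul_cancel₀ (sub_ne_zero.2 (Ne.symm hy)), one_smul]
  have hx : x + x' = 0 := by
    by_contra hx
    refine hu0 ?_
    rw [hy] at h1
    have h3 : (x + x') • u = 0 := by linear_combination (norm := module) -h1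
    exact (smul_eq_zero.1 h3).resolve_left hx
  rw [hx, hy, zero_smul, zero_add, sub_eq_self, smul_eq_zero] at hsum
  rcases hsum with h | h
  · exact (mul_ne_zero H.two hκ) h
  · obtain ⟨u', hu'⟩ := H.exists_one hu0
    refine hu0 ?_
    have h3 := hN' u'
    rw [h, Matrix.zero_mulVec, hu', one_smul] at h3
    exact h3.symm

/-- The conjugates of the reflections of the second factor act on it, in dimension four without totally singular
planes. -/
theorem conj_refl_four (h4 : Fintype.card β = 4)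
    (hns : ∀ U : Submodule F (β → F), Module.finrank F U = 2 → ∃ x ∈ U, QB x ≠ 0) (hS : Small JB M)
    {g : GL (α × β) F} (hg : g ∈ M) {v : β → F} (hv : QB v ≠ 0) :
    ∃ T : Matrix β β F,
      g.1 * ((1 : Matrix α α F) ⊗ₖ (1 + (-(QB v)⁻¹) • Matrix.vecMulVec v (JB *ᵥ v))) * (g⁻¹).1 =
        (1 : Matrix α α F) ⊗ₖ T := by
  classical
  by_cases hfix : ∃ y, QB y = 0 ∧ y ≠ 0 ∧ kr α (JB *ᵥ y) * (g.1 * kc α v) = 0
  · obtain ⟨y, qy, hy0, hy⟩ := hfix
    exact H.refl_fix hS hg hv qy hy0 hy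
  exfalso
  obtain ⟨l⟩ := H.nonempty_left
  obtain ⟨Z, hZ⟩ : ∃ Z, Z = g.1 * kc α v := ⟨_, rfl⟩
  rw [← hZ] at hfix
  let K : (β → F) →ₗ[F] Matrix α α F :=
    { toFun := fun x => kr α (JB *ᵥ x) * Z
      map_add' := fun x y => by rw [Matrix.mulVec_add, kr_add, Matrix.add_mul]
      map_smul' := fun c x => by rw [Matrix.mulVec_smul, kr_smul, Matrix.smul_mul, RingHom.id_apply] }
  have hKd : ∀ x, K x = kr α (JB *ᵥ x) * Z := fun x => rfl
  let φ : (β → F) →ₗ[F] (α → F) := (Matrix.mulVecBilin F F).flip (Pi.single l 1) ∘ₗ K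
  have hker : ∀ x, φ x = 0 → K x = 0 := fun x hx => by
    rw [hKd, hZ]
    refine H.contraction_col h4 hns hS hg hv (l := l) fun i => ?_
    have h1 := congrFun hx i
    simp only [φ, LinearMap.comp_apply, LinearMap.flip_apply, Matrix.mulVecBilin_apply,
      Matrix.mulVec_single_one] at h1
    rw [hKd, hZ] at h1
    exact h1
  obtain ⟨N, hNd⟩ : ∃ N, N = LinearMap.ker K := ⟨_, rfl⟩
  have haN : ∀ y ∈ N, QB y = 0 → y = 0 := fun y hy qy => by_contra fun h => hfix ⟨y, qy, h, by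
    rw [← hKd]; exact (hNd ▸ hy : y ∈ LinearMap.ker K)⟩
  have hN : Module.finrank F N = 2 := by
    have h1 := LinearMap.finrank_range_add_finrank_ker φ
    have h3 := Submodule.finrank_le (LinearMap.range φ)
    have h5 : LinearMap.ker φ ≤ N := fun x hx => hNd ▸ (hker x hx : K x = 0)
    have h6 := Submodule.finrank_mono h5
    rw [Module.finrank_pi, H.dimA] at h3
    rw [Module.finrank_pi, h4] at h1
    rcases Nat.lt_or_ge (Module.finrank F N) 3 with h | h
    · omega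
    · obtain ⟨y, hy, hy0, qy⟩ := exists_singular (Q := QB) (U := N) h
      exact absurd (haN y hy qy) hy0
  have hKN : ∀ x ∈ N, K x = 0 := fun x hx => (hNd ▸ hx : x ∈ LinearMap.ker K)
  -- a hyperbolic pair in the orthogonal of the kernel
  obtain ⟨w, hwS, hw0, qw⟩ := exists_sing_orth H.two H.gB.nd h4 hns hN haN
  have hSN : orth QB (orth QB N) = N := orth_orth H.gB.nd N
  obtain ⟨z, hz, hzw⟩ : ∃ z ∈ orth QB N, QuadraticMap.polar ⇑QB z w ≠ 0 := by
    by_contra hc
    push Not at hc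
    exact hw0 (haN w (hSN ▸ mem_orth.2 hc) qw)
  obtain ⟨w', hw'S, qw', hww⟩ : ∃ w' ∈ orth QB N, QB w' = 0 ∧ QuadraticMap.polar ⇑QB w w' = 1 := by
    obtain ⟨t, ht⟩ : ∃ t, t = (QuadraticMap.polar ⇑QB z w)⁻¹ := ⟨_, rfl⟩
    have h1 : QuadraticMap.polar ⇑QB w (t • z) = 1 := by rw [b_smul_right, b_comm w z, ht, inv_mul_cancel₀ hzw]
    refine ⟨t • z - QB (t • z) • w, Submodule.sub_mem _ (Submodule.smul_mem _ _ hz) (Submodule.smul_mem _ _ hwS),
      ?_, ?_⟩
    · rw [q_sub, q_smul (QB _), qw, b_smul_right (QB _), b_comm (t • z) w, h1]; ring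
    · rw [b_sub_right, b_smul_right (QB _), b_self_zero qw, h1]; ring
  have hli : LinearIndependent F ![w, w'] := LinearIndependent.pair_iff.2 fun a b hab => by
    have h1 := congrArg (QuadraticMap.polar ⇑QB w) hab
    rw [b_add_right, b_smul_right, b_smul_right, b_self_zero qw, hww, b_zero_right] at h1
    have h3 := congrArg (QuadraticMap.polar ⇑QB w') hab
    rw [b_add_right, b_smul_right, b_smul_right, b_self_zero qw', b_comm w' w, hww, b_zero_right] at h3
    exact ⟨by simpa using h3, by simpa using h1⟩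
  have hspan : orth QB N = Submodule.span F (Set.range ![w, w']) := by
    refine (Submodule.eq_of_le_of_finrank_eq (Submodule.span_le.2 ?_) ?_).symm
    · rintro _ ⟨i, rfl⟩
      fin_cases i <;> assumption
    · have h1 := finrank_orth H.gB.nd N
      rw [Module.finrank_pi, h4] at h1
      rw [finrank_span_eq_card hli, Fintype.card_fin]
      omega
  obtain ⟨Z1, hZ1⟩ : ∃ Z1, Z1 = K w' := ⟨_, rfl⟩
  obtain ⟨Z2, hZ2⟩ : ∃ Z2, Z2 = K w := ⟨_, rfl⟩
  have hK : ∀ x, K x = QuadraticMap.polar ⇑QB x w' • Z2 + QuadraticMap.polar ⇑QB x w • Z1 := fun x => by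
    have hmem : x - QuadraticMap.polar ⇑QB x w' • w - QuadraticMap.polar ⇑QB x w • w' ∈ N := by
      rw [← hSN, hspan, Matrix.range_cons_cons_empty]
      refine mem_orth.2 fun u hu => ?_
      obtain ⟨a, b, rfl⟩ := Submodule.mem_span_pair.1 hu
      rw [b_add_left, b_smul_left, b_smul_left, b_sub_right, b_sub_right, b_sub_right, b_sub_right, b_smul_right,
        b_smul_right, b_smul_right, b_smul_right, b_self_zero qw, b_self_zero qw', b_comm w' w, hww,
        b_comm w x, b_comm w' x]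
      ring
    have h1 := hKN _ hmem
    rw [map_sub, map_sub, LinearMap.map_smul, LinearMap.map_smul, ← hZ1, ← hZ2, sub_sub, sub_eq_zero] at h1
    exact h1
  have hZeq : Z = kc α w * Z1 + kc α w' * Z2 := by
    ext ⟨i, m⟩ j
    obtain ⟨x, hx⟩ := H.surjB (Pi.single m (1 : F))
    have h1 := congrFun₂ (hK x) i j
    rw [hKd, hx, kr_mul_apply, single_dotProduct, one_mul] at h1
    rw [h1]
    simp only [Matrix.add_apply, kc_mul_apply, Matrix.smul_apply, smul_eq_mul, ← H.gB.dot_polar, hx,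
      single_dotProduct, one_mul]
    ring
  have hind : ∀ x y : F, x • Z1 + y • Z2 = 0 → x = 0 ∧ y = 0 := fun x y h => by
    have hm : x • w' + y • w ∈ N := by
      rw [hNd, LinearMap.mem_ker, map_add, LinearMap.map_smul, LinearMap.map_smul, ← hZ1, ← hZ2, h]
    have e1 := mem_orth.1 hwS _ hm
    have e2 := mem_orth.1 hw'S _ hm
    rw [b_add_left, b_smul_left, b_smul_left, b_comm w' w, hww, b_self_zero qw] at e1
    rw [b_add_left, b_smul_left, b_smul_left, hww, b_self_zero qw'] at e2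
    exact ⟨by simpa using e1, by simpa using e2⟩
  have hnz : ∀ x y : F, nrm JA (x • Z1 + y • Z2) = 0 → x = 0 ∧ y = 0 := fun x y h => by
    refine hind x y ?_
    have e : K (x • w' + y • w) = x • Z1 + y • Z2 := by
      rw [map_add, LinearMap.map_smul, LinearMap.map_smul, ← hZ1, ← hZ2]
    rw [← e, hKd, hZ] at h ⊢
    exact H.contraction_ker h4 hns hS hg hv h
  obtain ⟨n1, hn1⟩ : ∃ n, n = nrm JA Z1 := ⟨_, rfl⟩
  obtain ⟨n2, hn2⟩ : ∃ n, n = nrm JA Z2 := ⟨_, rfl⟩
  have hn1' : n1 ≠ 0 := fun h => one_ne_zero (hnz 1 0 (by rw [one_smul, zero_smul, add_zero, ← hn1, h])).1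
  obtain ⟨C, hCd⟩ : ∃ C, C = Z2 * adj JA Z1 := ⟨_, rfl⟩
  obtain ⟨t, ht⟩ : ∃ t : F, Z1 * adj JA Z2 = t • 1 - C := by
    obtain ⟨t, ht⟩ := H.scalar_of_self (E := C + adj JA C) (by rw [H.adj_add, H.adj_adj, add_comm])
    refine ⟨t, ?_⟩
    rw [← ht, hCd, H.adj_mul, H.adj_adj, add_sub_cancel_left]
  have hC : ∀ (u : α → F) (c : F), C *ᵥ u = c • u → u = 0 := fun u c hu => by
    by_contra hu0
    obtain ⟨a, ha⟩ : ∃ a, a = adj JA Z1 *ᵥ u := ⟨_, rfl⟩
    have e1 : Z1 *ᵥ a = n1 • u := by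
      rw [ha, Matrix.mulVec_mulVec, H.mul_adj_self, ← hn1, Matrix.smul_mulVec, Matrix.one_mulVec]
    have e2 : Z2 *ᵥ a = c • u := by rw [ha, Matrix.mulVec_mulVec, ← hCd, hu]
    have e3 : ((-c) • Z1 + n1 • Z2) *ᵥ a = 0 := by
      rw [Matrix.add_mulVec, Matrix.smul_mulVec, Matrix.smul_mulVec, e1, e2, smul_smul, smul_smul]
      module
    refine hn1' (hnz (-c) n1 ?_).2
    by_contra hne
    have h4' := congrArg (adj JA ((-c) • Z1 + n1 • Z2) *ᵥ ·) e3
    simp only [Matrix.mulVec_mulVec, H.adj_self_mul, Matrix.mulVec_zero, Matrix.smul_mulVec, Matrix.one_mulVec,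
      smul_eq_zero] at h4'
    have : a = 0 := h4'.resolve_left hne
    rw [this, Matrix.mulVec_zero] at e1
    exact hn1' ((smul_eq_zero.1 e1.symm).resolve_right hu0)
  obtain ⟨A, A', hA, hAA, hout⟩ := H.exists_out hC
  have hfree : ∀ x y z u : F, x • (A * Z1) + y • (A * Z2) + z • (C * (A * Z1)) + u • (C * (A * Z2)) = 0 →
      x = 0 ∧ y = 0 ∧ z = 0 ∧ u = 0 := fun x y z u h => by
    obtain ⟨L, hL⟩ : ∃ L, L = z • Z1 + u • Z2 := ⟨_, rfl⟩
    have h' := congrArg (A' * ·) h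
    simp only [Matrix.mul_add, Matrix.mul_smul, ← Matrix.mul_assoc, hAA, Matrix.one_mul, Matrix.mul_zero] at h'
    by_cases hn : nrm JA L = 0
    · obtain ⟨rfl, rfl⟩ := hnz z u (hL ▸ hn)
      rw [zero_smul, zero_smul, add_zero, add_zero] at h'
      obtain ⟨rfl, rfl⟩ := hind x y h'
      exact ⟨rfl, rfl, rfl, rfl⟩
    exfalso
    obtain ⟨G, hG⟩ : ∃ G, G = A' * C * A := ⟨_, rfl⟩
    have h'' : G * L = (-x) • Z1 + (-y) • Z2 := by
      rw [hL, Matrix.mul_add, Matrix.mul_smul, Matrix.mul_smul, hG]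
      linear_combination (norm := module) h'
    refine hout ((nrm JA L)⁻¹ * (-x * z * n1 - x * u * t - y * u * n2))
      ((nrm JA L)⁻¹ * (x * u - y * z)) ?_
    have h3 : nrm JA L • G = (-x * z * n1 - x * u * t - y * u * n2) • 1 + (x * u - y * z) • C := by
      have e := congrArg (· * adj JA L) h''
      simp only [Matrix.mul_assoc, H.mul_adj_self, Matrix.mul_smul, Matrix.mul_one] at e
      rw [e, hL, H.adj_add, H.adj_smul, H.adj_smul]
      simp only [Matrix.add_mul, Matrix.mul_add, Matrix.smul_mul, Matrix.mul_smul, smul_smul, H.mul_adj_self,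
        ← hCd, ht, ← hn1, ← hn2, smul_sub]
      module
    rw [← hG, ← one_smul F G, ← inv_mul_cancel₀ hn, ← smul_smul, h3, smul_add, smul_smul, smul_smul]
  -- the translation and the test element
  obtain ⟨p, hp, hp0⟩ := N.exists_mem_ne_zero_of_ne_bot fun e => by rw [e, finrank_bot] at hN; omega
  have qp : QB p ≠ 0 := fun e => hp0 (haN p hp e)
  have pw : QuadraticMap.polar ⇑QB p w = 0 := mem_orth.1 hwS p hp
  have pw' : QuadraticMap.polar ⇑QB p w' = 0 := mem_orth.1 hw'S p hp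
  have hw's : (JB *ᵥ w') ⬝ᵥ w' = 0 := H.sing.1 qw'
  have hw'p : (JB *ᵥ w') ⬝ᵥ p = 0 := by rw [H.gB.dot_polar, b_comm, pw']
  obtain ⟨T, hT⟩ : ∃ T, T = Tp (1 : F) JB w' p (-((JB *ᵥ p) ⬝ᵥ p) * (2 : F)⁻¹) := ⟨_, rfl⟩
  have hTsp : Sp JB T := hT ▸ H.toHyp.sp_tp hw's hw'p
  have hTw : T *ᵥ w = w + p - QB p • w' := by
    have hh : -(2 * QB p) * (2 : F)⁻¹ = -QB p := by field_simp [H.two]
    rw [hT, tp_mulVec]
    simp only [H.gB.dot_polar, b_comm w' w, hww, pw, b_self, hh, mul_zero, zero_smul, one_smul, mul_one, sub_zero,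
      neg_smul, ← sub_eq_add_neg]
  have hTw' : T *ᵥ w' = w' := by
    rw [hT, tp_mulVec]
    simp only [H.gB.dot_polar, b_self_zero qw', pw', mul_zero, zero_smul, add_zero, sub_zero]
  obtain ⟨h, hh, hh'⟩ := H.inM_kron hA hTsp
  obtain ⟨r, hr, hr'⟩ := H.inM_right (H.sp_refl hv)
  obtain ⟨k, hk⟩ : ∃ k, k = g * r * g⁻¹ := ⟨_, rfl⟩
  have hkM : k ∈ M := hk ▸ M.mul_mem (M.mul_mem hg hr) (M.inv_mem hg)
  obtain ⟨d, hd⟩ : ∃ d, d = -(QB v)⁻¹ := ⟨_, rfl⟩
  have hd0 : d ≠ 0 := hd ▸ neg_ne_zero.2 (inv_ne_zero hv)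
  have hk' : k.1 = 1 + d • (Z * (kr α (JB *ᵥ v) * (g⁻¹).1)) := by
    rw [hk, Units.val_mul, Units.val_mul, hr', ← hd, Matrix.kronecker_add, Matrix.one_kronecker_one,
      Matrix.kronecker_smul, ← kc_mul_kr, Matrix.mul_add, Matrix.mul_one, Matrix.add_mul, g.mul_inv, Matrix.mul_smul,
      Matrix.smul_mul, hZ]
    simp only [Matrix.mul_assoc]
  have hR0 : ∀ b : β → F, kr α (JB *ᵥ v) * (g⁻¹).1 * kc α b = adj JA (K b) := fun b => by
    rw [← H.adj_ct hg, hKd, hZ]; rfl
  obtain ⟨Y, hY⟩ : ∃ Y, Y = h.1 * Z := ⟨_, rfl⟩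
  have hY' : Y = kc α (T *ᵥ w) * (A * Z1) + kc α (T *ᵥ w') * (A * Z2) := by
    rw [hY, hh', hZeq, Matrix.mul_add, ← Matrix.mul_assoc, ← Matrix.mul_assoc, kron_mul_kc, kron_mul_kc,
      Matrix.mul_assoc, Matrix.mul_assoc]
  obtain ⟨Φ, hΦ⟩ : ∃ Φ, Φ = adj JA (Z2 - QB p • Z1) * (A * Z1) + adj JA Z1 * (A * Z2) := ⟨_, rfl⟩
  have hRY : kr α (JB *ᵥ v) * (g⁻¹).1 * Y = Φ := by
    rw [hY', hΦ, Matrix.mul_add, ← Matrix.mul_assoc _ (kc α (T *ᵥ w)), ← Matrix.mul_assoc _ (kc α (T *ᵥ w')), hR0, hR0,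
      hTw, hTw', map_sub, map_add,
      hKN p hp, add_zero, LinearMap.map_smul, ← hZ1, ← hZ2]
  have hZ' : ∀ x : β → F, kr α (JB *ᵥ x) * ((k * h * g).1 * kc α v) =
      QuadraticMap.polar ⇑QB x (T *ᵥ w) • (A * Z1) + QuadraticMap.polar ⇑QB x (T *ᵥ w') • (A * Z2) +
        d • (K x * Φ) := fun x => by
    rw [Units.val_mul, Units.val_mul, Matrix.mul_assoc _ g.1, Matrix.mul_assoc k.1, ← hZ, ← hY, hk', Matrix.add_mul,
      Matrix.one_mul, Matrix.smul_mul, Matrix.mul_assoc Z, hRY, Matrix.mul_add, Matrix.mul_smul, ← Matrix.mul_assoc,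
      ← hKd, hY', Matrix.mul_add, ← Matrix.mul_assoc _ (kc α (T *ᵥ w)), ← Matrix.mul_assoc _ (kc α (T *ᵥ w')),
      kr_mul_kc, kr_mul_kc, H.gB.dot_polar,
      H.gB.dot_polar, Matrix.smul_mul, Matrix.smul_mul, Matrix.one_mul, Matrix.one_mul]
  let E : Fin 3 → Matrix α α F := fun i => kr α (JB *ᵥ ![p, w', w] i) * ((k * h * g).1 * kc α v)
  obtain ⟨c, hc0, hc⟩ := exists_orth (fun (i : α) (m : Fin 3) => E m i l) (by
    rw [H.dimA, Fintype.card_fin]; norm_num)
  have hx := H.contraction_col h4 hns hS (M.mul_mem (M.mul_mem hkM hh) hg) hv (l := l)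
    (θ := JB *ᵥ (c 0 • p + c 1 • w' + c 2 • w)) fun i => by
      have h1 := hc i
      simp only [dotProduct, Fin.sum_univ_three] at h1
      simp only [E, Matrix.cons_val_zero, Matrix.cons_val_one, Matrix.cons_val_two, Matrix.head_cons,
        Matrix.tail_cons] at h1
      simp only [Matrix.mulVec_add, Matrix.mulVec_smul, kr_add, kr_smul, Matrix.add_mul, Matrix.smul_mul,
        Matrix.add_apply, Matrix.smul_apply, smul_eq_mul]
      linear_combination h1
  rw [Matrix.mulVec_add, Matrix.mulVec_add, Matrix.mulVec_smul, Matrix.mulVec_smul, Matrix.mulVec_smul, kr_add,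
    kr_add, kr_smul, kr_smul, kr_smul, Matrix.add_mul, Matrix.add_mul, Matrix.smul_mul, Matrix.smul_mul,
    Matrix.smul_mul, hZ', hZ', hZ', hKN p hp, ← hZ1, ← hZ2, hTw, hTw'] at hx
  have hP1 : Z1 * Φ = t • (A * Z1) - C * (A * Z1) - (QB p * n1) • (A * Z1) + n1 • (A * Z2) := by
    rw [hΦ, H.adj_sub, H.adj_smul, Matrix.mul_add, ← Matrix.mul_assoc _ _ (A * Z1), ← Matrix.mul_assoc _ _ (A * Z2),
      Matrix.mul_sub,
      Matrix.mul_smul, ht, H.mul_adj_self, ← hn1]
    simp only [Matrix.sub_mul, Matrix.smul_mul, Matrix.one_mul, smul_smul]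
  have hP2 : Z2 * Φ = n2 • (A * Z1) - QB p • (C * (A * Z1)) + C * (A * Z2) := by
    rw [hΦ, H.adj_sub, H.adj_smul, Matrix.mul_add, ← Matrix.mul_assoc _ _ (A * Z1), ← Matrix.mul_assoc _ _ (A * Z2),
      Matrix.mul_sub,
      Matrix.mul_smul, H.mul_adj_self, ← hn2, ← hCd]
    simp only [Matrix.sub_mul, Matrix.smul_mul, Matrix.one_mul]
  simp only [b_add_right, b_sub_right, b_smul_right, pw, pw', b_self, b_self_zero qw, b_self_zero qw', b_comm w' w,
    hww, b_comm w p, b_comm w' p, mul_zero, mul_one, add_zero, zero_add, sub_zero, zero_sub, one_smul, zero_smul,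
    Matrix.zero_mul, smul_zero, hP1, hP2] at hx
  obtain ⟨e1, e2, e3, e4⟩ := hfree (c 0 * (2 * QB p) + c 1 * (1 + d * (t - QB p * n1)) + c 2 * (-QB p + d * n2))
    (c 1 * (d * n1) + c 2) (-(c 1 * d) - c 2 * (d * QB p)) (c 2 * d)
    (by linear_combination (norm := module) hx)
  have c2 : c 2 = 0 := (mul_eq_zero.1 e4).resolve_right hd0
  rw [c2] at e1 e3
  have c1 : c 1 = 0 := by simpa [hd0] using e3
  rw [c1] at e1
  have c0 : c 0 = 0 := by simpa [H.two, qp] using e1
  exact hc0 (funext fun m => by fin_cases m <;> assumption)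

end OrthHyp

end CfsgLib.Classical.TensorMixed
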