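import Cfsg.Agent.Lib.Classical.TensorMixed.OrthBase

set_option autoImplicit false
set_option linter.unusedSectionVars false

/-!
The case of a two-dimensional symplectic first and an orthogonal second factor: conjugates of reflections.
-/

namespace CfsgLib.Classical.TensorMixed

open Matrix CfsgLib.Classical.TensorMax CfsgLib.Orth
open CfsgLib.Classical.TensorSymp (adj Sp AForm tv ten kr_mul_apply kc_mul_apply eq_of_mul_kc_all kron_mulVec_ten)
open scoped MatrixGroups Kronecker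

variable {F : Type*} [Field F] [Finite F] {α β : Type} [Fintype α] [DecidableEq α] [Fintype β] [DecidableEq β]
variable {QB : QuadraticForm F (β → F)} {JA : Matrix α α F} {JB : Matrix β β F} {M : Subgroup (GL (α × β) F)}

namespace OrthHyp

variable (H : OrthHyp QB JA JB M)
include H

/-- The second step: a contraction with a vanishing column vanishes, when the second conjugate acts on the second
factor. -/
theorem refl_step {g : GL (α × β) F} (hg : g ∈ M) {v v₂ : β → F} (hv : QB v ≠ 0) (q₂ : QB v₂ ≠ 0) {l : α}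
    (hcol₂' : ∀ i, (kr α (JB *ᵥ v₂) * (g.1 * kc α v)) i l = 0)
    (hne : kr α (JB *ᵥ v₂) * (g.1 * kc α v) ≠ 0)
    (hT : ∀ k ∈ M, k.1 = g.1 * ((1 : Matrix α α F) ⊗ₖ (1 + (-(QB v)⁻¹) • Matrix.vecMulVec v (JB *ᵥ v))) * (g⁻¹).1 →
      (∃ R : Matrix α α F, (∀ p, p ≠ l → ∀ j, R p j = 0) ∧ k.1 * kc α v₂ = kc α v₂ + g.1 * kc α v * R) →
      ∃ T : Matrix β β F,
        k.1 * ((1 : Matrix α α F) ⊗ₖ (1 + (-(QB v₂)⁻¹) • Matrix.vecMulVec v₂ (JB *ᵥ v₂))) * (k⁻¹).1 =
          (1 : Matrix α α F) ⊗ₖ T) : False := by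
  classical
  obtain ⟨Z, hZ⟩ : ∃ Z, Z = g.1 * kc α v := ⟨_, rfl⟩
  let cl : α → β → F := fun i k => Z (i, k) l
  have hcol₂ : ∀ i, (kr α (JB *ᵥ v₂) * Z) i l = 0 := hZ ▸ hcol₂'
  obtain ⟨r, hr, hr'⟩ := H.inM_right (H.sp_refl hv)
  obtain ⟨k, hk⟩ : ∃ k, k = g * r * g⁻¹ := ⟨_, rfl⟩
  have hkM : k ∈ M := hk ▸ M.mul_mem (M.mul_mem hg hr) (M.inv_mem hg)
  obtain ⟨d, hd⟩ : ∃ d, d = -(QB v)⁻¹ := ⟨_, rfl⟩
  obtain ⟨X, hX⟩ : ∃ X, X = blk (g⁻¹).1 (JB *ᵥ v) v₂ := ⟨_, rfl⟩
  have hk2 : k.1 * kc α v₂ = kc α v₂ + d • (Z * X) := by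
    rw [hk, Units.val_mul, Units.val_mul, hr', ← hd, Matrix.kronecker_add, Matrix.one_kronecker_one,
      Matrix.kronecker_smul, ← kc_mul_kr, Matrix.mul_add, Matrix.mul_one, Matrix.add_mul, g.mul_inv, Matrix.add_mul,
      Matrix.one_mul, Matrix.mul_smul, Matrix.smul_mul, Matrix.smul_mul, hX, hZ, blk]
    simp only [Matrix.mul_assoc]
  have hXM : adj JA X = kr α (JB *ᵥ v₂) * Z := by
    have := H.blk_adj hg v v₂
    rw [one_smul, ← hX] at this
    rw [← this, blk, hZ, Matrix.mul_assoc]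
  have hX' : X = adj JA (kr α (JB *ᵥ v₂) * Z) := by rw [← hXM, H.adj_adj]
  have hX0 : X ≠ 0 := fun e => hne (by rw [← hZ, ← hXM, e, H.adj_zero])
  obtain ⟨T, hT⟩ := hT k hkM
    (by rw [hk, Units.val_mul, Units.val_mul, hr'])
    ⟨d • X, fun p hp j => by rw [Matrix.smul_apply, hX', H.adj_row (hcol₂) hp, smul_zero],
      by rw [hk2, Matrix.mul_smul, hZ]⟩
  obtain ⟨e, he⟩ : ∃ e, e = -(QB v₂)⁻¹ := ⟨_, rfl⟩
  obtain ⟨R, hR⟩ : ∃ R, R = kr α (JB *ᵥ v₂) * (k⁻¹).1 := ⟨_, rfl⟩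
  have hD : (1 : Matrix α α F) ⊗ₖ (T - 1) = e • ((kc α v₂ + d • (Z * X)) * R) := by
    rw [TensorOrth.kron_sub, ← hT, Matrix.one_kronecker_one, ← he, Matrix.kronecker_add, Matrix.one_kronecker_one,
      Matrix.kronecker_smul, ← kc_mul_kr, Matrix.mul_add, Matrix.mul_one, Matrix.add_mul, k.mul_inv, add_sub_cancel_left,
      Matrix.mul_smul, Matrix.smul_mul, ← hk2, hR]
    simp only [Matrix.mul_assoc]
  have hrow : ∀ p, p ≠ l → ∀ q, X p q = 0 := fun p hp q => by rw [hX']; exact H.adj_row (hcol₂) hp q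
  have hdetX : X.det = 0 := by
    obtain ⟨p, hp⟩ := Fintype.exists_ne_of_one_lt_card (by rw [H.dimA]; norm_num) l
    exact Matrix.det_eq_zero_of_row_eq_zero p (hrow p hp)
  have hperp : ∀ θ : β → F, θ ⬝ᵥ v₂ = 0 → kr α θ * Z * X = 0 := by
    intro θ hθ
    have h1 := congrArg (kr α θ * ·) hD
    simp only [Matrix.mul_smul, ← Matrix.mul_assoc, Matrix.mul_add, kr_mul_kc, hθ, zero_smul, zero_add,
      kr_mul_kron, Matrix.one_mul, Matrix.smul_mul, smul_smul] at h1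
    rcases eq_or_ne (θ ᵥ* (T - 1)) 0 with h0 | h0
    · rw [h0, kr_zero] at h1
      have h2 := congrArg (fun A => A * (k.1 * kc α v₂)) h1.symm
      simp only [Matrix.zero_mul, Matrix.smul_mul, hR, Matrix.mul_assoc] at h2
      rw [← Matrix.mul_assoc (k⁻¹).1, k.inv_mul, Matrix.one_mul, kr_mul_kc, H.gB.self, Matrix.mul_smul,
        Matrix.mul_smul, Matrix.mul_smul, Matrix.mul_one, smul_smul, smul_eq_zero] at h2
      refine (Matrix.mul_assoc _ _ _).trans (h2.resolve_left ?_)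
      simp [he, hd, q₂, hv, H.two]
    · exfalso
      obtain ⟨b, hb⟩ := exists_dual_one h0
      rw [dotProduct_comm] at hb
      have h2 := congrArg (fun A => (A * kc α b).det) h1
      simp only [kr_mul_kc, hb, one_smul, Matrix.det_one, Matrix.smul_mul, Matrix.det_smul, Matrix.det_mul,
        hdetX, mul_zero, zero_mul, Matrix.mul_assoc _ R] at h2
      exact one_ne_zero h2
  -- the column `l` of `Z` is a multiple of `v₂`
  obtain ⟨q, hq⟩ : ∃ q, X l q ≠ 0 := by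
    by_contra hc
    push Not at hc
    exact hX0 (Matrix.ext fun p q => if hp : p = l then hp ▸ hc q else hrow p hp q)
  have hθ : ∀ θ : β → F, θ ⬝ᵥ v₂ = 0 → ∀ i, θ ⬝ᵥ cl i = 0 := by
    intro θ hθ i
    have h1 := congrFun₂ (hperp θ hθ) i q
    rw [Matrix.mul_apply, Finset.sum_eq_single l (fun a _ ha => by rw [hrow a ha, mul_zero])
      (fun h => absurd (Finset.mem_univ l) h), Matrix.zero_apply, mul_eq_zero, or_iff_left hq, kr_mul_apply] at h1
    exact h1
  have hvB : (JB *ᵥ v₂) ⬝ᵥ v₂ ≠ 0 := by rw [H.gB.self]; exact mul_ne_zero H.two q₂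
  have hcl : ∀ i m, cl i m = 0 := fun i m => by
    obtain ⟨t, ht⟩ : ∃ t, t = v₂ m / ((JB *ᵥ v₂) ⬝ᵥ v₂) := ⟨_, rfl⟩
    have h1 := hθ (Pi.single m 1 - t • (JB *ᵥ v₂)) (by
      rw [sub_dotProduct, smul_dotProduct, single_dotProduct, one_mul, smul_eq_mul, ht,
        div_mul_cancel₀ _ hvB, sub_self]) i
    have h2 : (JB *ᵥ v₂) ⬝ᵥ cl i = 0 := by
      have h3 := hcol₂ i
      rwa [kr_mul_apply] at h3
    rwa [sub_dotProduct, smul_dotProduct, h2, smul_zero, sub_zero, single_dotProduct, one_mul] at h1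
  have hv0 : v ≠ 0 := fun e => hv (by rw [e, map_zero])
  obtain ⟨m, hm⟩ := Function.ne_iff.1 hv0
  have h1 : ((g⁻¹).1 * Z) (l, m) l = 0 := by
    rw [Matrix.mul_apply]
    exact Finset.sum_eq_zero fun a _ => by rw [show Z a l = 0 from hcl a.1 a.2, mul_zero]
  rw [hZ, ← Matrix.mul_assoc, g.inv_mul, Matrix.one_mul, kc_apply] at h1
  exact hm (by simpa using h1)


/-- The conjugate of a reflection with a column whose orthogonal is large. -/
theorem conj_refl_wide (hS : Small JB M) {g : GL (α × β) F} (hg : g ∈ M) {v : β → F} (hv : QB v ≠ 0) {l : α}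
    (h3 : 3 ≤ Module.finrank F (orth QB (Submodule.span F (Set.range fun i k => (g.1 * kc α v) (i, k) l))))
    (hW' : Fintype.card β ≤
      Module.finrank F (orth QB (Submodule.span F (Set.range fun i k => (g.1 * kc α v) (i, k) l))) + 2) :
    ∃ T : Matrix β β F,
      g.1 * ((1 : Matrix α α F) ⊗ₖ (1 + (-(QB v)⁻¹) • Matrix.vecMulVec v (JB *ᵥ v))) * (g⁻¹).1 =
        (1 : Matrix α α F) ⊗ₖ T := by
  classical
  obtain ⟨Z, hZ⟩ : ∃ Z, Z = g.1 * kc α v := ⟨_, rfl⟩
  rw [← hZ] at h3 hW'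
  let sl : α × α → β → F := fun q k => Z (q.1, k) q.2
  let cl : α → β → F := fun i k => Z (i, k) l
  set W := orth QB (Submodule.span F (Set.range cl)) with hWdef
  have hW : Fintype.card β ≤ Module.finrank F W + 2 := hW'
  by_cases hle : W ≤ orth QB (Submodule.span F (Set.range sl))
  · obtain ⟨y, hyW, hy0, hy⟩ := exists_singular (Q := QB) (U := W) h3
    refine H.refl_fix hS hg hv hy hy0 ?_
    ext i j
    rw [← hZ, kr_mul_apply, Matrix.zero_apply, H.gB.dot_polar, b_comm]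
    exact mem_orth.1 (hle hyW) _ (Submodule.subset_span ⟨(i, j), rfl⟩)
  exfalso
  obtain ⟨v₀, hv₀, q₀⟩ : ∃ x ∈ W, QB x ≠ 0 := by
    by_contra hc
    push Not at hc
    have hle' : W ≤ orth QB W := fun x hx => mem_orth.2 fun u hu => by
      have := hc _ (W.add_mem hu hx)
      rwa [q_add, hc u hu, hc x hx, zero_add, zero_add] at this
    have h1 := Submodule.finrank_mono hle'
    have h2 := finrank_orth H.gB.nd W
    rw [Module.finrank_pi] at h2
    have h3' : 3 ≤ Module.finrank F W := h3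
    omega
  obtain ⟨v₂, hv₂, q₂, hv₂L, y, hy, hy0, qy, hvy⟩ := exists_pair_perp H.two h3 hv₀ q₀ hle
  have hcol : ∀ x ∈ W, ∀ i, (kr α (JB *ᵥ x) * Z) i l = 0 := fun x hx i => by
    rw [kr_mul_apply, H.gB.dot_polar, b_comm]
    exact mem_orth.1 hx _ (Submodule.subset_span ⟨i, rfl⟩)
  refine H.refl_step hg hv q₂ (l := l) (by rw [← hZ]; exact hcol v₂ hv₂) (fun e => hv₂L (mem_orth.2 fun u hu => ?_))
    fun k hkM _ hR => ?_
  · induction hu using Submodule.span_induction with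
    | mem a ha =>
      obtain ⟨⟨i, j⟩, rfl⟩ := ha
      have := congrFun₂ e i j
      rw [← hZ, Matrix.zero_apply, kr_mul_apply, H.gB.dot_polar] at this
      rw [b_comm]
      exact this
    | zero => exact b_zero_left v₂
    | add a b _ _ ha hb => rw [b_add_left, ha, hb, add_zero]
    | smul c a _ ha => rw [b_smul_left, ha, mul_zero]
  · obtain ⟨R, hR, hk2⟩ := hR
    refine H.refl_fix hS hkM q₂ qy hy0 ?_
    rw [hk2, ← hZ, Matrix.mul_add, kr_mul_kc, H.gB.dot_polar, b_comm, hvy, zero_smul, zero_add, ← Matrix.mul_assoc]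
    ext i j
    rw [Matrix.mul_apply, Matrix.zero_apply]
    refine Finset.sum_eq_zero fun a _ => ?_
    by_cases ha : a = l
    · rw [ha, hcol y hy, zero_mul]
    · rw [hR a ha, mul_zero]

end OrthHyp

end CfsgLib.Classical.TensorMixed
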