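import Cfsg.Agent.Lib.Classical.TensorMixed.Rad

set_option autoImplicit false
set_option linter.unusedSectionVars false

/-!
When the levels are scalars, an element stabilising `F^α ⊗ w` for an isotropic vector `w` is a Kronecker
product.
-/

namespace CfsgLib.Classical.TensorMixed

open Matrix CfsgLib.Classical.TensorMax
open CfsgLib.Classical.TensorSymp (adj Sp kr_mul_apply kc_mul_apply eq_of_mul_kc_all)
open scoped MatrixGroups Kronecker

variable {F : Type*} [Field F] [Finite F] {α β : Type} [Fintype α] [DecidableEq α] [Fintype β] [DecidableEq β]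
variable {ε : F} {JA : Matrix α α F} {JB : Matrix β β F} {M : Subgroup (GL (α × β) F)}

namespace Hyp

variable (H : Hyp ε JA JB M)
include H

/-- Resolution of the orthogonal of `w`. -/
theorem resolve {w z : β → F} (hw : (JB *ᵥ w) ⬝ᵥ w = 0) (hwz : (JB *ᵥ w) ⬝ᵥ z = 1)
    (hzw : (JB *ᵥ z) ⬝ᵥ w = ε) (hzz : (JB *ᵥ z) ⬝ᵥ z = 0) (X : Matrix (α × β) α F)
    (hX : kr α (JB *ᵥ w) * X = 0) :
    ∃ (n : ℕ) (p a : Fin n → β → F), (∀ k, (JB *ᵥ w) ⬝ᵥ p k = 0) ∧ (∀ k, (JB *ᵥ w) ⬝ᵥ a k = 0) ∧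
      X = kc α w * (ε • (kr α (JB *ᵥ z) * X)) + ∑ k, kc α (p k) * (kr α (JB *ᵥ a k) * X) := by
  classical
  let π : (β → F) → β → F := fun x l => x l - (ε * (JB *ᵥ z) ⬝ᵥ x) * w l - (JB *ᵥ w) ⬝ᵥ x * z l
  have hπ : ∀ x, π x = x - (ε * (JB *ᵥ z) ⬝ᵥ x) • w - ((JB *ᵥ w) ⬝ᵥ x) • z := fun x => rfl
  have hperp : ∀ x, (JB *ᵥ w) ⬝ᵥ π x = 0 := fun x => by
    rw [hπ, dotProduct_sub, dotProduct_sub, dotProduct_smul, dotProduct_smul, hw, hwz]
    simp
  have hperp' : ∀ x, (JB *ᵥ z) ⬝ᵥ π x = 0 := fun x => by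
    rw [hπ, dotProduct_sub, dotProduct_sub, dotProduct_smul, dotProduct_smul, hzw, hzz]
    simp only [smul_eq_mul, mul_zero, sub_zero]
    linear_combination -((JB *ᵥ z) ⬝ᵥ x) * H.sq
  have hadj : ∀ x y, (JB *ᵥ π x) ⬝ᵥ y = (JB *ᵥ x) ⬝ᵥ π y := fun x y => by
    rw [hπ, hπ, Matrix.mulVec_sub, Matrix.mulVec_sub, Matrix.mulVec_smul, Matrix.mulVec_smul, sub_dotProduct,
      sub_dotProduct, smul_dotProduct, smul_dotProduct, dotProduct_sub, dotProduct_sub, dotProduct_smul,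
      dotProduct_smul, H.swapB x w, H.swapB x z, smul_eq_mul, smul_eq_mul, smul_eq_mul, smul_eq_mul]
    linear_combination ((JB *ᵥ z) ⬝ᵥ y) * ((JB *ᵥ w) ⬝ᵥ x) * H.sq
  have hidem : ∀ x, π (π x) = π x := fun x => by
    rw [hπ (π x), hperp, hperp', mul_zero, zero_smul, zero_smul, sub_zero, sub_zero]
  set e := Fintype.equivFin β with he
  choose b hb using fun k : β => H.surjB (Pi.single k (1 : F))
  refine ⟨Fintype.card β, fun i => π (Pi.single (e.symm i) 1), fun i => π (b (e.symm i)), fun _ => hperp _,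
    fun _ => hperp _, ?_⟩
  rw [e.symm.sum_comp fun k : β => kc α (π (Pi.single k 1)) * (kr α (JB *ᵥ π (b k)) * X)]
  ext ⟨i, l⟩ j
  rw [Matrix.add_apply, Matrix.sum_apply]
  simp only [kc_mul_apply, Matrix.smul_apply, smul_eq_mul, kr_mul_apply, hadj]
  obtain ⟨x, hx⟩ : ∃ x, x = fun k => X (i, k) j := ⟨_, rfl⟩
  rw [← hx, show X (i, l) j = x l by rw [hx]]
  have hwx : (JB *ᵥ w) ⬝ᵥ x = 0 := by rw [hx, ← kr_mul_apply, hX, Matrix.zero_apply]
  have hy : ∀ k, (JB *ᵥ b k) ⬝ᵥ π x = π x k := fun k => by rw [hb, single_dotProduct, one_mul]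
  simp only [hy]
  have hsum : ∑ k, π (Pi.single k 1) l * π x k = π (π x) l := by
    have lin : ∀ v : β → F, ∑ k, (Pi.single k (1 : F) : β → F) l * v k = v l := fun v => by
      rw [Finset.sum_eq_single l]
      · simp
      · intro k _ hk; simp [Pi.single_eq_of_ne (Ne.symm hk)]
      · simp
    simp only [hπ (Pi.single _ (1 : F)), hπ (π x), Pi.sub_apply, Pi.smul_apply, smul_eq_mul, dotProduct_single,
      mul_one, sub_mul, Finset.sum_sub_distrib, lin]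
    simp only [dotProduct, Finset.mul_sum, Finset.sum_mul, mul_comm, mul_left_comm]
  rw [hsum, hidem, hπ, hwx]
  simp only [zero_smul, sub_zero, Pi.sub_apply, Pi.smul_apply, Pi.zero_apply, smul_eq_mul]
  ring

/-- The contractions of an element and of its inverse. -/
theorem blk_adj {g : GL (α × β) F} (hg : g ∈ M) (v a : β → F) :
    blk g.1 (JB *ᵥ a) v = ε • adj JA (blk (g⁻¹).1 (JB *ᵥ v) a) := by
  obtain ⟨B, hB⟩ : ∃ B, B = blk (g⁻¹).1 (JB *ᵥ v) a := ⟨_, rfl⟩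
  have h1 : ε • (JA * B) = (g.1 * kc α v)ᵀ * (JA ⊗ₖ JB) * kc α a := by
    rw [Matrix.transpose_mul, Matrix.mul_assoc (kc α v)ᵀ g.1ᵀ, ← H.form_inv hg,
      ← Matrix.mul_assoc (kc α v)ᵀ, H.kc_transpose_mul, Matrix.smul_mul, Matrix.smul_mul, hB, blk]
    simp only [Matrix.mul_assoc]
  have h2 := congrArg Matrix.transpose h1
  rw [Matrix.transpose_smul, Matrix.transpose_mul, H.tA, Matrix.mul_smul, Matrix.transpose_mul, Matrix.transpose_mul,
    Matrix.transpose_transpose, H.form_skew, Matrix.neg_mul, Matrix.mul_neg, ← Matrix.mul_assoc _ (JA ⊗ₖ JB),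
    H.kc_transpose_mul, Matrix.smul_mul, smul_smul, show ε * -ε = -1 by rw [mul_neg, H.sq], neg_smul, one_smul,
    neg_inj] at h2
  rw [← hB, adj, blk, Matrix.mul_assoc (kr α _), Matrix.mul_assoc JA⁻¹, h2, Matrix.mul_smul, Matrix.mul_assoc JA,
    ← Matrix.mul_assoc JA⁻¹ JA, Matrix.nonsing_inv_mul JA H.iA, Matrix.one_mul, smul_smul, H.sq, one_smul]

/-- An element stabilising `F^α ⊗ w` for an isotropic vector `w`. -/
theorem tens_of_stab (hS : Small JB M) (hL : ScalarLevels JB M) {g : GL (α × β) F} (hg : g ∈ M) {w : β → F}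
    (hw : (JB *ᵥ w) ⬝ᵥ w = 0) (hw0 : w ≠ 0) {A : Matrix α α F} (hA : g.1 * kc α w = kc α w * A) :
    Tens g.1 := by
  classical
  obtain ⟨i₀⟩ := H.nonempty_left
  haveI := H.nonempty_left
  haveI := H.nonempty_right
  obtain ⟨z, wz, zw, zz⟩ := H.exists_dual hw hw0
  obtain ⟨θ, hθ⟩ := exists_dual_one hw0
  set A' := blk (g⁻¹).1 θ w with hA'def
  have hA' : A' * A = 1 := by
    rw [hA'def, blk, Matrix.mul_assoc, ← hA, ← Matrix.mul_assoc, Matrix.mul_assoc (kr α θ), g.inv_mul,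
      Matrix.mul_one, kr_mul_kc, hθ, one_smul]
  have hAA : A * A' = 1 := mul_eq_one_comm.1 hA'
  have hginv : (g⁻¹).1 * kc α w = kc α w * A' := by
    calc (g⁻¹).1 * kc α w = (g⁻¹).1 * (kc α w * A * A') := by rw [Matrix.mul_assoc (kc α w), hAA, Matrix.mul_one]
      _ = (g⁻¹).1 * (g.1 * kc α w * A') := by rw [hA]
      _ = kc α w * A' := by rw [← Matrix.mul_assoc, ← Matrix.mul_assoc, g.inv_mul, Matrix.one_mul]
  have hφw := H.adjoint_line hg hA
  have hφg : kr α (JB *ᵥ w) * g.1 = adj JA A' * kr α (JB *ᵥ w) := by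
    have := H.adjoint_line (M.inv_mem hg) hginv
    rwa [inv_inv] at this
  -- the contractions
  have hσ : ∀ v y : β → F, (JB *ᵥ w) ⬝ᵥ v = 0 → (JB *ᵥ w) ⬝ᵥ y = 0 →
      ∃ s : F, A * blk (g⁻¹).1 (JB *ᵥ v) y = s • 1 := by
    intro v y hv hy
    obtain ⟨t, htM, -, ht⟩ := H.inM_tp hw hv
    have tfix : t.1 * kc α w = kc α w := by rw [ht, hw, H.orth_comm hv]; simp
    have tlev : ∀ y, (JB *ᵥ w) ⬝ᵥ y = 0 →
        t.1 * kc α y = kc α y + kc α w * ((-ε * ((JB *ᵥ v) ⬝ᵥ y)) • (1 : Matrix α α F)) := fun y hy => by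
      rw [ht, hy, Matrix.mul_smul, Matrix.mul_one]; simp
    have trad : Rad JB M w t := H.rad_mk wz htM tfix fun y hy => ⟨_, tlev y hy⟩
    have hR := H.rad_conj hw0 trad hg hA hginv
    obtain ⟨X, hX⟩ : ∃ X, X = (g⁻¹).1 * kc α y := ⟨_, rfl⟩
    have hXw : kr α (JB *ᵥ w) * X = 0 := by
      rw [hX, ← Matrix.mul_assoc, hφw, Matrix.mul_assoc, kr_mul_kc, hy, zero_smul, Matrix.mul_zero]
    have htX : t.1 * X = X + kc α w * ((-ε) • (kr α (JB *ᵥ v) * X)) := by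
      have key : t.1 = 1 + kc α v * kr α (JB *ᵥ w) - ε • (kc α w * kr α (JB *ᵥ v)) +
          (-((JB *ᵥ v) ⬝ᵥ v) * (2 : F)⁻¹) • (kc α w * kr α (JB *ᵥ w)) := by
        refine eq_of_mul_kc_all fun y => ?_
        simp only [ht, Matrix.add_mul, Matrix.sub_mul, Matrix.one_mul, Matrix.smul_mul, Matrix.mul_assoc, kr_mul_kc,
          Matrix.mul_smul, Matrix.mul_one]
        module
      simp only [key, Matrix.add_mul, Matrix.sub_mul, Matrix.one_mul, Matrix.smul_mul, Matrix.mul_assoc, hXw,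
        Matrix.mul_zero, smul_zero, Matrix.mul_smul, add_zero]
      module
    obtain ⟨s, hs⟩ := hL w hw hw0 _ hR y hy (A * ((-ε) • (kr α (JB *ᵥ v) * X))) (by
      rw [Units.val_mul, Units.val_mul, Matrix.mul_assoc, ← hX, Matrix.mul_assoc, htX, Matrix.mul_add, hX,
        ← Matrix.mul_assoc g.1 (g⁻¹).1, g.mul_inv, Matrix.one_mul, ← Matrix.mul_assoc g.1 (kc α w), hA,
        Matrix.mul_assoc])
    refine ⟨-ε * s, ?_⟩
    rw [mul_smul, ← hs, Matrix.mul_smul, smul_smul, neg_mul_neg, H.sq, one_smul, hX, blk, Matrix.mul_assoc]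
  -- the multiplier
  obtain ⟨μ, hμ0, hμ⟩ : ∃ μ : F, μ ≠ 0 ∧ A * adj JA A = μ • 1 := by
    obtain ⟨v, v', hv, hv', hvv⟩ := H.exists_perp_pair hw hw0
    obtain ⟨n, p, a, hp', ha', hres⟩ := H.resolve hw wz zw zz (g.1 * kc α v') (by
      rw [← Matrix.mul_assoc, hφg, Matrix.mul_assoc, kr_mul_kc, hv', zero_smul, Matrix.mul_zero])
    choose s hs using fun k => hσ v (p k) hv (hp' k)
    choose s' hs' using fun k => hσ v' (a k) hv' (ha' k)
    have hblk : ∀ k, kr α (JB *ᵥ v) * ((g⁻¹).1 * kc α (p k)) = s k • A' := fun k => by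
      rw [← Matrix.mul_assoc]
      calc kr α (JB *ᵥ v) * (g⁻¹).1 * kc α (p k) = A' * (A * blk (g⁻¹).1 (JB *ᵥ v) (p k)) := by
            rw [← Matrix.mul_assoc, hA', Matrix.one_mul]; rfl
        _ = s k • A' := by rw [hs, Matrix.mul_smul, Matrix.mul_one]
    have hadjblk : ∀ k, kr α (JB *ᵥ a k) * (g.1 * kc α v') = (ε * s' k) • adj JA A' := fun k => by
      have e1 : blk (g⁻¹).1 (JB *ᵥ v') (a k) = s' k • A' := by
        calc blk (g⁻¹).1 (JB *ᵥ v') (a k) = A' * (A * blk (g⁻¹).1 (JB *ᵥ v') (a k)) := by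
              rw [← Matrix.mul_assoc, hA', Matrix.one_mul]
          _ = s' k • A' := by rw [hs', Matrix.mul_smul, Matrix.mul_one]
      have := H.blk_adj hg v' (a k)
      rw [e1, H.adj_smul, smul_smul, blk, Matrix.mul_assoc] at this
      exact this
    have h1 : ((JB *ᵥ v) ⬝ᵥ v') • (1 : Matrix α α F) = kr α (JB *ᵥ v) * ((g⁻¹).1 * (g.1 * kc α v')) := by
      rw [← Matrix.mul_assoc (g⁻¹).1, g.inv_mul, Matrix.one_mul, kr_mul_kc]
    rw [hres, Matrix.mul_add, Matrix.mul_add, Matrix.mul_sum, Matrix.mul_sum, ← Matrix.mul_assoc _ (kc α w), hginv,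
      Matrix.mul_assoc, kr_kc_mul, H.orth_comm hv, zero_smul, zero_add] at h1
    obtain ⟨S, hSdef⟩ : ∃ S, S = ∑ k, s k * (ε * s' k) := ⟨_, rfl⟩
    have h2 : ((JB *ᵥ v) ⬝ᵥ v') • (1 : Matrix α α F) = S • (A' * adj JA A') := by
      rw [h1, hSdef, Finset.sum_smul]
      refine Finset.sum_congr rfl fun k _ => ?_
      rw [hadjblk, Matrix.mul_smul, Matrix.mul_smul, Matrix.mul_smul, ← Matrix.mul_assoc _ (kc α (p k)),
        ← Matrix.mul_assoc, hblk, Matrix.smul_mul, smul_smul, mul_comm]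
    obtain ⟨d, hd⟩ : ∃ d, d = (JB *ᵥ v) ⬝ᵥ v' := ⟨_, rfl⟩
    rw [← hd] at h2 hvv
    have hS0 : S ≠ 0 := fun e => by
      rw [e, zero_smul, smul_eq_zero] at h2
      simpa using congrFun₂ (h2.resolve_left hvv) i₀ i₀
    refine ⟨S / d, div_ne_zero hS0 hvv, ?_⟩
    have e2 : adj JA A * A = (S / d) • 1 := by
      have h3 : A' * adj JA A' = (d / S) • 1 := by
        rw [div_eq_inv_mul, mul_smul, h2, smul_smul, inv_mul_cancel₀ hS0, one_smul]
      have h4 : (A' * adj JA A') * (adj JA A * A) = 1 := by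
        rw [Matrix.mul_assoc, ← Matrix.mul_assoc (adj JA A'), ← H.adj_mul, hAA, H.adj_one, Matrix.one_mul, hA']
      rw [h3, Matrix.smul_mul, Matrix.one_mul] at h4
      rw [← h4, smul_smul, div_mul_div_cancel₀ hvv, div_self hS0, one_smul]
    calc A * adj JA A = A * (adj JA A * A) * A' := by
          rw [Matrix.mul_assoc, Matrix.mul_assoc, hAA, Matrix.mul_one]
      _ = (S / d) • 1 := by rw [e2, Matrix.mul_smul, Matrix.mul_one, Matrix.smul_mul, hAA]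
  have hμ' : adj JA A * A = μ • 1 := by
    calc adj JA A * A = A' * (A * adj JA A) * A := by rw [← Matrix.mul_assoc, hA', Matrix.one_mul]
      _ = μ • 1 := by rw [hμ, Matrix.mul_smul, Matrix.mul_one, Matrix.smul_mul, hA']
  set h : Matrix (α × β) (α × β) F := (A ⊗ₖ (1 : Matrix β β F)) * (g⁻¹).1 with hh
  have hkr : ∀ φ : β → F, (kr α φ : Matrix α (α × β) F) * h = A * kr α φ * (g⁻¹).1 := fun φ => by
    rw [hh, ← Matrix.mul_assoc, kr_mul_kron, Matrix.vecMul_one]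
  have hhw : h * kc α w = kc α w := by
    rw [hh, Matrix.mul_assoc, hginv, ← Matrix.mul_assoc, kron_mul_kc, Matrix.one_mulVec, Matrix.mul_assoc, hAA,
      Matrix.mul_one]
  have hhφ : kr α (JB *ᵥ w) * h = μ • kr α (JB *ᵥ w) := by
    rw [hkr, Matrix.mul_assoc, hφw, ← Matrix.mul_assoc, hμ, Matrix.smul_mul, Matrix.one_mul]
  have hAJ : Aᵀ * JA * A = μ • JA := by
    have e1 : JA * adj JA A = Aᵀ * JA := by
      rw [adj, ← Matrix.mul_assoc, ← Matrix.mul_assoc, Matrix.mul_nonsing_inv JA H.iA, Matrix.one_mul]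
    rw [← e1, Matrix.mul_assoc, hμ', Matrix.mul_smul, Matrix.mul_one]
  have hgram : hᵀ * (JA ⊗ₖ JB) * h = μ • (JA ⊗ₖ JB) := by
    have := H.le _ (M.inv_mem hg)
    calc hᵀ * (JA ⊗ₖ JB) * h
        = ((g⁻¹).1)ᵀ * ((A ⊗ₖ (1 : Matrix β β F))ᵀ * (JA ⊗ₖ JB) * (A ⊗ₖ (1 : Matrix β β F))) * (g⁻¹).1 := by
          rw [hh, Matrix.transpose_mul]; simp only [Matrix.mul_assoc]
      _ = μ • (JA ⊗ₖ JB) := by
          rw [← Matrix.kroneckerMap_transpose, ← Matrix.mul_kronecker_mul, ← Matrix.mul_kronecker_mul,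
            Matrix.transpose_one, Matrix.one_mul, Matrix.mul_one, hAJ, Matrix.smul_kronecker, Matrix.mul_smul,
            Matrix.smul_mul, this]
  -- the second factor
  set T0 : Matrix β β F := Matrix.of fun k l => h (i₀, k) (i₀, l) with hT0
  have hcon : ∀ φ y : β → F, (kr α φ * h * kc α y) i₀ i₀ = φ ⬝ᵥ (T0 *ᵥ y) := by
    intro φ y
    rw [Matrix.mul_assoc, kr_mul_apply]
    congr 1
    ext k
    simp [Matrix.mul_apply, Fintype.sum_prod_type, kc_apply, hT0, Matrix.mulVec, dotProduct, mul_ite]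
  have hT0w : T0 *ᵥ w = w := by
    ext k
    have := hcon (Pi.single k 1) w
    rw [Matrix.mul_assoc, hhw, kr_mul_kc, single_dotProduct, single_dotProduct, one_mul, one_mul,
      Matrix.smul_apply, Matrix.one_apply_eq, smul_eq_mul, mul_one] at this
    exact this.symm
  have hT0φ : ∀ y, (JB *ᵥ w) ⬝ᵥ (T0 *ᵥ y) = μ * ((JB *ᵥ w) ⬝ᵥ y) := fun y => by
    rw [← hcon, hhφ, Matrix.smul_mul, kr_mul_kc]
    simp
  obtain ⟨a, ha⟩ : ∃ a, a = (JB *ᵥ (T0 *ᵥ z)) ⬝ᵥ (T0 *ᵥ z) := ⟨_, rfl⟩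
  have ha' : a = ε * a := by rw [ha]; exact H.swapB _ _
  obtain ⟨κ, hκ⟩ : ∃ κ, κ = -a * (2 * μ)⁻¹ := ⟨_, rfl⟩
  obtain ⟨η, hη⟩ : ∃ η : β → F, η = ε • (JB *ᵥ z - μ⁻¹ • ((JB *ᵥ (T0 *ᵥ z)) ᵥ* T0) - κ • (JB *ᵥ w)) := ⟨_, rfl⟩
  have hηy : ∀ y, η ⬝ᵥ y = ε *
      ((JB *ᵥ z) ⬝ᵥ y - μ⁻¹ * ((JB *ᵥ (T0 *ᵥ z)) ⬝ᵥ (T0 *ᵥ y)) - κ * ((JB *ᵥ w) ⬝ᵥ y)) := fun y => by
    rw [hη, smul_dotProduct, sub_dotProduct, sub_dotProduct, smul_dotProduct, smul_dotProduct,
      ← Matrix.dotProduct_mulVec]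
    rfl
  have hdw : (JB *ᵥ (T0 *ᵥ z)) ⬝ᵥ w = ε * μ := by rw [H.swapB, hT0φ, wz, mul_one]
  have hηw : η ⬝ᵥ w = 0 := by
    rw [hηy, hT0w, hdw, zw, hw]
    field_simp
    ring
  have hhalf : μ⁻¹ * a = -(2 * κ) := by
    have h2 := H.two
    rw [hκ]
    field_simp
  have hηz : η ⬝ᵥ z = κ := by
    rw [hηy, zz, wz, ← ha]
    have e : κ = ε * κ := by rw [hκ]; linear_combination -(2 * μ)⁻¹ * ha'
    linear_combination -ε * hhalf - e
  set T : Matrix β β F := T0 + Matrix.vecMulVec w η with hT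
  have hTy : ∀ y, T *ᵥ y = T0 *ᵥ y + (η ⬝ᵥ y) • w := fun y => by
    rw [hT, Matrix.add_mulVec, Matrix.vecMulVec_mulVec, op_smul_eq_smul]
  have hTw : T *ᵥ w = w := by rw [hTy, hT0w, hηw, zero_smul, add_zero]
  -- on the orthogonal of `w` the element is a product up to the radical
  have hperp : ∀ y, (JB *ᵥ w) ⬝ᵥ y = 0 → ∃ E : Matrix α α F, h * kc α y = kc α (T *ᵥ y) + kc α w * E := by
    intro y hy
    refine ⟨kr α θ * (h * kc α y - kc α (T *ᵥ y)), ?_⟩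
    rw [← H.split_kc hθ (X := h * kc α y - kc α (T *ᵥ y)) (fun a ha => ?_), add_sub_cancel]
    obtain ⟨s, hs⟩ := hσ a y ha hy
    have e1 : kr α (JB *ᵥ a) * h * kc α y = s • 1 := by
      rw [hkr, ← hs, blk]
      simp only [Matrix.mul_assoc]
    have e2 := hcon (JB *ᵥ a) y
    rw [e1, Matrix.smul_apply, Matrix.one_apply_eq, smul_eq_mul, mul_one] at e2
    rw [Matrix.mul_sub, ← Matrix.mul_assoc, e1, kr_mul_kc, hTy, dotProduct_add, dotProduct_smul, ← e2,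
      H.orth_comm ha, smul_zero, add_zero, sub_self]
  have hform : ∀ a b, (JB *ᵥ w) ⬝ᵥ a = 0 → (JB *ᵥ w) ⬝ᵥ b = 0 →
      (JB *ᵥ (T *ᵥ a)) ⬝ᵥ (T *ᵥ b) = μ * ((JB *ᵥ a) ⬝ᵥ b) := by
    intro a b ha hb
    obtain ⟨Ea, hEa⟩ := hperp a ha
    obtain ⟨Eb, hEb⟩ := hperp b hb
    have key : (h * kc α a)ᵀ * (JA ⊗ₖ JB) * (h * kc α b) = μ • ((kc α a)ᵀ * (JA ⊗ₖ JB) * kc α b) := by
      calc (h * kc α a)ᵀ * (JA ⊗ₖ JB) * (h * kc α b) = (kc α a)ᵀ * (hᵀ * (JA ⊗ₖ JB) * h) * kc α b := by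
            rw [Matrix.transpose_mul]; simp only [Matrix.mul_assoc]
        _ = _ := by rw [hgram, Matrix.mul_smul, Matrix.smul_mul]
    have f1 : (JB *ᵥ w) ⬝ᵥ (T *ᵥ b) = 0 := by
      rw [hTy, dotProduct_add, hT0φ, hb, dotProduct_smul, hw]; simp
    have f2 : (JB *ᵥ (T *ᵥ a)) ⬝ᵥ w = 0 := by
      rw [H.swapB, hTy, dotProduct_add, hT0φ, ha, dotProduct_smul, hw]; simp
    rw [hEa, hEb, Matrix.transpose_add, Matrix.transpose_mul] at key
    simp only [Matrix.mul_add, Matrix.add_mul, H.kc_transpose_mul, Matrix.mul_assoc, kr_mul_kc, kr_kc_mul, f1,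
      f2, hw, zero_smul, Matrix.mul_zero, add_zero, Matrix.mul_smul, Matrix.mul_one, Matrix.smul_mul, smul_smul,
      smul_zero] at key
    have hJA0 : JA ≠ 0 := fun e => H.dA (by rw [e, Matrix.det_zero])
    have := smul_left_injective F hJA0 key
    refine mul_left_cancel₀ H.eps_ne ?_
    linear_combination this
  have hsim : ∀ a b, (JB *ᵥ (T *ᵥ a)) ⬝ᵥ (T *ᵥ b) = μ * ((JB *ᵥ a) ⬝ᵥ b) := by
    have hzy : ∀ y, (JB *ᵥ (T *ᵥ z)) ⬝ᵥ (T *ᵥ y) = μ * ((JB *ᵥ z) ⬝ᵥ y) := fun y => by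
      rw [hTy z, hTy y, hηz]
      simp only [Matrix.mulVec_add, Matrix.mulVec_smul, add_dotProduct, smul_dotProduct, dotProduct_add,
        dotProduct_smul, hdw, hT0φ, hw, smul_eq_mul, mul_zero, add_zero]
      have e := hηy y
      have e1 : μ * μ⁻¹ = 1 := mul_inv_cancel₀ hμ0
      linear_combination (ε * μ) * e +
        μ * ((JB *ᵥ z) ⬝ᵥ y - μ⁻¹ * ((JB *ᵥ (T0 *ᵥ z)) ⬝ᵥ (T0 *ᵥ y)) - κ * ((JB *ᵥ w) ⬝ᵥ y)) * H.sq -
        ((JB *ᵥ (T0 *ᵥ z)) ⬝ᵥ (T0 *ᵥ y)) * e1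
    intro a b
    obtain ⟨p, hp⟩ : ∃ p, p = (JB *ᵥ w) ⬝ᵥ a := ⟨_, rfl⟩
    obtain ⟨q, hq⟩ : ∃ q, q = (JB *ᵥ w) ⬝ᵥ b := ⟨_, rfl⟩
    have ha : (JB *ᵥ w) ⬝ᵥ (a - p • z) = 0 := by
      rw [dotProduct_sub, dotProduct_smul, wz, smul_eq_mul, mul_one, hp, sub_self]
    have hb : (JB *ᵥ w) ⬝ᵥ (b - q • z) = 0 := by
      rw [dotProduct_sub, dotProduct_smul, wz, smul_eq_mul, mul_one, hq, sub_self]
    have e0 := hform _ _ ha hb
    have e1 := hzy b
    have e2 := hzy a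
    rw [H.swapB (T *ᵥ z), H.swapB z a] at e2
    have e3 := hzy z
    rw [zz, mul_zero] at e3
    simp only [Matrix.mulVec_sub, Matrix.mulVec_smul, sub_dotProduct, dotProduct_sub, smul_dotProduct,
      dotProduct_smul, smul_eq_mul, zz, e3] at e0
    linear_combination e0 + p * e1 + (ε * q) * e2 -
      q * ((JB *ᵥ (T *ᵥ a)) ⬝ᵥ (T *ᵥ z) - μ * ((JB *ᵥ a) ⬝ᵥ z)) * H.sq
  have hTT : Tᵀ * JB * T = μ • JB := by
    refine CfsgLib.Classical.TensorSymp.matrix_ext_dot fun x y => ?_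
    have := hsim x y
    rw [← Matrix.mulVec_mulVec, ← Matrix.mulVec_mulVec, Matrix.dotProduct_mulVec x Tᵀ, Matrix.vecMul_transpose,
      Matrix.smul_mulVec, dotProduct_smul, smul_eq_mul]
    rw [H.swapB, H.swapB x y] at this
    rw [dotProduct_comm (T *ᵥ x), dotProduct_comm x]
    refine mul_left_cancel₀ H.eps_ne ?_
    linear_combination this
  have hTdet : T.det ≠ 0 := fun e => by
    have := congrArg Matrix.det hTT
    rw [Matrix.det_mul, e, mul_zero, Matrix.det_smul] at this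
    exact (mul_ne_zero (pow_ne_zero _ hμ0) H.dB) this.symm
  set T' := T⁻¹ with hT'
  have hT'T : T' * T = 1 := Matrix.nonsing_inv_mul T (Ne.isUnit hTdet)
  have hT'w : T' *ᵥ w = w := by
    conv_lhs => rw [← hTw]
    rw [Matrix.mulVec_mulVec, hT'T, Matrix.one_mulVec]
  have hrh : (A ⊗ₖ T') * (g⁻¹).1 = ((1 : Matrix α α F) ⊗ₖ T') * h := by
    rw [hh, ← Matrix.mul_assoc, ← Matrix.mul_kronecker_mul, Matrix.one_mul, Matrix.mul_one]
  have hATg : (A ⊗ₖ T')ᵀ * (JA ⊗ₖ JB) * (A ⊗ₖ T') = JA ⊗ₖ JB := by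
    have e : T'ᵀ * Tᵀ = 1 := by
      rw [← Matrix.transpose_mul, Matrix.mul_nonsing_inv T (Ne.isUnit hTdet), Matrix.transpose_one]
    have : T'ᵀ * JB * T' = μ⁻¹ • JB := by
      have e' : JB = μ⁻¹ • (Tᵀ * JB * T) := by rw [hTT, smul_smul, inv_mul_cancel₀ hμ0, one_smul]
      conv_lhs => rw [e']
      rw [Matrix.mul_smul, Matrix.smul_mul, ← Matrix.mul_assoc, ← Matrix.mul_assoc, e, Matrix.one_mul,
        Matrix.mul_assoc, Matrix.mul_nonsing_inv T (Ne.isUnit hTdet), Matrix.mul_one]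
    rw [← Matrix.kroneckerMap_transpose, ← Matrix.mul_kronecker_mul, ← Matrix.mul_kronecker_mul, hAJ, this,
      Matrix.smul_kronecker, Matrix.kronecker_smul, smul_smul, mul_inv_cancel₀ hμ0, one_smul]
  obtain ⟨n, hnM, hnval⟩ := H.inM_kron' hATg
  obtain ⟨R, hRdef⟩ : ∃ R, R = n * g⁻¹ := ⟨_, rfl⟩
  have hRM : R ∈ M := hRdef ▸ M.mul_mem hnM (M.inv_mem hg)
  have hRval : R.1 = ((1 : Matrix α α F) ⊗ₖ T') * h := by rw [hRdef, Units.val_mul, hnval, hrh]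
  have hRw : R.1 * kc α w = kc α w := by
    rw [hRval, Matrix.mul_assoc, hhw, kron_mul_kc, hT'w, Matrix.mul_one]
  have hRperp : ∀ y, (JB *ᵥ w) ⬝ᵥ y = 0 → ∃ E : Matrix α α F, R.1 * kc α y = kc α y + kc α w * E := by
    intro y hy
    obtain ⟨E, hE⟩ := hperp y hy
    refine ⟨E, ?_⟩
    rw [hRval, Matrix.mul_assoc, hE, Matrix.mul_add, ← Matrix.mul_assoc, kron_mul_kc, kron_mul_kc, hT'w,
      Matrix.mulVec_mulVec, hT'T, Matrix.one_mulVec, Matrix.mul_one, Matrix.mul_one]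
  -- the radical part
  have hRrad : Rad JB M w R := H.rad_mk wz hRM hRw hRperp
  set L : β → F := fun l => (kr α θ * (R.1 - 1) : Matrix α (α × β) F) i₀ (i₀, l) with hLdef
  have hLev : ∀ a, (JB *ᵥ w) ⬝ᵥ a = 0 → R.1 * kc α a = kc α a + (L ⬝ᵥ a) • kc α w := by
    intro a ha
    obtain ⟨E, hE⟩ := hRperp a ha
    obtain ⟨s, hs⟩ := hL w hw hw0 R hRrad a ha E hE
    have e : L ⬝ᵥ a = s := by
      have e1 : (kr α θ * (R.1 - 1)) * kc α a = s • 1 := by
        rw [Matrix.mul_assoc, Matrix.sub_mul, Matrix.one_mul, hE, add_sub_cancel_left, ← Matrix.mul_assoc, kr_mul_kc,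
          hθ, one_smul, Matrix.one_mul, hs]
      have e2 := congrFun₂ e1 i₀ i₀
      rw [Matrix.smul_apply, Matrix.one_apply_eq, smul_eq_mul, mul_one] at e2
      rw [← e2, Matrix.mul_apply, Fintype.sum_prod_type, Fintype.sum_eq_single i₀]
      · simp [kc_apply, dotProduct, hLdef]
      · intro b hb; simp [kc_apply, hb]
    rw [hE, hs, e, Matrix.mul_smul, Matrix.mul_one]
  have hLw : L ⬝ᵥ w = 0 := by
    have h0 := hLev w hw
    rw [hRw, left_eq_add] at h0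
    by_contra hne
    have h2 := congrArg ((kr α θ) * ·) h0
    simp only [Matrix.mul_smul, kr_mul_kc, hθ, one_smul, Matrix.mul_zero] at h2
    have h1 := congrFun₂ h2 i₀ i₀
    rw [Matrix.smul_apply, Matrix.one_apply_eq, smul_eq_mul, mul_one] at h1
    exact hne h1
  obtain ⟨ψ, hψL⟩ := H.surjB (ε • L)
  have hψw : (JB *ᵥ w) ⬝ᵥ ψ = 0 := by rw [H.swapB, hψL, smul_dotProduct, hLw, smul_zero, mul_zero]
  obtain ⟨t, htM, ⟨T₁, hT₁⟩, ht⟩ := H.inM_tp hw hψw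
  obtain ⟨r2, hr2⟩ : ∃ r2, r2 = R * t := ⟨_, rfl⟩
  have hfix : ∀ a, (JB *ᵥ w) ⬝ᵥ a = 0 → r2.1 * kc α a = kc α a := by
    intro a ha
    rw [hr2, Units.val_mul, Matrix.mul_assoc, ht a, ha, hψL, smul_dotProduct, smul_eq_mul, mul_zero, add_zero,
      zero_smul, add_zero, ← mul_assoc, neg_mul, H.sq, neg_mul, one_mul, Matrix.mul_add, hLev a ha, Matrix.mul_smul,
      hRw, neg_smul, add_neg_cancel_right]
  have hr2M : r2 ∈ M := hr2 ▸ M.mul_mem hRM htM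
  have hr2rad : Rad JB M w r2 :=
    H.rad_mk wz hr2M (hfix w hw) fun y hy => ⟨0, by rw [hfix y hy, Matrix.mul_zero, add_zero]⟩
  obtain ⟨C, hC⟩ := H.rad_zero hw hw0 hr2rad hfix
  obtain ⟨c, hc⟩ := hS w hw hw0 C ⟨r2, hr2M, hC⟩
  have hr2T : Tens r2.1 := ⟨1, 1 + c • Matrix.vecMulVec w (JB *ᵥ w), by
    rw [hC, hc, H.zm_smul, H.zm_one, Matrix.kronecker_add, Matrix.one_kronecker_one, Matrix.kronecker_smul]⟩
  have hRT : Tens R.1 := by
    have h1 : Tens (r2 * t⁻¹).1 := by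
      rw [Units.val_mul]
      exact tens_mul hr2T (tens_inv ⟨1, T₁, hT₁⟩ t.mul_inv H.nonempty_left H.nonempty_right)
    rwa [hr2, mul_inv_cancel_right] at h1
  have : Tens (R⁻¹ * n).1 := by
    rw [Units.val_mul]
    exact tens_mul (tens_inv hRT R.mul_inv H.nonempty_left H.nonempty_right) ⟨A, T', hnval⟩
  rwa [hRdef, _root_.mul_inv_rev, inv_inv, mul_assoc, inv_mul_cancel, mul_one] at this

/-- An element carrying `F^α ⊗ w` to `F^α ⊗ w'` when an isometry carries `w'` back to `w`. -/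
theorem tens_of_move (hS : Small JB M) (hL : ScalarLevels JB M) {g : GL (α × β) F} (hg : g ∈ M) {w w' : β → F}
    (hw : (JB *ᵥ w) ⬝ᵥ w = 0) (hw0 : w ≠ 0) {A : Matrix α α F} (hA : g.1 * kc α w = kc α w' * A)
    {T : Matrix β β F} (hT : Sp JB T) (hTw : T *ᵥ w' = w) : Tens g.1 := by
  obtain ⟨n, hn, hn'⟩ := H.inM_right hT
  have hs := H.tens_of_stab hS hL (M.mul_mem hn hg) hw hw0 (A := A) (by
    rw [Units.val_mul, Matrix.mul_assoc, hA, ← Matrix.mul_assoc, hn', kron_mul_kc, Matrix.mul_one, hTw])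
  have := tens_mul (tens_inv ⟨1, T, hn'⟩ n.mul_inv H.nonempty_left H.nonempty_right) hs
  rwa [← Units.val_mul, inv_mul_cancel_left] at this

/-- An element commuting a rank one factor into the second factor carries a subspace `F^α ⊗ w` to one. -/
theorem image_of_rank_one {g : GL (α × β) F} {w φ : β → F} (hw : w ≠ 0) (hφ : φ ≠ 0) {N : Matrix β β F}
    (h : g.1 * (kc α w * kr α φ) * (g⁻¹).1 = (1 : Matrix α α F) ⊗ₖ N) :
    ∃ (w' : β → F) (A A' : Matrix α α F), A' * A = 1 ∧ g.1 * kc α w = kc α w' * A := by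
  haveI := H.nonempty_left
  obtain ⟨K, hK⟩ : ∃ K, K = g.1 * (kc α w * kr α φ) * (g⁻¹).1 := ⟨_, rfl⟩
  have hrk : Module.finrank F (LinearMap.range K.mulVecLin) ≤ Fintype.card α := by
    rw [hK, ← Matrix.mul_assoc g.1, Matrix.mul_assoc (g.1 * kc α w), Matrix.mulVecLin_mul]
    refine (Submodule.finrank_mono (LinearMap.range_comp_le_range _ _)).trans ?_
    exact (LinearMap.finrank_range_le _).trans (le_of_eq (Module.finrank_pi F))
  obtain ⟨z, hz⟩ := exists_dual_one hφ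
  rw [dotProduct_comm] at hz
  obtain ⟨s, hs⟩ : ∃ s, N *ᵥ s ≠ 0 := by
    by_contra hall
    push Not at hall
    have hN0 : N = 0 := Matrix.ext_of_mulVec_single fun j => by rw [hall, Matrix.zero_mulVec]
    have h0 := congrArg (fun X => (g⁻¹).1 * X * g.1 * kc α z) h
    simp only [hN0, Matrix.kronecker_zero, Matrix.mul_zero, Matrix.zero_mul] at h0
    simp only [Matrix.mul_assoc, ← Matrix.mul_assoc (g⁻¹).1 g.1, g.inv_mul, Matrix.one_mul] at h0
    rw [kr_mul_kc, hz, one_smul, Matrix.mul_one] at h0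
    obtain ⟨i⟩ := H.nonempty_left
    obtain ⟨k, hk⟩ := Function.ne_iff.1 hw
    exact hk (by simpa [kc_apply] using congrFun₂ h0 (i, k) i)
  have hspan : ∀ y, ∃ c : F, N *ᵥ y = c • (N *ᵥ s) := by
    intro y
    by_contra hc
    push Not at hc
    have hli : LinearIndependent F ![N *ᵥ s, N *ᵥ y] :=
      (LinearIndependent.pair_iff' hs).2 fun a e => hc a e.symm
    have hall := TensorOrth.li_ten_left (α := α) hli
    have hle : Submodule.span F (Set.range fun q : α × Fin 2 =>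
        TensorSymp.ten (Pi.single q.1 (1 : F) : α → F) (![N *ᵥ s, N *ᵥ y] q.2))
        ≤ LinearMap.range K.mulVecLin := by
      rw [Submodule.span_le]
      rintro _ ⟨⟨i, j⟩, rfl⟩
      refine ⟨TensorSymp.ten (Pi.single i 1) (![s, y] j), ?_⟩
      rw [Matrix.mulVecLin_apply, hK, h, TensorSymp.kron_mulVec_ten, Matrix.one_mulVec]
      fin_cases j <;> simp
    have h3 := Submodule.finrank_mono hle
    rw [finrank_span_eq_card hall, Fintype.card_prod, Fintype.card_fin] at h3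
    have := Fintype.card_pos (α := α)
    omega
  choose ψ₀ hψ₀ using hspan
  obtain ⟨ψ, hψ⟩ : ∃ ψ : β → F, ψ = fun l => ψ₀ (Pi.single l 1) := ⟨_, rfl⟩
  have hN : N = Matrix.vecMulVec (N *ᵥ s) ψ := by
    ext k l
    have := congrFun (hψ₀ (Pi.single l 1)) k
    rw [Matrix.mulVec_single_one] at this
    simp only [Matrix.col_apply, Pi.smul_apply, smul_eq_mul] at this
    rw [Matrix.vecMulVec_apply, hψ, this, mul_comm]
  obtain ⟨θ, hθ⟩ := exists_dual_one hw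
  have e : g.1 * kc α w = kc α (N *ᵥ s) * (kr α ψ * (g.1 * kc α z)) := by
    have := congrArg (· * (g.1 * kc α z)) h
    simp only [Matrix.mul_assoc, ← Matrix.mul_assoc (g⁻¹).1 g.1, g.inv_mul, Matrix.one_mul, kr_mul_kc, hz,
      one_smul, Matrix.mul_one] at this
    rw [this]
    conv_lhs => rw [hN, ← kc_mul_kr]
    rw [Matrix.mul_assoc]
  refine ⟨N *ᵥ s, kr α ψ * (g.1 * kc α z), kr α θ * (g⁻¹).1 * kc α (N *ᵥ s), ?_, e⟩
  rw [Matrix.mul_assoc, ← e, Matrix.mul_assoc, ← Matrix.mul_assoc (g⁻¹).1, g.inv_mul, Matrix.one_mul, kr_mul_kc, hθ,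
    one_smul]

/-- The image of an isotropic vector is isotropic. -/
theorem image_isotropic {g : GL (α × β) F} (hg : g ∈ M) {w w' : β → F} (hw : (JB *ᵥ w) ⬝ᵥ w = 0)
    {A A' : Matrix α α F} (hAA : A' * A = 1) (hA : g.1 * kc α w = kc α w' * A) :
    (JB *ᵥ w') ⬝ᵥ w' = 0 := by
  have key : (g.1 * kc α w)ᵀ * (JA ⊗ₖ JB) * (g.1 * kc α w) = (kc α w)ᵀ * (JA ⊗ₖ JB) * kc α w := by
    calc (g.1 * kc α w)ᵀ * (JA ⊗ₖ JB) * (g.1 * kc α w) = (kc α w)ᵀ * (g.1ᵀ * (JA ⊗ₖ JB) * g.1) * kc α w := by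
          rw [Matrix.transpose_mul]; simp only [Matrix.mul_assoc]
      _ = _ := by rw [H.le g hg]
  rw [hA, Matrix.transpose_mul] at key
  simp only [Matrix.mul_assoc _ (kc α _)ᵀ, H.kc_transpose_mul, Matrix.smul_mul, Matrix.mul_smul, Matrix.mul_assoc,
    kr_mul_kc, kr_kc_mul, hw, zero_smul, smul_zero, Matrix.mul_zero, Matrix.mul_one, smul_smul] at key
  refine ((mul_eq_zero.1 ((smul_eq_zero.1 key).resolve_right fun e => ?_)).resolve_left H.eps_ne)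
  have h1 := congrArg (fun X => A'ᵀ * X * A') e
  simp only [Matrix.mul_assoc, mul_eq_one_comm.1 hAA, Matrix.mul_one, Matrix.mul_zero, Matrix.zero_mul] at h1
  rw [← Matrix.mul_assoc, ← Matrix.transpose_mul, mul_eq_one_comm.1 hAA, Matrix.transpose_one, Matrix.one_mul] at h1
  haveI := H.nonempty_left
  exact H.dA (by rw [h1, Matrix.det_zero])

end Hyp

end CfsgLib.Classical.TensorMixed
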