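import Cfsg.Agent.Lib.Classical.TensorMixed.Gen
import Cfsg.Agent.Lib.Classical.TensorOrth.Factor

set_option autoImplicit false
set_option linter.unusedSectionVars false

/-!
The case of an orthogonal first and a symplectic second factor: either the central elements and all the levels
are scalars, or every transvection occurs.
-/

namespace CfsgLib.Classical.TensorMixed

open Matrix CfsgLib.Classical.TensorMax CfsgLib.Orth
open CfsgLib.Classical.TensorOrth (Gram rk Lin)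
open CfsgLib.Classical.TensorSymp (adj Sp AForm tv ten kr_mul_apply kc_mul_apply eq_of_mul_kc_all kron_mulVec_ten)
open scoped MatrixGroups Kronecker

variable {F : Type*} [Field F] [Finite F] {α β : Type} [Fintype α] [DecidableEq α] [Fintype β] [DecidableEq β]

theorem zm_rk (JA : Matrix α α F) (JB : Matrix β β F) (u : α → F) (w : β → F) :
    (Zm JB w (Matrix.vecMulVec u (JA *ᵥ u)) : Matrix (α × β) (α × β) F) =
      Matrix.vecMulVec (ten u w) ((JA ⊗ₖ JB) *ᵥ ten u w) := by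
  rw [Zm, kc_mul_mul_kr, kron_mulVec_ten]
  ext ⟨i, k⟩ ⟨j, l⟩
  simp [ten, Matrix.vecMulVec_apply, Matrix.kronecker_apply]
  ring

theorem span_ne_zero {γ : Type} [Fintype γ] [DecidableEq γ] :
    Submodule.span F {x : γ → F | x ≠ 0} = ⊤ := by
  refine top_unique fun v _ => ?_
  by_cases hv : v = 0
  · rw [hv]; exact Submodule.zero_mem _
  · exact Submodule.subset_span hv

/-- The hypotheses of the case. -/
structure SympHyp (QA : QuadraticForm F (α → F)) (JA : Matrix α α F) (JB : Matrix β β F)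
    (M : Subgroup (GL (α × β) F)) : Prop extends Hyp (-1 : F) JA JB M where
  gA : Gram QA JA
  threeA : 3 ≤ Fintype.card α
  four : 4 ≤ Fintype.card β
  excl3 : 4 ≤ Fintype.card α ∨ ∃ t : F, t ≠ 0 ∧ t * t ≠ 1

/-- The central levels which occur. -/
def Zs (JB : Matrix β β F) (M : Subgroup (GL (α × β) F)) (C : Matrix α α F) : Prop :=
  ∀ w : β → F, w ≠ 0 → InM M (1 + Zm JB w C)

variable {QA : QuadraticForm F (α → F)} {JA : Matrix α α F} {JB : Matrix β β F} {M : Subgroup (GL (α × β) F)}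

namespace SympHyp

variable (H : SympHyp QA JA JB M)
include H

theorem selfB (x : β → F) : (JB *ᵥ x) ⬝ᵥ x = 0 := by
  have e := H.swapB x x
  have : (2 : F) * ((JB *ᵥ x) ⬝ᵥ x) = 0 := by linear_combination e
  exact (mul_eq_zero.1 this).resolve_left H.two

theorem aB : AForm JB where
  skew := by rw [H.tB, neg_one_smul]
  alt x := by rw [dotProduct_comm]; exact H.selfB x
  det_ne := H.dB

theorem adj_sp {S : Matrix α α F} (hS : Sp JA S) : adj JA S = S⁻¹ := by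
  refine (Matrix.inv_eq_left_inv ?_).symm
  rw [adj, Matrix.mul_assoc _ JA, Matrix.mul_assoc, ← Matrix.mul_assoc Sᵀ, hS, Matrix.nonsing_inv_mul JA H.iA]

theorem moveB {w w' : β → F} (hw : w ≠ 0) (hw' : w' ≠ 0) : ∃ T, Sp JB T ∧ T *ᵥ w = w' := by
  have hB := H.aB
  by_cases hne : (JB *ᵥ w') ⬝ᵥ w = 0
  · obtain ⟨y, -, hy1, hy2⟩ := hB.exists_both (fun i : Fin 0 => i.elim0)
      (by obtain ⟨y, hy⟩ := hB.exists_form_ne hw; exact ⟨y, fun i => i.elim0, by rw [hy]; exact one_ne_zero⟩)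
      (by obtain ⟨y, hy⟩ := hB.exists_form_ne hw'; exact ⟨y, fun i => i.elim0, by rw [hy]; exact one_ne_zero⟩)
    rw [hB.swap] at hy1
    refine ⟨_, hB.sp_mul (hB.sp_tv (w' - y) ((JB *ᵥ w') ⬝ᵥ y)⁻¹) (hB.sp_tv (y - w) ((JB *ᵥ y) ⬝ᵥ w)⁻¹), ?_⟩
    rw [← Matrix.mulVec_mulVec, hB.tv_move (neg_ne_zero.1 hy1), hB.tv_move hy2]
  · exact ⟨_, hB.sp_tv _ _, hB.tv_move hne⟩

theorem zs_of {w : β → F} (hw : w ≠ 0) {C : Matrix α α F} (h : InM M (1 + Zm JB w C)) : Zs JB M C := by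
  intro w' hw'
  obtain ⟨T, hT, e⟩ := H.moveB hw hw'
  have := H.inM_zm_conj (H.sp_one JA) hT h
  rwa [e, inv_one, Matrix.one_mul, Matrix.mul_one] at this

theorem zs_zero : Zs JB M (0 : Matrix α α F) := fun w _ => by
  simpa [Zm] using (InM.one : InM M 1)

theorem zs_add {C C' : Matrix α α F} (h : Zs JB M C) (h' : Zs JB M C') : Zs JB M (C + C') := fun w hw => by
  rw [H.zm_add]
  exact (h w hw).add (h' w hw) (H.zm_mul (H.selfB w) _ _)

theorem zs_smul {C : Matrix α α F} (h : Zs JB M C) (c : F) : Zs JB M (c • C) := by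
  have hsq : ∀ d : F, Zs JB M ((d * d) • C) := fun d => by
    by_cases hd : d = 0
    · rw [hd, mul_zero, zero_smul]; exact H.zs_zero
    intro w hw
    rw [← H.zm_smul_vec]
    exact h _ (smul_ne_zero hd hw)
  have hneg : ∀ {D : Matrix α α F}, Zs JB M D → Zs JB M (-D) := fun {D} hD w hw => by
    have := (hD w hw).neg (H.zm_mul (H.selfB w) _ _)
    rwa [← neg_one_smul F (Zm JB w D), ← H.zm_smul, neg_one_smul] at this
  have e : c = (c + 1) * (2 : F)⁻¹ * ((c + 1) * (2 : F)⁻¹) - (c - 1) * (2 : F)⁻¹ * ((c - 1) * (2 : F)⁻¹) := by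
    have h2 := H.two
    field_simp
    ring
  rw [e, sub_smul, sub_eq_add_neg]
  exact H.zs_add (hsq _) (hneg (hsq _))

theorem grp_inv (S : Grp QA) : ((S⁻¹ : Grp QA) : GL α F).1 = ((S : GL α F).1)⁻¹ :=
  (Matrix.inv_eq_right_inv (S : GL α F).mul_inv).symm

theorem lin : Lin QA JA (Zs JB M) where
  g := H.gA
  three := H.threeA
  excl3 := H.excl3
  add := H.zs_add
  smul := H.zs_smul
  conj := fun {E} h S _ w hw => by
    have := H.inM_zm_conj (H.gA.sp_grp S) (H.sp_one JB) (h w hw)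
    rwa [Matrix.one_mulVec, ← H.grp_inv] at this

/-- A non-scalar central element gives a pure transvection. -/
theorem exists_root (hns : ¬ Small JB M) : ∃ u : α → F, QA u = 0 ∧ u ≠ 0 ∧ Zs JB M (rk JA u u) := by
  unfold Small at hns
  push Not at hns
  obtain ⟨w, hw, hw0, C, hC, hns⟩ := hns
  have hadj : adj JA C = C := by
    rw [H.zm_adj hw hw0 hC, neg_one_smul, neg_neg]
  by_contra hc
  push Not at hc
  obtain ⟨c, hc'⟩ := H.lin.scalar_of_sing hadj fun u hu => by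
    by_contra hk
    exact hc u hu (fun e => hk (by rw [e, b_zero_left])) (H.lin.root (H.zs_of hw0 hC) hu hk)
  exact hns c hc'

theorem root_move {u u' : α → F} (hu : QA u = 0) (hN : Zs JB M (rk JA u u)) (hu' : QA u' = 0)
    (huu : QuadraticMap.polar ⇑QA u u' ≠ 0) : Zs JB M (rk JA u' u') := by
  obtain ⟨f, hf, fu, fu'⟩ := H.gA.exists_third H.threeA hu hu' huu
  obtain ⟨T, hT, hT'⟩ := exists_move_partner H.gA.nd hf
    (f := (QuadraticMap.polar ⇑QA f u)⁻¹ • u) (f' := (QuadraticMap.polar ⇑QA f u')⁻¹ • u')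
    (by rw [q_smul, hu, mul_zero]) (by rw [q_smul, hu', mul_zero])
    (by rw [b_smul_right, b_smul_right, inv_mul_cancel₀ fu, inv_mul_cancel₀ fu'])
    (by rw [b_smul_right, inv_mul_cancel₀ fu])
  have h1 := H.lin.conj hN T (siegel_mem_El hT)
  have hTu : ap T u = (QuadraticMap.polar ⇑QA f u * (QuadraticMap.polar ⇑QA f u')⁻¹) • u' := by
    rw [mul_smul, ← hT', ← ap_smul, smul_smul, mul_inv_cancel₀ fu, one_smul]
  rw [H.gA.rk_conj, hTu, H.gA.rk_smul_left, H.gA.rk_smul_right, smul_smul] at h1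
  obtain ⟨k, hk⟩ : ∃ k, k = QuadraticMap.polar ⇑QA f u * (QuadraticMap.polar ⇑QA f u')⁻¹ := ⟨_, rfl⟩
  have hk0 : k ≠ 0 := hk ▸ mul_ne_zero fu (inv_ne_zero fu')
  rw [← hk] at h1
  have := H.zs_smul h1 (k * k)⁻¹
  rwa [smul_smul, inv_mul_cancel₀ (mul_ne_zero hk0 hk0), one_smul] at this

/-- A non-scalar central element gives all transvections. -/
theorem centre_everywhere (hns : ¬ Small JB M) : ∀ x, Centre JA JB M x := by
  obtain ⟨u, hu, hu0, hN⟩ := H.exists_root hns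
  obtain ⟨u₁, hu₁, huu⟩ := exists_partner H.gA.nd hu hu0
  refine H.centre_all (U := {x : α → F | x = u ∨ QA x = 0 ∧ QuadraticMap.polar ⇑QA u x ≠ 0})
    (W := {x : β → F | x ≠ 0}) ?_ span_ne_zero ?_ ?_ ?_
  · refine top_unique fun x _ => ?_
    obtain ⟨a, b, z, z1, z2, rfl⟩ := H.gA.partner_decomp hu hu0 hu₁ huu x
    have m0 : ∀ y, y = u ∨ QA y = 0 ∧ QuadraticMap.polar ⇑QA u y ≠ 0 →
        y ∈ Submodule.span F {x : α → F | x = u ∨ QA x = 0 ∧ QuadraticMap.polar ⇑QA u x ≠ 0} :=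
      fun y hy => Submodule.subset_span hy
    have e : z = (u₁ + z + (-QA z) • u) + (-1 : F) • u₁ + QA z • u := by module
    have mu := m0 u (Or.inl rfl)
    have mu₁ := m0 u₁ (Or.inr ⟨hu₁, by rw [huu]; exact one_ne_zero⟩)
    refine Submodule.add_mem _ (Submodule.add_mem _ (Submodule.smul_mem _ _ mu) (Submodule.smul_mem _ _ mu₁)) ?_
    rw [e]
    refine Submodule.add_mem _ (Submodule.add_mem _ (m0 _ (Or.inr ⟨?_, ?_⟩)) (Submodule.smul_mem _ _ mu₁))
      (Submodule.smul_mem _ _ mu)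
    · rw [q_add, q_add, q_smul, hu₁, hu, z2, b_add_left, b_smul_right, b_smul_right, b_comm u₁ u, huu, b_comm z u, z1]
      ring
    · rw [b_add_right, b_add_right, b_smul_right, huu, z1, b_self_zero hu]
      simp
  · have hd : ∀ x y, (JA *ᵥ x) ⬝ᵥ y = QuadraticMap.polar ⇑QA x y := H.gA.dot_polar
    simp only [hd]
    rintro a (rfl | ⟨ha, ha'⟩) b (rfl | ⟨hb, hb'⟩)
    · exact ⟨u₁, Or.inr ⟨hu₁, by rw [huu]; exact one_ne_zero⟩, by rw [huu]; exact one_ne_zero,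
        by rw [b_comm, huu]; exact one_ne_zero⟩
    · obtain ⟨f, hf, fu, fb⟩ := H.gA.exists_third H.threeA hu hb hb'
      exact ⟨f, Or.inr ⟨hf, by rwa [b_comm]⟩, by rwa [b_comm], fb⟩
    · obtain ⟨f, hf, fu, fa⟩ := H.gA.exists_third H.threeA hu ha ha'
      exact ⟨f, Or.inr ⟨hf, by rwa [b_comm]⟩, by rwa [b_comm], fu⟩
    · exact ⟨u, Or.inl rfl, by rwa [b_comm], hb'⟩
  · intro w hw w' hw'
    have hB := H.aB
    obtain ⟨y, -, y1, y2⟩ := hB.exists_both (fun i : Fin 0 => i.elim0)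
      (by obtain ⟨y, hy⟩ := hB.exists_form_ne hw; exact ⟨y, fun i => i.elim0, by rw [hy]; exact one_ne_zero⟩)
      (by obtain ⟨y, hy⟩ := hB.exists_form_ne hw'; exact ⟨y, fun i => i.elim0, by rw [hy]; exact one_ne_zero⟩)
    exact ⟨y, fun e => y1 (by rw [e, dotProduct_zero]), y1, by rw [hB.swap]; exact neg_ne_zero.2 y2⟩
  · intro x hx w hw c
    have hz : Zs JB M (rk JA x x) := by
      rcases hx with rfl | ⟨hx1, hx2⟩
      · exact hN
      · exact H.root_move hu hN hx1 hx2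
    rw [← zm_rk, ← H.zm_smul]
    exact H.zs_smul hz c w hw

/-- A skew matrix anticommuting up to scalars with its conjugates is zero. -/
theorem skew_zero {K : Matrix α α F} (hK : adj JA K = -K)
    (h : ∀ S : Matrix α α F, Sp JA S → ∃ c : F, K * (S * K * S⁻¹) + (S * K * S⁻¹) * K = c • 1) : K = 0 := by
  have hsk : ∀ (L : Matrix α α F), adj JA L = -L → ∀ x y,
      QuadraticMap.polar ⇑QA x (L *ᵥ y) = -QuadraticMap.polar ⇑QA (L *ᵥ x) y := fun L hL x y => by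
    have := H.gA.pol_adj L x y
    rw [hL, Matrix.neg_mulVec, ← neg_one_smul F (L *ᵥ y), b_smul_right, b_comm y] at this
    linear_combination -this
  have hperp : ∀ u, QA u = 0 → ∀ S, Sp JA S →
      QuadraticMap.polar ⇑QA (K *ᵥ u) ((S * K * S⁻¹) *ᵥ u) = 0 := by
    intro u hu S hS
    obtain ⟨c, hc⟩ := h S hS
    have hS' : adj JA (S * K * S⁻¹) = -(S * K * S⁻¹) := by
      have e := H.adj_sp hS
      rw [H.adj_mul, H.adj_mul, hK, e, ← e, H.adj_adj, e, Matrix.neg_mul, Matrix.mul_neg, ← Matrix.mul_assoc]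
    have e0 := congrArg (fun X => QuadraticMap.polar ⇑QA u (X *ᵥ u)) hc
    simp only [Matrix.add_mulVec, ← Matrix.mulVec_mulVec _ K (S * K * S⁻¹),
      ← Matrix.mulVec_mulVec _ (S * K * S⁻¹) K, Matrix.smul_mulVec, Matrix.one_mulVec, b_add_right, b_smul_right,
      b_self_zero hu, mul_zero] at e0
    rw [hsk K hK u, hsk _ hS' u, b_comm ((S * K * S⁻¹) *ᵥ u)] at e0
    refine mul_left_cancel₀ H.two ?_
    linear_combination -e0
  -- the singular vectors are eigenvectors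
  have heig : ∀ u, QA u = 0 → u ≠ 0 → ∃ c : F, K *ᵥ u = c • u := by
    intro u hu hu0
    have qK : QuadraticMap.polar ⇑QA (K *ᵥ u) (K *ᵥ u) = 0 := by
      have := hperp u hu 1 (H.sp_one JA)
      rwa [inv_one, Matrix.one_mul, Matrix.mul_one] at this
    have han : ∀ v, QuadraticMap.polar ⇑QA u v = 0 → QA v ≠ 0 → QuadraticMap.polar ⇑QA (K *ᵥ u) v = 0 := by
      intro v huv hv
      obtain ⟨d, hd⟩ : ∃ d, d = -(QA v)⁻¹ := ⟨_, rfl⟩
      have hvv : QuadraticMap.polar ⇑QA v v = 2 * QA v := b_self v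
      have hR : Sp JA (1 + d • Matrix.vecMulVec v (JA *ᵥ v)) := sp_rank_one (δ := 1)
        (by rw [one_smul]; exact H.gA.symm) (by
          rw [H.gA.dot_polar, hvv, hd]
          field_simp
          ring)
      have hR2 : (1 + d • Matrix.vecMulVec v (JA *ᵥ v))⁻¹ *ᵥ u = u := by
        obtain ⟨-, e⟩ := H.sp_inv H.dA hR
        have : (1 + d • Matrix.vecMulVec v (JA *ᵥ v)) *ᵥ u = u := by
          rw [Matrix.add_mulVec, Matrix.one_mulVec, Matrix.smul_mulVec, Matrix.vecMulVec_mulVec, op_smul_eq_smul,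
            H.gA.dot_polar, b_comm, huv, zero_smul, smul_zero, add_zero]
        conv_lhs => rw [← this]
        rw [Matrix.mulVec_mulVec, e, Matrix.one_mulVec]
      have := hperp u hu _ hR
      rw [← Matrix.mulVec_mulVec, hR2, ← Matrix.mulVec_mulVec, Matrix.add_mulVec, Matrix.one_mulVec,
        Matrix.smul_mulVec, Matrix.vecMulVec_mulVec, op_smul_eq_smul, H.gA.dot_polar, b_add_right, qK, zero_add,
        b_smul_right, b_smul_right, b_comm v, mul_eq_zero, or_iff_right (by rw [hd]; simpa using hv)] at this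
      exact mul_self_eq_zero.1 this
    obtain ⟨v₀, hv₀, qv₀⟩ := H.gA.exists_perp_aniso H.threeA hu
    have hall : ∀ v, QuadraticMap.polar ⇑QA u v = 0 → QuadraticMap.polar ⇑QA (K *ᵥ u) v = 0 := by
      intro v hv
      by_cases hq : QA (v + v₀) = 0
      · have hq' : QA (v - v₀) ≠ 0 ∨ QA v ≠ 0 := by
          by_contra hc
          push Not at hc
          rw [q_add, hc.2] at hq
          rw [q_sub, hc.2] at hc
          refine qv₀ (mul_left_cancel₀ H.two ?_)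
          linear_combination hq + hc.1
        rcases hq' with hq' | hq'
        · have := han (v - v₀) (by rw [b_sub_right, hv, hv₀, sub_zero]) hq'
          rwa [b_sub_right, han v₀ hv₀ qv₀, sub_zero] at this
        · exact han v hv hq'
      · have := han (v + v₀) (by rw [b_add_right, hv, hv₀, add_zero]) hq
        rwa [b_add_right, han v₀ hv₀ qv₀, add_zero] at this
    obtain ⟨u', -, huu⟩ := exists_partner H.gA.nd hu hu0
    refine ⟨QuadraticMap.polar ⇑QA (K *ᵥ u) u', sub_eq_zero.1 (H.gA.nd _ fun x => ?_)⟩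
    have := hall (x - QuadraticMap.polar ⇑QA u x • u') (by rw [b_sub_right, b_smul_right, huu, mul_one, sub_self])
    rw [b_sub_right, b_smul_right] at this
    rw [b_sub_left, b_smul_left]
    linear_combination this
  have hzero : ∀ u, QA u = 0 → u ≠ 0 → K *ᵥ u = 0 := by
    intro u hu hu0
    obtain ⟨u', hu', huu⟩ := exists_partner H.gA.nd hu hu0
    have hne : QuadraticMap.polar ⇑QA u u' ≠ 0 := by rw [huu]; exact one_ne_zero
    obtain ⟨f, hf, fu, fu'⟩ := H.gA.exists_third H.threeA hu hu' hne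
    obtain ⟨a, ha⟩ := heig u hu hu0
    obtain ⟨b, hb⟩ := heig u' hu' (fun e => hne (by rw [e, b_zero_right]))
    obtain ⟨c, hc'⟩ := heig f hf (ne_zero_of_b fu)
    have rel : ∀ {x y : α → F} {s t : F}, K *ᵥ x = s • x → K *ᵥ y = t • y → QuadraticMap.polar ⇑QA x y ≠ 0 →
        s + t = 0 := fun {x y s t} hx hy hn => by
      have := hsk K hK x y
      rw [hx, hy, b_smul_right, b_smul_left, ← neg_mul] at this
      linear_combination mul_right_cancel₀ hn this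
    have r1 := rel ha hb hne
    have r2 := rel hc' ha fu
    have r3 := rel hc' hb fu'
    have : (2 : F) * a = 0 := by linear_combination r1 + r2 - r3
    rw [ha, (mul_eq_zero.1 this).resolve_left H.two, zero_smul]
  refine Matrix.ext_iff_mulVec.2 fun x => ?_
  obtain ⟨u, hu, hu0⟩ := H.gA.exists_sing H.threeA
  obtain ⟨u', hu', huu⟩ := exists_partner H.gA.nd hu hu0
  obtain ⟨a, b, z, z1, z2, rfl⟩ := H.gA.partner_decomp hu hu0 hu' huu x
  have e0 := hzero u hu hu0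
  have e1 := hzero u' hu' (fun e => by rw [e, b_zero_right] at huu; exact zero_ne_one huu)
  have e2 := hzero (u' + z + (-QA z) • u) (by
    rw [q_add, q_add, q_smul, hu', hu, z2, b_add_left, b_smul_right, b_smul_right, b_comm u' u, huu, b_comm z u, z1]
    ring) (fun e => by
    have := congrArg (QuadraticMap.polar ⇑QA u) e
    rw [b_add_right, b_add_right, b_smul_right, huu, z1, b_self_zero hu, b_zero_right] at this
    simp at this)
  rw [Matrix.mulVec_add, Matrix.mulVec_add, e1, Matrix.mulVec_smul, e0, smul_zero, zero_add, add_zero] at e2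
  rw [Matrix.mulVec_add, Matrix.mulVec_add, Matrix.mulVec_smul, Matrix.mulVec_smul, e0, e1, e2, smul_zero, smul_zero,
    add_zero, add_zero, Matrix.zero_mulVec]

/-- When the central elements are scalars, all the levels are. -/
theorem scalarLevels (hS : Small JB M) : ScalarLevels JB M := by
  intro w hw hw0 h hh y hy E he
  by_cases hyw : ∃ c : F, y = c • w
  · obtain ⟨c, rfl⟩ := hyw
    rw [kc_smul, Matrix.mul_smul, hh.2.1, left_eq_add] at he
    exact ⟨0, by rw [zero_smul]; exact kc_cancel hw0 (by rw [he, Matrix.mul_zero])⟩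
  push Not at hyw
  have hB := H.aB
  obtain ⟨c, hc⟩ := hS w hw hw0 _ (H.rad_comm hw hw0 hh hy he)
  rw [neg_one_smul, sub_neg_eq_add] at hc
  obtain ⟨k, hk⟩ : ∃ k, k = c * (2 : F)⁻¹ := ⟨_, rfl⟩
  obtain ⟨K, hKdef⟩ : ∃ K, K = E - k • 1 := ⟨_, rfl⟩
  have hE : E = K + k • 1 := by rw [hKdef, sub_add_cancel]
  have hK : adj JA K = -K := by
    rw [eq_neg_iff_add_eq_zero, hKdef, H.adj_sub, H.adj_smul, H.adj_one,
      show adj JA E - k • 1 + (E - k • 1) = (E + adj JA E) - (k + k) • (1 : Matrix α α F) by module, hc, ← sub_smul,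
      show c - (k + k) = 0 by rw [hk]; have h2 := H.two; field_simp; ring, zero_smul]
  refine ⟨k, ?_⟩
  suffices h0 : K = 0 by rw [hE, h0, zero_add]
  refine H.skew_zero hK fun S hS' => ?_
  -- an element with the single level `E`
  obtain ⟨t, ht, ht'⟩ := H.inM_right (hB.sp_tv y 1)
  have tapp : ∀ x, t.1 * kc α x = kc α x + ((JB *ᵥ y) ⬝ᵥ x) • kc α y := fun x => by
    rw [ht', kron_mul_kc, Matrix.mul_one, hB.tv_apply, one_mul, kc_add, kc_smul]
  have tw : t.1 * kc α w = kc α w := by rw [tapp, H.orth_comm hy, zero_smul, add_zero]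
  have tw' : (t⁻¹).1 * kc α w = kc α w := by
    conv_lhs => rw [← tw]
    rw [← Matrix.mul_assoc, t.inv_mul, Matrix.one_mul]
  have r1 := H.rad_conj hw0 hh (M.inv_mem ht) (A := 1) (A' := 1) (by rw [tw', Matrix.mul_one])
    (by rw [inv_inv, tw, Matrix.mul_one])
  rw [inv_inv] at r1
  have r2 := H.rad_mul r1 (H.rad_inv hh)
  have lev : ∀ x, (JB *ᵥ w) ⬝ᵥ x = 0 →
      (t⁻¹ * h * t * h⁻¹).1 * kc α x = kc α x + ((JB *ᵥ y) ⬝ᵥ x) • (kc α w * E) := by
    intro x hx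
    obtain ⟨Ex, hEx⟩ := hh.2.2 (kc α x) (by rw [kr_mul_kc, hx, zero_smul])
    have a1 : (t⁻¹ * h * t).1 * kc α x = kc α x + kc α w * (Ex + ((JB *ᵥ y) ⬝ᵥ x) • E) := by
      have e : (t⁻¹).1 * (t.1 * kc α x) = kc α x := by rw [← Matrix.mul_assoc, t.inv_mul, Matrix.one_mul]
      rw [tapp, Matrix.mul_add, Matrix.mul_smul] at e
      rw [Units.val_mul, Units.val_mul, Matrix.mul_assoc, tapp, Matrix.mul_assoc, Matrix.mul_add h.1, Matrix.mul_smul,
        hEx, he]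
      simp only [Matrix.mul_add, Matrix.mul_smul, ← Matrix.mul_assoc (t⁻¹).1 (kc α w), tw', smul_add]
      linear_combination (norm := module) e
    rw [H.rad_mul_apply r1 a1 (H.rad_inv_apply hh hEx)]
    rw [Matrix.mul_add, Matrix.mul_neg, Matrix.mul_add, Matrix.mul_smul]
    abel
  obtain ⟨h₁, hh₁⟩ : ∃ h₁, h₁ = t⁻¹ * h * t * h⁻¹ := ⟨_, rfl⟩
  rw [← hh₁] at r2 lev
  obtain ⟨C₁, hC₁⟩ := H.rad_eq hw hw0 hy r2 lev
  -- its conjugate
  obtain ⟨u, uw, uy⟩ := hB.exists_perp_ne hw0 hyw 0 1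
  have hTu := hB.sp_tv u 1
  obtain ⟨n, hn, hn'⟩ := H.inM_kron hS' hTu
  obtain ⟨S1, S2⟩ := H.sp_inv H.dA hS'
  obtain ⟨T1, T2⟩ := H.sp_inv H.dB hTu
  obtain ⟨Tu, hTudef⟩ : ∃ Tu, Tu = tv JB u 1 := ⟨_, rfl⟩
  rw [← hTudef] at hn' T1 T2 hTu
  have hni : (n⁻¹).1 = S⁻¹ ⊗ₖ Tu⁻¹ := by
    refine left_inv_eq_right_inv (a := n.1) n.inv_mul ?_
    rw [hn', ← Matrix.mul_kronecker_mul, S1, T1, Matrix.one_kronecker_one]
  have Tw : Tu *ᵥ w = w := by
    rw [hTudef, hB.tv_apply, H.orth_comm uw, mul_zero, zero_smul, add_zero]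
  have Tw' : Tu⁻¹ *ᵥ w = w := by
    conv_lhs => rw [← Tw]
    rw [Matrix.mulVec_mulVec, T2, Matrix.one_mulVec]
  have r3 := H.rad_conj hw0 r2 hn (A := S) (A' := S⁻¹) (by rw [hn', kron_mul_kc, Tw])
    (by rw [hni, kron_mul_kc, Tw'])
  have hy' : (JB *ᵥ w) ⬝ᵥ (Tu *ᵥ y) = 0 := by
    rw [← Tw, hB.form_image hTu, hy]
  have lev' : ∀ x, (JB *ᵥ w) ⬝ᵥ x = 0 → (n * h₁ * n⁻¹).1 * kc α x =
      kc α x + ((JB *ᵥ (Tu *ᵥ y)) ⬝ᵥ x) • (kc α w * (S * E * S⁻¹)) := by
    intro x hx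
    have hx' : (JB *ᵥ w) ⬝ᵥ (Tu⁻¹ *ᵥ x) = 0 := by
      rw [Matrix.dotProduct_mulVec, H.vecMul_image hTu T1, Tw, hx]
    have hyx : (JB *ᵥ (Tu *ᵥ y)) ⬝ᵥ x = (JB *ᵥ y) ⬝ᵥ (Tu⁻¹ *ᵥ x) := by
      rw [Matrix.dotProduct_mulVec, H.vecMul_image hTu T1]
    rw [Units.val_mul, Units.val_mul, hni, Matrix.mul_assoc, kron_mul_kc, Matrix.mul_assoc,
      ← Matrix.mul_assoc h₁.1, lev _ hx', Matrix.add_mul, Matrix.smul_mul, Matrix.mul_add, Matrix.mul_smul, hn',
      ← Matrix.mul_assoc _ (kc α (Tu⁻¹ *ᵥ x)), kron_mul_kc, Matrix.mulVec_mulVec, T1, Matrix.one_mulVec,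
      Matrix.mul_assoc (kc α x), S1, Matrix.mul_one, ← Matrix.mul_assoc _ (kc α w * E), ← Matrix.mul_assoc _ (kc α w),
      kron_mul_kc, Tw, hyx]
    simp only [Matrix.mul_assoc]
  obtain ⟨h₂, hh₂⟩ : ∃ h₂, h₂ = n * h₁ * n⁻¹ := ⟨_, rfl⟩
  rw [← hh₂] at r3 lev'
  obtain ⟨C₂, hC₂⟩ := H.rad_eq hw hw0 hy' r3 lev'
  obtain ⟨y', hy'def⟩ : ∃ y', y' = Tu *ᵥ y := ⟨_, rfl⟩
  rw [← hy'def] at hy' hC₂
  have hd : (JB *ᵥ y) ⬝ᵥ y' ≠ 0 := by
    have huy : (JB *ᵥ u) ⬝ᵥ y = -1 := by rw [hB.swap, uy]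
    rw [hy'def, hTudef, hB.tv_apply, dotProduct_add, dotProduct_smul, H.selfB, uy, huy]
    simp
  obtain ⟨E', hE'⟩ : ∃ E', E' = S * E * S⁻¹ := ⟨_, rfl⟩
  rw [← hE'] at hC₂
  obtain ⟨d, hdd⟩ : ∃ d, d = (JB *ᵥ y) ⬝ᵥ y' := ⟨_, rfl⟩
  rw [← hdd] at hd
  -- the commutator
  obtain ⟨G, hG⟩ : ∃ G, G = E * adj JA E' + E' * adj JA E := ⟨_, rfl⟩
  have hcom : InM M (1 + Zm JB w (d • G)) := by
    refine ⟨h₁ * h₂ * (h₂ * h₁)⁻¹, M.mul_mem (M.mul_mem r2.1 r3.1) (M.inv_mem (M.mul_mem r3.1 r2.1)), ?_⟩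
    have e : (h₁ * h₂).1 = (1 + Zm JB w (d • G)) * (h₂ * h₁).1 := by
      have dy : (JB *ᵥ y') ⬝ᵥ y = -d := by rw [hdd, hB.swap]
      rw [Units.val_mul, Units.val_mul, hC₁, hC₂, H.zm_smul, hG, H.zm_add]
      simp only [Np, Zm, Matrix.mul_add, Matrix.add_mul, Matrix.mul_sub, Matrix.sub_mul, Matrix.one_mul,
        Matrix.mul_one, Matrix.smul_mul, Matrix.mul_smul, Matrix.mul_assoc, kr_kc_mul, hw, hy, hy', H.orth_comm hy,
        H.orth_comm hy', ← hdd, dy, zero_smul, smul_zero, Matrix.mul_zero, smul_smul, mul_zero]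
      module
    rw [Units.val_mul, e, Matrix.mul_assoc, Units.mul_inv, Matrix.mul_one]
  obtain ⟨g₀, hg₀⟩ := hS w hw hw0 _ hcom
  have hG' : G = (d⁻¹ * g₀) • 1 := by rw [mul_smul, ← hg₀, smul_smul, inv_mul_cancel₀ hd, one_smul]
  refine ⟨2 * (k * k) - d⁻¹ * g₀, ?_⟩
  rw [sub_smul, ← hG', hG, hE', hE]
  simp only [H.adj_mul, H.adj_add, H.adj_smul, H.adj_one, hK, H.adj_sp hS',
    show adj JA S⁻¹ = S by rw [← H.adj_sp hS', H.adj_adj]]
  simp only [Matrix.mul_add, Matrix.add_mul, Matrix.mul_neg, Matrix.neg_mul, Matrix.smul_mul, Matrix.mul_smul,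
    Matrix.mul_one, Matrix.one_mul, ← Matrix.mul_assoc, S1]
  module

end SympHyp

end CfsgLib.Classical.TensorMixed
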