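import Cfsg.Agent.Lib.Classical.TensorMixed.Symp

set_option autoImplicit false
set_option linter.unusedSectionVars false

/-!
The case of an orthogonal first and a symplectic second factor: when the levels are scalars, the conjugates of
the transvections of the second factor are such transvections, so every element is a Kronecker product.
-/

namespace CfsgLib.Classical.TensorMixed

open Matrix CfsgLib.Classical.TensorMax
open CfsgLib.Classical.TensorOrth (nil_split iso_nil li_ten_left li_ten_right kron_left_cancel)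
open CfsgLib.Classical.TensorSymp (adj Sp AForm tv ten kr_mul_apply kc_mul_apply kron_mulVec_ten ten_dot kc_mulVec
  eq_of_mul_kc_all)
open scoped MatrixGroups Kronecker

variable {F : Type*} [Field F] [Finite F] {α β : Type} [Fintype α] [DecidableEq α] [Fintype β] [DecidableEq β]
variable {QA : QuadraticForm F (α → F)} {JA : Matrix α α F} {JB : Matrix β β F} {M : Subgroup (GL (α × β) F)}

/-- A transvection of the second factor. -/
def IsRoot (JB : Matrix β β F) (M : Subgroup (GL (α × β) F)) (w : β → F) (x : GL (α × β) F) : Prop :=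
  w ≠ 0 ∧ x ∈ M ∧ x.1 = 1 + Zm JB w 1

namespace SympHyp

variable (H : SympHyp QA JA JB M)
include H

theorem exists_root_tv {w : β → F} (hw : w ≠ 0) : ∃ x, IsRoot JB M w x := by
  obtain ⟨x, hx, hx'⟩ := H.inM_right (H.aB.sp_tv w 1)
  refine ⟨x, hw, hx, ?_⟩
  rw [hx', tv, one_smul, Matrix.kronecker_add, Matrix.one_kronecker_one, H.zm_one]

theorem root_tens {w : β → F} {x : GL (α × β) F} (hx : IsRoot JB M w x) : Tens x.1 :=
  ⟨1, 1 + Matrix.vecMulVec w (JB *ᵥ w), by
    rw [hx.2.2, H.zm_one, Matrix.kronecker_add, Matrix.one_kronecker_one]⟩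

theorem finrank_conj (w : β → F) (g : GL (α × β) F) :
    Module.finrank F (LinearMap.range (g.1 * Zm JB w (1 : Matrix α α F) * (g⁻¹).1).mulVecLin) ≤
      Fintype.card α := by
  rw [Zm, Matrix.mul_one, ← Matrix.mul_assoc g.1, Matrix.mul_assoc (g.1 * kc α w), Matrix.mulVecLin_mul]
  exact ((Submodule.finrank_mono (LinearMap.range_comp_le_range _ _)).trans (LinearMap.finrank_range_le _)).trans
    (le_of_eq (Module.finrank_pi F))

theorem iso_dot {g : GL (α × β) F} (hg : g ∈ M) (a b : α × β → F) :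
    ((JA ⊗ₖ JB) *ᵥ (g.1 *ᵥ a)) ⬝ᵥ (g.1 *ᵥ b) = ((JA ⊗ₖ JB) *ᵥ a) ⬝ᵥ b := by
  rw [Matrix.dotProduct_mulVec, ← Matrix.mulVec_transpose, Matrix.mulVec_mulVec, Matrix.mulVec_mulVec, H.le g hg]

set_option maxHeartbeats 800000 in
/-- An element carrying a transvection of the second factor to a Kronecker product is one. -/
theorem tens_of_conj (hS : Small JB M) (hL : ScalarLevels JB M) {g : GL (α × β) F} (hg : g ∈ M) {w : β → F}
    {x : GL (α × β) F} (hx : IsRoot JB M w x) (h : Tens (g * x * g⁻¹).1) : Tens g.1 := by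
  classical
  haveI := H.nonempty_left
  haveI := H.nonempty_right
  obtain ⟨p, hp⟩ := CharP.exists F
  haveI : Fact p.Prime := ⟨(CharP.char_is_prime_or_zero F p).resolve_right (CharP.char_ne_zero_of_finite F p)⟩
  obtain ⟨hw, hxM, hxv⟩ := hx
  obtain ⟨K, hK⟩ : ∃ K, K = g.1 * Zm JB w (1 : Matrix α α F) * (g⁻¹).1 := ⟨_, rfl⟩
  have hkv : (g * x * g⁻¹).1 = 1 + K := by
    rw [Units.val_mul, Units.val_mul, hxv, Matrix.mul_add, Matrix.mul_one, Matrix.add_mul, g.mul_inv, hK]
  have hKK : K * K = 0 := by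
    rw [hK, Matrix.mul_assoc, Matrix.mul_assoc, ← Matrix.mul_assoc (g⁻¹).1, ← Matrix.mul_assoc (g⁻¹).1, g.inv_mul,
      Matrix.one_mul, ← Matrix.mul_assoc (Zm JB w (1 : Matrix α α F)), H.zm_mul (H.selfB w), Matrix.zero_mul,
      Matrix.mul_zero]
  have hrk : Module.finrank F (LinearMap.range K.mulVecLin) ≤ Fintype.card α := hK ▸ H.finrank_conj w g
  obtain ⟨S, T, hST⟩ := h
  have hkM : g * x * g⁻¹ ∈ M := M.mul_mem (M.mul_mem hg hxM) (M.inv_mem hg)
  obtain ⟨z, wz, -, -⟩ := H.exists_dual (H.selfB w) hw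
  have hgw : g.1 * kc α w = K * (g.1 * kc α z) := by
    rw [hK, Matrix.mul_assoc (g.1 * _), ← Matrix.mul_assoc (g⁻¹).1, g.inv_mul, Matrix.one_mul, Matrix.mul_assoc,
      H.zm_mul_kc, wz, one_smul, Matrix.mul_one]
  have hwne : kc α w ≠ (0 : Matrix (α × β) α F) := by
    intro e
    obtain ⟨i⟩ := H.nonempty_left
    obtain ⟨k, hk⟩ := Function.ne_iff.1 hw
    exact hk (by simpa [kc_apply] using congrFun₂ e (i, k) i)
  have hgne : g.1 * kc α w ≠ 0 := fun e => hwne (by
    rw [← Matrix.one_mul (kc α w), ← g.inv_mul, Matrix.mul_assoc, e, Matrix.mul_zero])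
  obtain ⟨N, hN | ⟨A, hA, hKA⟩⟩ := nil_split (p := p) H.two hKK (hkv.symm.trans hST)
  · obtain ⟨-, hKN⟩ := hN
    rw [hK, Zm, Matrix.mul_one] at hKN
    obtain ⟨w', A, A', -, hA⟩ := H.image_of_rank_one hw (H.mulVecB_ne hw) hKN
    have hw' : w' ≠ 0 := by
      rintro rfl
      refine hgne ?_
      rw [hA, ← zero_smul F (0 : β → F), kc_smul, zero_smul, Matrix.zero_mul]
    obtain ⟨T₁, hT₁, e⟩ := H.moveB hw' hw
    exact H.tens_of_move hS hL hg (H.selfB w) hw hA hT₁ e
  · exfalso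
    have hiso := H.iso_left hkM (S := 1 + A) (by rw [hkv, hKA, Matrix.add_kronecker, Matrix.one_kronecker_one])
    have hAne : A ≠ 0 := fun e => hgne (by rw [hgw, hKA, e, Matrix.zero_kronecker, Matrix.zero_mul])
    obtain ⟨s, t, hpl⟩ := iso_nil H.gA hA hiso hAne
    -- a basis of the range
    obtain ⟨R, hR⟩ : ∃ R, R = LinearMap.range A.mulVecLin := ⟨_, rfl⟩
    have hRK : Module.finrank F R * Fintype.card β ≤ Fintype.card α := by
      let bs := Module.finBasis F R
      have hli : LinearIndependent F fun i => (bs i : α → F) :=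
        bs.linearIndependent.map' R.subtype (Submodule.ker_subtype R)
      have hall := li_ten_right (β := β) hli
      have hle : Submodule.span F (Set.range fun q : Fin (Module.finrank F R) × β =>
          ten (bs q.1 : α → F) (Pi.single q.2 (1 : F))) ≤ LinearMap.range K.mulVecLin := by
        rw [Submodule.span_le]
        rintro _ ⟨⟨i, j⟩, rfl⟩
        obtain ⟨a, ha⟩ : (bs i : α → F) ∈ LinearMap.range A.mulVecLin := hR ▸ (bs i).2
        refine ⟨ten a (Pi.single j 1), ?_⟩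
        rw [Matrix.mulVecLin_apply] at ha ⊢
        rw [hKA, kron_mulVec_ten, Matrix.one_mulVec, ha]
      have h3 := Submodule.finrank_mono hle
      rw [finrank_span_eq_card hall, Fintype.card_prod, Fintype.card_fin] at h3
      exact h3.trans hrk
    have hR2 : 2 ≤ Module.finrank F R := by
      have hli : LinearIndependent F ![A *ᵥ s, A *ᵥ t] :=
        (LinearIndependent.pair_iff' hpl.ne).2 fun a e => hpl.indep a e.symm
      have h1 : Submodule.span F (Set.range ![A *ᵥ s, A *ᵥ t]) ≤ R := by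
        rw [Submodule.span_le, hR]
        rintro _ ⟨i, rfl⟩
        fin_cases i <;> exact LinearMap.mem_range_self _ _
      have h2 := Submodule.finrank_mono h1
      rwa [finrank_span_eq_card hli, Fintype.card_fin] at h2
    -- a reflection fixing the range
    obtain ⟨v, hv, qv⟩ : ∃ v ∈ CfsgLib.Orth.orth QA R, QA v ≠ 0 := by
      by_contra hc
      push Not at hc
      have h1 := CfsgLib.Orth.two_mul_finrank_le H.gA.nd (CfsgLib.Orth.le_orth_of_singular hc)
      have h2 := CfsgLib.Orth.finrank_orth H.gA.nd R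
      have := H.four
      have := H.threeA
      rw [Module.finrank_pi] at h1 h2
      nlinarith
    obtain ⟨d, hd⟩ : ∃ d, d = -(QA v)⁻¹ := ⟨_, rfl⟩
    have hd0 : d ≠ 0 := hd ▸ neg_ne_zero.2 (inv_ne_zero qv)
    have hr : Sp JA (1 + d • Matrix.vecMulVec v (JA *ᵥ v)) := sp_rank_one (δ := 1)
      (by rw [one_smul]; exact H.gA.symm) (by
        rw [H.gA.self, hd]
        field_simp
        ring)
    obtain ⟨y, hy, hy'⟩ := H.inM_left hr
    have hrA : (1 + d • Matrix.vecMulVec v (JA *ᵥ v)) * A = A := by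
      have : (JA *ᵥ v) ᵥ* A = 0 := dotProduct_eq_zero _ fun a => by
        rw [← Matrix.dotProduct_mulVec, H.gA.dot_polar, CfsgLib.Orth.b_comm]
        exact CfsgLib.Orth.mem_orth.1 hv _ (hR ▸ LinearMap.mem_range_self A.mulVecLin a)
      rw [Matrix.add_mul, Matrix.one_mul, Matrix.smul_mul, Matrix.vecMulVec_mul, this, Matrix.vecMulVec_zero,
        smul_zero, add_zero]
    have hyK : y.1 * K = K := by
      rw [hy', hKA, ← Matrix.mul_kronecker_mul, hrA, Matrix.one_mul]
    obtain ⟨y', hy'def⟩ : ∃ y', y' = g⁻¹ * y * g := ⟨_, rfl⟩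
    have hy'M : y' ∈ M := hy'def ▸ M.mul_mem (M.mul_mem (M.inv_mem hg) hy) hg
    have hfix : y'.1 * kc α w = kc α w := by
      rw [hy'def, Units.val_mul, Units.val_mul, Matrix.mul_assoc, hgw, Matrix.mul_assoc, ← Matrix.mul_assoc y.1,
        hyK, ← hgw, ← Matrix.mul_assoc, g.inv_mul, Matrix.one_mul]
    obtain ⟨S', T', hST'⟩ := H.tens_of_stab hS hL hy'M (H.selfB w) hw (A := 1) (by rw [hfix, Matrix.mul_one])
    obtain ⟨T'', hT''⟩ : ∃ T'', y'.1 = (1 : Matrix α α F) ⊗ₖ T'' := by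
      obtain ⟨θ, hθ⟩ := exists_dual_one hw
      have e1 := congrArg (kr α θ * ·) (hfix.symm.trans (by rw [hST', kron_mul_kc]))
      simp only [kr_mul_kc, kr_kc_mul, hθ, one_smul] at e1
      have hne : θ ⬝ᵥ (T' *ᵥ w) ≠ 0 := fun e => by
        rw [e, zero_smul] at e1
        exact one_ne_zero e1
      refine ⟨(θ ⬝ᵥ (T' *ᵥ w))⁻¹ • T', ?_⟩
      rw [hST', Matrix.kronecker_smul, ← Matrix.smul_kronecker, e1, smul_smul, inv_mul_cancel₀ hne, one_smul]
    obtain ⟨X, hX⟩ : ∃ X, X = y'.1 - 1 := ⟨_, rfl⟩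
    have hXT : X = (1 : Matrix α α F) ⊗ₖ (T'' - 1) := by
      rw [hX, hT'', TensorOrth.kron_sub, Matrix.one_kronecker_one]
    have hXg : X = (g⁻¹).1 * ((d • Matrix.vecMulVec v (JA *ᵥ v)) ⊗ₖ (1 : Matrix β β F)) * g.1 := by
      rw [hX, hy'def, Units.val_mul, Units.val_mul, hy', Matrix.add_kronecker, Matrix.one_kronecker_one,
        Matrix.mul_add, Matrix.mul_one, Matrix.add_mul, g.inv_mul, add_sub_cancel_left]
    have hup : Module.finrank F (LinearMap.range X.mulVecLin) ≤ Fintype.card β := by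
      rw [hXg, Matrix.mul_assoc, Matrix.mulVecLin_mul, LinearMap.range_comp]
      refine (Submodule.finrank_map_le _ _).trans ?_
      rw [Matrix.mulVecLin_mul]
      refine (Submodule.finrank_mono (LinearMap.range_comp_le_range _ _)).trans ?_
      let f : (β → F) →ₗ[F] (α × β → F) :=
        { toFun := fun c => ten v c
          map_add' := fun a b => TensorSymp.ten_add_right v a b
          map_smul' := fun a b => TensorSymp.ten_smul_right a v b }
      have hle : LinearMap.range ((d • Matrix.vecMulVec v (JA *ᵥ v)) ⊗ₖ (1 : Matrix β β F)).mulVecLin ≤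
          LinearMap.range f := by
        rintro _ ⟨a, rfl⟩
        refine ⟨fun k => d * ∑ i, (JA *ᵥ v) i * a (i, k), ?_⟩
        ext ⟨i, k⟩
        simp only [f, LinearMap.coe_mk, AddHom.coe_mk, ten, Matrix.mulVecLin_apply, Matrix.mulVec, dotProduct,
          Fintype.sum_prod_type, Matrix.kronecker_apply, Matrix.smul_apply, Matrix.vecMulVec_apply, Matrix.one_apply,
          mul_ite, ite_mul, mul_one, mul_zero, zero_mul, Finset.sum_ite_eq, Finset.mem_univ, if_true, smul_eq_mul,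
          Finset.mul_sum]
        exact Finset.sum_congr rfl fun j _ => by
          simp only [Finset.mul_sum, Finset.sum_mul]
          exact Finset.sum_congr rfl fun l _ => by ring
      exact ((Submodule.finrank_mono hle).trans (LinearMap.finrank_range_le _)).trans
        (le_of_eq (Module.finrank_pi F))
    obtain ⟨e, he⟩ : ∃ e, (T'' - 1) *ᵥ e ≠ 0 := by
      by_contra hall
      push Not at hall
      have h0 : T'' - 1 = 0 := Matrix.ext_of_mulVec_single fun j => by rw [hall, Matrix.zero_mulVec]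
      have h1 := congrArg (fun Y => g.1 * Y * (g⁻¹).1) (hXg.symm.trans (by rw [hXT, h0, Matrix.kronecker_zero]))
      simp only [Matrix.mul_assoc, g.mul_inv, Matrix.mul_one, Matrix.zero_mul, Matrix.mul_zero] at h1
      rw [← Matrix.mul_assoc, g.mul_inv, Matrix.one_mul] at h1
      rcases TensorOrth.kron_eq_zero h1 with h2 | h2
      · rw [smul_eq_zero, or_iff_right hd0] at h2
        have h3 := congrArg (fun Y => (JA *ᵥ v) ⬝ᵥ (Y *ᵥ v)) h2
        simp only [Matrix.vecMulVec_mulVec, op_smul_eq_smul, dotProduct_smul, smul_eq_mul, Matrix.zero_mulVec,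
          dotProduct_zero, H.gA.self, mul_eq_zero, H.two, qv, or_self] at h3
      · exact one_ne_zero h2
    have hlow : Fintype.card α ≤ Module.finrank F (LinearMap.range X.mulVecLin) := by
      have hli : LinearIndependent F fun _ : Fin 1 => (T'' - 1) *ᵥ e := LinearIndependent.of_subsingleton 0 he
      have hall := li_ten_left (α := α) hli
      have hle : Submodule.span F (Set.range fun q : α × Fin 1 =>
          ten (Pi.single q.1 (1 : F) : α → F) ((T'' - 1) *ᵥ e)) ≤ LinearMap.range X.mulVecLin := by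
        rw [Submodule.span_le]
        rintro _ ⟨⟨i, j⟩, rfl⟩
        refine ⟨ten (Pi.single i 1) e, ?_⟩
        rw [Matrix.mulVecLin_apply, hXT, kron_mulVec_ten, Matrix.one_mulVec]
      have h3 := Submodule.finrank_mono hle
      rwa [finrank_span_eq_card hall, Fintype.card_prod, Fintype.card_fin, mul_one] at h3
    have := H.four
    nlinarith

/-- A pair generating a `p`-group. -/
theorem tens_of_pgroup (hS : Small JB M) (hL : ScalarLevels JB M) {p : ℕ} [Fact p.Prime] {g x x' : GL (α × β) F}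
    (hg : g ∈ M) {w w' : β → F} (hx : IsRoot JB M w x) (hx' : IsRoot JB M w' x')
    (hP : IsPGroup p (Subgroup.closure ({x', g * x * g⁻¹} : Set (GL (α × β) F)))) : Tens g.1 := by
  suffices main : ∀ n : ℕ, ∀ (g x : GL (α × β) F) (w : β → F), g ∈ M → IsRoot JB M w x →
      (Subgroup.closure ({x', g * x * g⁻¹} : Set (GL (α × β) F)) : Set (GL (α × β) F)).ncard ≤ n →
      IsPGroup p (Subgroup.closure ({x', g * x * g⁻¹} : Set (GL (α × β) F))) → Tens g.1 from
    main _ g x w hg hx le_rfl hP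
  intro n
  induction n using Nat.strong_induction_on with
  | _ n ih =>
    intro g x w hg hx hn hP
    obtain ⟨k, hk⟩ : ∃ k, k = g * x * g⁻¹ := ⟨_, rfl⟩
    rw [← hk] at hn hP
    have hkM : k ∈ M := hk ▸ M.mul_mem (M.mul_mem hg hx.2.1) (M.inv_mem hg)
    refine H.tens_of_conj hS hL hg hx ?_
    rw [← hk]
    by_cases hcomm : k * x' * k⁻¹ = x'
    · exact H.tens_of_conj hS hL hkM hx' (by rw [hcomm]; exact H.root_tens hx')
    set G₀ := Subgroup.closure ({x', k} : Set (GL (α × β) F)) with hG₀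
    set G₁ := Subgroup.closure ({x', k * x' * k⁻¹} : Set (GL (α × β) F)) with hG₁
    have hxG : x' ∈ G₀ := Subgroup.subset_closure (Set.mem_insert _ _)
    have hkG : k ∈ G₀ := Subgroup.subset_closure (Set.mem_insert_of_mem _ (Set.mem_singleton _))
    have hle : G₁ ≤ G₀ := by
      rw [hG₁, Subgroup.closure_le]
      rintro y (rfl | rfl)
      · exact hxG
      · exact G₀.mul_mem (G₀.mul_mem hkG hxG) (G₀.inv_mem hkG)
    have hne : G₁ ≠ G₀ := by
      intro e
      haveI : Group.IsNilpotent G₀ := hP.isNilpotent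
      rcases eq_top_or_exists_le_coatom (Subgroup.zpowers (⟨x', hxG⟩ : G₀)) with htop | ⟨Mx, hMx, hle'⟩
      · have hk0 : (⟨k, hkG⟩ : G₀) ∈ Subgroup.zpowers (⟨x', hxG⟩ : G₀) := by rw [htop]; trivial
        obtain ⟨m, hm⟩ := Subgroup.mem_zpowers_iff.1 hk0
        have hm' : x' ^ m = k := by simpa using congrArg Subtype.val hm
        exact hcomm (by rw [← hm', (Commute.refl x').zpow_left m |>.eq, mul_inv_cancel_right])
      · haveI : Mx.Normal := Subgroup.NormalizerCondition.normal_of_coatom Mx normalizerCondition_of_isNilpotent hMx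
        have hxm : (⟨x', hxG⟩ : G₀) ∈ Mx := hle' (Subgroup.mem_zpowers _)
        have hconj := Subgroup.Normal.conj_mem (H := Mx) inferInstance _ hxm ⟨k, hkG⟩
        have hsub : G₁ ≤ Mx.map G₀.subtype := by
          rw [hG₁, Subgroup.closure_le]
          rintro y (rfl | rfl)
          · exact ⟨_, hxm, rfl⟩
          · exact ⟨_, hconj, rfl⟩
        refine hMx.1 (top_unique fun y _ => ?_)
        obtain ⟨z, hz, hz'⟩ := hsub (show (y : GL (α × β) F) ∈ G₁ by rw [e]; exact y.2)
        rwa [← show z = y from Subtype.ext hz']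
    have hlt : (G₁ : Set (GL (α × β) F)).ncard < (G₀ : Set (GL (α × β) F)).ncard :=
      Set.ncard_lt_ncard (lt_of_le_of_ne (a := (G₁ : Set (GL (α × β) F))) hle
        (fun e => hne (SetLike.coe_injective e))) (Set.toFinite _)
    exact ih _ (lt_of_lt_of_le hlt hn) k x' w' hkM hx' le_rfl (hP.to_le hle)

set_option maxHeartbeats 1600000 in
/-- The involution of a pair which is not a `p`-group. -/
theorem exists_space (hS : Small JB M) (hL : ScalarLevels JB M) {g x x' : GL (α × β) F} (hg : g ∈ M)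
    {w w' : β → F} (hx : IsRoot JB M w x) (hx' : IsRoot JB M w' x') (hnt : ¬ Tens g.1) :
    ∃ L : Submodule F (β → F), w' ∈ L ∧ Module.finrank F L ≤ 2 ∧
      ∀ (s : α × β → F) (i : α),
        (fun l => ((g.1 * Zm JB w (1 : Matrix α α F) * (g⁻¹).1) *ᵥ s) (i, l)) ∈ L := by
  classical
  haveI := H.nonempty_left
  haveI := H.nonempty_right
  obtain ⟨p, hp⟩ := CharP.exists F
  haveI hp0 : Fact p.Prime := ⟨(CharP.char_is_prime_or_zero F p).resolve_right (CharP.char_ne_zero_of_finite F p)⟩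
  have h2 := H.two
  have hp2 : p ≠ 2 := fun e => by subst e; exact h2 (CharP.cast_eq_zero F 2)
  obtain ⟨K, hKdef⟩ : ∃ K, K = g.1 * Zm JB w (1 : Matrix α α F) * (g⁻¹).1 := ⟨_, rfl⟩
  rw [← hKdef]
  obtain ⟨X, hXdef⟩ : ∃ X, X = Zm JB w' (1 : Matrix α α F) := ⟨_, rfl⟩
  obtain ⟨k, hk⟩ : ∃ k, k = g * x * g⁻¹ := ⟨_, rfl⟩
  have hkM : k ∈ M := hk ▸ M.mul_mem (M.mul_mem hg hx.2.1) (M.inv_mem hg)
  have hkv : k.1 = 1 + K := by
    rw [hk, Units.val_mul, Units.val_mul, hx.2.2, Matrix.mul_add, Matrix.mul_one, Matrix.add_mul, g.mul_inv, hKdef]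
  have hxv : x'.1 = 1 + X := by rw [hx'.2.2, hXdef]
  have hXX : X * X = 0 := by rw [hXdef, H.zm_mul (H.selfB w')]
  have hKK : K * K = 0 := by
    rw [hKdef, Matrix.mul_assoc, Matrix.mul_assoc, ← Matrix.mul_assoc (g⁻¹).1, ← Matrix.mul_assoc (g⁻¹).1, g.inv_mul,
      Matrix.one_mul, ← Matrix.mul_assoc (Zm JB w (1 : Matrix α α F)), H.zm_mul (H.selfB w), Matrix.zero_mul,
      Matrix.mul_zero]
  have hnp : ¬ IsPGroup p (Subgroup.closure ({x', k} : Set (GL (α × β) F))) := fun hP =>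
    hnt (H.tens_of_pgroup hS hL hg hx hx' (hk ▸ hP))
  obtain ⟨z, hz, hz2, hz1⟩ := QuadPairInvol.exists_invol hp2 hXX hKK hxv hkv hnp
  obtain ⟨cX, cK⟩ := QuadPairInvol.invol_comm h2 hXX hKK hxv hkv hz hz2
  have hzr := QuadPairInvol.sub_one_mem_range hXX hKK hxv hkv hz
  have hzM : z ∈ M := (Subgroup.closure_le _).2 (by rintro y (rfl | rfl); exacts [hx'.2.1, hkM]) hz
  have hw' : w' ≠ 0 := hx'.1
  obtain ⟨w'', ww', -, -⟩ := H.exists_dual (H.selfB w') hw'
  obtain ⟨v, v', hv, hv', hvv⟩ := H.exists_perp_pair (H.selfB w') hw'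
  -- `z` stabilises the subspace of `w'`
  have hzw : z.1 * kc α w' = kc α w' * (kr α (JB *ᵥ w') * (z.1 * kc α w'')) := by
    have e : X * kc α w'' = kc α w' := by
      rw [hXdef, H.zm_mul_kc, ww', one_smul, Matrix.mul_one]
    conv_lhs => rw [← e, ← Matrix.mul_assoc, cX, Matrix.mul_assoc, hXdef, Zm, Matrix.mul_one, Matrix.mul_assoc]
  obtain ⟨S, T, hST⟩ := H.tens_of_stab hS hL hzM (H.selfB w') hw' hzw
  -- the images of `X` and `K` are totally isotropic
  let f : (α × β → F) → (α × β → F) → F := fun a b => ((JA ⊗ₖ JB) *ᵥ a) ⬝ᵥ b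
  have fdef : ∀ a b, f a b = ((JA ⊗ₖ JB) *ᵥ a) ⬝ᵥ b := fun a b => rfl
  have faddl : ∀ a b c, f (a + b) c = f a c + f b c := fun a b c => by
    simp only [fdef, Matrix.mulVec_add, add_dotProduct]
  have faddr : ∀ a b c, f a (b + c) = f a b + f a c := fun a b c => dotProduct_add _ _ _
  have fskew : ∀ a b, f b a = -f a b := fun a b => H.form_swap a b
  have hskew : ∀ {y : GL (α × β) F} {N : Matrix (α × β) (α × β) F}, y ∈ M → y.1 = 1 + N → N * N = 0 →
      (∀ a b, f (N *ᵥ a) b = -f a (N *ᵥ b)) ∧ ∀ a b, f (N *ᵥ a) (N *ᵥ b) = 0 := by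
    intro y N hy hyv hN
    have hP : ∀ a b, f (N *ᵥ a) b + f a (N *ᵥ b) + f (N *ᵥ a) (N *ᵥ b) = 0 := by
      intro a b
      have e : f (y.1 *ᵥ a) (y.1 *ᵥ b) = f a b := H.iso_dot hy a b
      simp only [hyv, Matrix.add_mulVec, Matrix.one_mulVec, faddl, faddr] at e
      linear_combination e
    have h0 : ∀ a b, f (N *ᵥ a) (N *ᵥ b) = 0 := fun a b => by
      have := hP a (N *ᵥ b)
      rwa [Matrix.mulVec_mulVec b N N, hN, Matrix.zero_mulVec, show ∀ c, f c 0 = 0 from fun c => dotProduct_zero _,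
        show ∀ c, f c 0 = 0 from fun c => dotProduct_zero _, add_zero, add_zero] at this
    exact ⟨fun a b => eq_neg_of_add_eq_zero_left (by simpa [h0 a b] using hP a b), h0⟩
  obtain ⟨skX, tsX⟩ := hskew hx'.2.1 hxv hXX
  obtain ⟨skK, tsK⟩ := hskew hkM hkv hKK
  have zz : ∀ a, z.1 *ᵥ (z.1 *ᵥ a) = a := fun a => by
    rw [Matrix.mulVec_mulVec, ← Units.val_mul, hz2, Units.val_one, Matrix.one_mulVec]
  have zsym : ∀ a b, f (z.1 *ᵥ a) b = f a (z.1 *ᵥ b) := fun a b => by
    conv_lhs => rw [← zz b]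
    exact H.iso_dot hzM a _
  -- the decomposition of the minus space
  have hdec : ∀ t, ∃ a b, t - z.1 *ᵥ t = X *ᵥ a + K *ᵥ b ∧ z.1 *ᵥ (K *ᵥ b) = -(K *ᵥ b) := by
    intro t
    have := hzr ⟨t, rfl⟩
    obtain ⟨_, ⟨a, rfl⟩, _, ⟨b, rfl⟩, e⟩ := Submodule.mem_sup.1 this
    simp only [Matrix.mulVecLin_apply, Matrix.sub_mulVec, Matrix.one_mulVec] at e
    refine ⟨(-2 : F)⁻¹ • (a - z.1 *ᵥ a), (-2 : F)⁻¹ • (b - z.1 *ᵥ b), ?_, ?_⟩
    · have e' := congrArg (fun y => y - z.1 *ᵥ y) e
      simp only [Matrix.mulVec_add, Matrix.mulVec_sub, zz] at e'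
      simp only [Matrix.mulVec_smul, Matrix.mulVec_sub, Matrix.mulVec_mulVec, ← cX, ← cK]
      simp only [← Matrix.mulVec_mulVec]
      rw [← smul_add, eq_inv_smul_iff₀ (neg_ne_zero.2 h2)]
      linear_combination (norm := module) -e'
    · have hc : ∀ y, z.1 *ᵥ (K *ᵥ y) = K *ᵥ (z.1 *ᵥ y) := fun y => by
        rw [Matrix.mulVec_mulVec, Matrix.mulVec_mulVec, cK]
      simp only [Matrix.mulVec_smul, Matrix.mulVec_sub, hc, zz]
      rw [← smul_neg, neg_sub]
  have key : ∀ t, X *ᵥ t = 0 → ∃ a, t - z.1 *ᵥ t = X *ᵥ a := by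
    intro t ht
    obtain ⟨a, b, e, hb⟩ := hdec t
    refine ⟨a, ?_⟩
    suffices h0 : K *ᵥ b = 0 by rw [e, h0, add_zero]
    have hXb : X *ᵥ (K *ᵥ b) = 0 := by
      have := congrArg (X *ᵥ ·) e
      simp only [Matrix.mulVec_sub, Matrix.mulVec_add, Matrix.mulVec_mulVec _ X z.1, ← cX, ← Matrix.mulVec_mulVec _ z.1 X,
        ht, Matrix.mulVec_zero, sub_zero, Matrix.mulVec_mulVec _ X X, hXX, Matrix.zero_mulVec, zero_add] at this
      exact this.symm
    have hall : ∀ s, f (K *ᵥ b) s = 0 := fun s => by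
      obtain ⟨a', b', e', -⟩ := hdec s
      have h1 : f (K *ᵥ b) (s - z.1 *ᵥ s) = 2 * f (K *ᵥ b) s := by
        rw [fdef, dotProduct_sub, ← fdef, ← fdef, ← zsym, hb, fdef, fdef, Matrix.mulVec_neg, neg_dotProduct]
        ring
      rw [e', faddr, tsK, add_zero, fskew, skX, hXb, show ∀ c, f c 0 = 0 from fun c => dotProduct_zero _, neg_zero,
        neg_zero, eq_comm, mul_eq_zero] at h1
      exact h1.resolve_left h2
    have h3 := congrArg ((JA ⊗ₖ JB)⁻¹ *ᵥ ·) (dotProduct_eq_zero _ hall)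
    simpa only [Matrix.mulVec_mulVec, ← Matrix.mul_assoc, Matrix.nonsing_inv_mul _ H.det_form, Matrix.one_mulVec,
      Matrix.one_mul, Matrix.mulVec_zero] using h3
  -- the first factor is a scalar
  obtain ⟨T', hT'⟩ : ∃ T', z.1 = (1 : Matrix α α F) ⊗ₖ T' := by
    obtain ⟨d, hd⟩ : ∃ d, d = (JB *ᵥ v) ⬝ᵥ v' := ⟨_, rfl⟩
    have hval : ∀ a, kr α (JB *ᵥ v) *ᵥ (z.1 *ᵥ ten a v') = d • a := by
      intro a
      have hXv : X *ᵥ ten a v' = 0 := by
        rw [← kc_mulVec, Matrix.mulVec_mulVec, hXdef, H.zm_mul_kc, hv', zero_smul, Matrix.zero_mulVec]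
      obtain ⟨b, hb⟩ := key _ hXv
      have h0 : kr α (JB *ᵥ v) *ᵥ (X *ᵥ b) = 0 := by
        rw [Matrix.mulVec_mulVec, hXdef, Zm, Matrix.mul_assoc (kc α w'), kr_kc_mul, H.orth_comm hv, zero_smul,
          Matrix.zero_mulVec]
      have := congrArg (kr α (JB *ᵥ v) *ᵥ ·) hb
      simp only [h0, Matrix.mulVec_sub, sub_eq_zero] at this
      rw [← this, ← kc_mulVec, Matrix.mulVec_mulVec, kr_mul_kc, ← hd, Matrix.smul_mulVec, Matrix.one_mulVec]
    have hS' : ((JB *ᵥ v) ⬝ᵥ (T *ᵥ v')) • S = d • (1 : Matrix α α F) := by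
      refine Matrix.ext_iff_mulVec.2 fun a => ?_
      rw [Matrix.smul_mulVec, Matrix.smul_mulVec, Matrix.one_mulVec, ← hval a, hST, kron_mulVec_ten, ← kc_mulVec,
        Matrix.mulVec_mulVec, kr_mul_kc, Matrix.smul_mulVec, Matrix.one_mulVec]
    rw [← hd] at hvv
    obtain ⟨c, hc⟩ : ∃ c, c = (JB *ᵥ v) ⬝ᵥ (T *ᵥ v') := ⟨_, rfl⟩
    rw [← hc] at hS'
    have hne : c ≠ 0 := fun e => by
      obtain ⟨i⟩ := H.nonempty_left
      rw [e, zero_smul] at hS'
      have := congrFun₂ hS' i i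
      exact hvv (by simpa using this.symm)
    refine ⟨(c⁻¹ * d) • T, ?_⟩
    rw [hST, Matrix.kronecker_smul, ← Matrix.smul_kronecker, mul_smul, ← hS', smul_smul, inv_mul_cancel₀ hne,
      one_smul]
  have hone : (1 : Matrix α α F) ≠ 0 := one_ne_zero
  have hTT : T' * T' = 1 := by
    refine kron_left_cancel hone ?_
    have := congrArg Units.val hz2
    rw [Units.val_mul, Units.val_one, hT', ← Matrix.mul_kronecker_mul, Matrix.one_mul] at this
    rw [this, Matrix.one_kronecker_one]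
  have hTiso := H.iso_right hzM hT'
  have TT : ∀ a, T' *ᵥ (T' *ᵥ a) = a := fun a => by rw [Matrix.mulVec_mulVec, hTT, Matrix.one_mulVec]
  have Tsym : ∀ a b, (JB *ᵥ (T' *ᵥ a)) ⬝ᵥ b = (JB *ᵥ a) ⬝ᵥ (T' *ᵥ b) := fun a b => by
    conv_lhs => rw [← TT b]
    rw [H.aB.form_image hTiso]
  obtain ⟨N, hNdef⟩ : ∃ N, N = Matrix.vecMulVec w' (JB *ᵥ w') := ⟨_, rfl⟩
  have hXN : X = (1 : Matrix α α F) ⊗ₖ N := by rw [hXdef, H.zm_one, hNdef]
  have hN : ∀ y, N *ᵥ y = ((JB *ᵥ w') ⬝ᵥ y) • w' := fun y => by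
    rw [hNdef, Matrix.vecMulVec_mulVec, op_smul_eq_smul]
  have hcT : ∀ y, T' *ᵥ (N *ᵥ y) = N *ᵥ (T' *ᵥ y) := fun y => by
    rw [Matrix.mulVec_mulVec, Matrix.mulVec_mulVec]
    congr 1
    refine kron_left_cancel hone ?_
    have := cX
    rwa [hXN, hT', ← Matrix.mul_kronecker_mul, ← Matrix.mul_kronecker_mul, Matrix.one_mul] at this
  obtain ⟨e, he⟩ : ∃ e, e = (JB *ᵥ w') ⬝ᵥ (T' *ᵥ w'') := ⟨_, rfl⟩
  have hTw : T' *ᵥ w' = e • w' := by
    have h1 := hcT w''
    rwa [hN, hN, ww', one_smul, ← he] at h1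
  have hkey : ∀ y, (JB *ᵥ w') ⬝ᵥ y = 0 → y - T' *ᵥ y ∈ Submodule.span F ({w'} : Set (β → F)) := by
    intro y h1
    obtain ⟨i⟩ := H.nonempty_left
    have hXy : X *ᵥ ten (Pi.single i 1) y = 0 := by
      rw [hXN, kron_mulVec_ten, hN, h1]
      ext p; simp [ten]
    obtain ⟨a, ha⟩ := key _ hXy
    have : y - T' *ᵥ y = N *ᵥ fun l => a (i, l) := by
      ext l
      have h0 := congrFun ha (i, l)
      rw [hT', kron_mulVec_ten, Matrix.one_mulVec, hXN] at h0
      simp only [ten, Pi.sub_apply, Pi.single_eq_same, one_mul, Matrix.mulVec, dotProduct, Fintype.sum_prod_type,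
        Matrix.kronecker_apply, Matrix.one_apply, ite_mul, zero_mul, Finset.sum_ite_irrel, Finset.sum_const_zero,
        Finset.sum_ite_eq, Finset.mem_univ, if_true] at h0
      exact h0
    rw [this, hN]
    exact Submodule.mem_span_singleton.2 ⟨_, rfl⟩
  have hem : e = -1 := by
    have h1 : T' *ᵥ (T' *ᵥ w') = w' := TT w'
    rw [hTw, Matrix.mulVec_smul, hTw, smul_smul] at h1
    have h3 : (e * e - 1) • w' = 0 := by rw [sub_smul, h1, one_smul, sub_self]
    have he1 : e * e - 1 = 0 := (smul_eq_zero.1 h3).resolve_right hw'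
    rcases mul_eq_zero.1 (show (e - 1) * (e + 1) = 0 by linear_combination he1) with h | h
    · exfalso
      rw [sub_eq_zero] at h
      rw [h, one_smul] at hTw
      have hfix : ∀ y, y - T' *ᵥ y ∈ Submodule.span F ({w'} : Set (β → F)) → T' *ᵥ y = y := by
        intro y hy
        obtain ⟨c, hc⟩ := Submodule.mem_span_singleton.1 hy
        have e1 : T' *ᵥ (c • w') = c • w' := by rw [Matrix.mulVec_smul, hTw]
        rw [hc, Matrix.mulVec_sub, TT] at e1
        have h4 : (2 : F) • (T' *ᵥ y - y) = 0 := by linear_combination (norm := module) e1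
        exact sub_eq_zero.1 ((smul_eq_zero.1 h4).resolve_left h2)
      have hall : ∀ y, T' *ᵥ y = y := by
        intro y
        have e1 : (JB *ᵥ w') ⬝ᵥ (y - T' *ᵥ y) = 0 := by
          rw [dotProduct_sub, ← Tsym, hTw, sub_self]
        have := hfix _ (hkey _ e1)
        rw [Matrix.mulVec_sub, TT] at this
        have h4 : (2 : F) • (T' *ᵥ y - y) = 0 := by linear_combination (norm := module) this
        exact sub_eq_zero.1 ((smul_eq_zero.1 h4).resolve_left h2)
      exact hz1 (Units.ext (by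
        rw [hT', show T' = 1 from Matrix.ext_iff_mulVec.2 fun y => by rw [hall, Matrix.one_mulVec],
          Matrix.one_kronecker_one]
        rfl))
    · exact eq_neg_of_add_eq_zero_left h
  rw [hem, neg_one_smul] at hTw
  obtain ⟨L, hLdef⟩ : ∃ L, L = LinearMap.range ((1 : Matrix β β F) - T').mulVecLin := ⟨_, rfl⟩
  have hmemL : ∀ {y}, y ∈ L ↔ ∃ s, s - T' *ᵥ s = y := fun {y} => by
    simp [hLdef, LinearMap.mem_range, Matrix.sub_mulVec]
  have hL2 : ∀ y ∈ L, T' *ᵥ y = -y := by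
    intro y hy
    obtain ⟨s, rfl⟩ := hmemL.1 hy
    rw [Matrix.mulVec_sub, TT, neg_sub]
  have hhalf : (2 : F) * (2 : F)⁻¹ = 1 := mul_inv_cancel₀ h2
  have hwL : ∀ y, T' *ᵥ y = -y → y ∈ L := fun y hy => hmemL.2 ⟨(2 : F)⁻¹ • y, by
    rw [Matrix.mulVec_smul, hy, smul_neg, sub_neg_eq_add, ← two_smul F, smul_smul, hhalf, one_smul]⟩
  obtain ⟨l₁, hl₁⟩ : ∃ l, l = (2 : F)⁻¹ • (w'' - T' *ᵥ w'') := ⟨_, rfl⟩
  have hl : (JB *ᵥ w') ⬝ᵥ l₁ = 1 := by
    rw [hl₁, dotProduct_smul, dotProduct_sub, ← Tsym, hTw, Matrix.mulVec_neg, neg_dotProduct, ww', smul_eq_mul,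
      sub_neg_eq_add, one_add_one_eq_two, inv_mul_cancel₀ h2]
  have hindep : LinearIndependent F ![w', l₁] := (LinearIndependent.pair_iff' hw').2 fun a e => by
    rw [← e, dotProduct_smul, H.selfB, smul_zero] at hl
    exact zero_ne_one hl
  refine ⟨L, hwL _ hTw, ?_, ?_⟩
  · -- at most two dimensions
    let φ : L →ₗ[F] F :=
      { toFun := fun y => (JB *ᵥ w') ⬝ᵥ (y : β → F)
        map_add' := fun a b => dotProduct_add _ _ _
        map_smul' := fun a b => dotProduct_smul _ _ _ }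
    have hker : Module.finrank F (LinearMap.ker φ) ≤ 1 := by
      have hle : (LinearMap.ker φ).map L.subtype ≤ Submodule.span F ({w'} : Set (β → F)) := by
        rintro _ ⟨⟨y, hy⟩, hy', rfl⟩
        have := hkey y hy'
        rw [hL2 y hy, sub_neg_eq_add, ← two_smul F] at this
        have := Submodule.smul_mem _ ((2 : F)⁻¹) this
        rwa [smul_smul, inv_mul_cancel₀ h2, one_smul] at this
      have h1 := Submodule.finrank_mono hle
      rw [Submodule.finrank_map_subtype_eq] at h1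
      exact h1.trans (le_of_eq (finrank_span_singleton hw'))
    have h1 := LinearMap.finrank_range_add_finrank_ker φ
    have h3 : Module.finrank F (LinearMap.range φ) ≤ 1 := by
      refine (Submodule.finrank_le _).trans ?_
      rw [Module.finrank_self]
    omega
  · -- the image of `K` lies over `L`
    obtain ⟨V, hVdef⟩ : ∃ V, V = LinearMap.range (1 - z.1).mulVecLin := ⟨_, rfl⟩
    have hV1 : LinearMap.range X.mulVecLin ≤ V := by
      rw [hVdef]
      rintro _ ⟨s, rfl⟩
      refine ⟨(2 : F)⁻¹ • (X *ᵥ s), ?_⟩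
      have e1 : z.1 *ᵥ (X *ᵥ s) = -(X *ᵥ s) := by
        rw [hXN, Matrix.mulVec_mulVec, hT', ← Matrix.mul_kronecker_mul, Matrix.one_mul]
        have : T' * N = -N := by
          refine Matrix.ext_iff_mulVec.2 fun y => ?_
          rw [← Matrix.mulVec_mulVec, Matrix.neg_mulVec, hN, Matrix.mulVec_smul, hTw, smul_neg]
        rw [this, ← neg_one_smul F N, Matrix.kronecker_smul, Matrix.smul_mulVec, neg_one_smul]
      rw [Matrix.mulVecLin_apply, Matrix.mulVecLin_apply, Matrix.sub_mulVec, Matrix.one_mulVec, Matrix.mulVec_smul,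
        e1, smul_neg, sub_neg_eq_add, ← two_smul F, smul_smul, hhalf, one_smul]
    have hV2 : V ≤ LinearMap.range X.mulVecLin ⊔ (LinearMap.range K.mulVecLin ⊓ V) := by
      intro y hy
      have : y ∈ LinearMap.range X.mulVecLin ⊔ LinearMap.range K.mulVecLin := by
        rw [hVdef] at hy
        obtain ⟨s, rfl⟩ := hy
        have := neg_mem (hzr ⟨s, rfl⟩)
        simp only [Matrix.mulVecLin_apply] at this ⊢
        rwa [← Matrix.neg_mulVec, neg_sub] at this
      obtain ⟨a, ha, b, hb, rfl⟩ := Submodule.mem_sup.1 this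
      refine Submodule.mem_sup.2 ⟨a, ha, b, ⟨hb, ?_⟩, rfl⟩
      have := sub_mem hy (hV1 ha)
      rwa [add_sub_cancel_left] at this
    have hbig : Fintype.card α * 2 ≤ Module.finrank F V := by
      have hall : LinearIndependent F fun q : α × Fin 2 => ten (Pi.single q.1 (1 : F)) (![w', l₁] q.2) :=
        li_ten_left hindep
      have hle : Submodule.span F (Set.range fun q : α × Fin 2 => ten (Pi.single q.1 (1 : F)) (![w', l₁] q.2))
          ≤ V := by
        rw [Submodule.span_le, hVdef]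
        rintro _ ⟨⟨i, j⟩, rfl⟩
        have hmem : ![w', l₁] j ∈ L := by
          fin_cases j
          · exact hwL _ hTw
          · exact (hl₁.symm ▸ Submodule.smul_mem _ _ (hmemL.2 ⟨_, rfl⟩) : l₁ ∈ L)
        obtain ⟨s, hs⟩ := hmemL.1 hmem
        refine ⟨ten (Pi.single i 1) s, ?_⟩
        show _ = ten (Pi.single i 1) (![w', l₁] j)
        rw [Matrix.mulVecLin_apply, Matrix.sub_mulVec, Matrix.one_mulVec, hT', kron_mulVec_ten, Matrix.one_mulVec,
          ← hs]
        ext p; simp [ten, mul_sub]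
      have h3 := Submodule.finrank_mono hle
      rwa [finrank_span_eq_card hall, Fintype.card_prod, Fintype.card_fin] at h3
    have h1 := Submodule.finrank_mono hV2
    have h3 := Submodule.finrank_add_le_finrank_add_finrank (LinearMap.range X.mulVecLin)
      (LinearMap.range K.mulVecLin ⊓ V)
    have h4 : Module.finrank F (LinearMap.range X.mulVecLin) ≤ Fintype.card α := by
      rw [hXdef, Zm, Matrix.mul_one, Matrix.mulVecLin_mul]
      exact ((Submodule.finrank_mono (LinearMap.range_comp_le_range _ _)).trans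
        (LinearMap.finrank_range_le _)).trans (le_of_eq (Module.finrank_pi F))
    have h5 : Module.finrank F (LinearMap.range K.mulVecLin) ≤ Fintype.card α := hKdef ▸ H.finrank_conj w g
    have heq : LinearMap.range K.mulVecLin ⊓ V = LinearMap.range K.mulVecLin :=
      Submodule.eq_of_le_of_finrank_le inf_le_left (by omega)
    intro s i
    have hs : K *ᵥ s ∈ V := (heq.symm ▸ (LinearMap.mem_range_self K.mulVecLin s)).2
    rw [hVdef] at hs
    obtain ⟨t, ht⟩ := hs
    refine hmemL.2 ⟨fun l => t (i, l), ?_⟩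
    ext l
    have h0 := congrFun ht (i, l)
    rw [Matrix.mulVecLin_apply, Matrix.sub_mulVec, Matrix.one_mulVec, hT'] at h0
    simp only [Pi.sub_apply, Matrix.mulVec, dotProduct, Fintype.sum_prod_type, Matrix.kronecker_apply,
      Matrix.one_apply, ite_mul, one_mul, zero_mul, Finset.sum_ite_irrel, Finset.sum_const_zero, Finset.sum_ite_eq,
      Finset.mem_univ, if_true] at h0 ⊢
    exact h0

/-- When the central elements are scalars, everything is a Kronecker product. -/
theorem tens_all (hS : Small JB M) {g : GL (α × β) F} (hg : g ∈ M) : Tens g.1 := by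
  classical
  haveI := H.nonempty_left
  haveI := H.nonempty_right
  have hL := H.scalarLevels hS
  by_contra hnt
  obtain ⟨w, hw⟩ : ∃ w : β → F, w ≠ 0 := by
    obtain ⟨k⟩ := H.nonempty_right
    exact ⟨Pi.single k 1, fun e => by simpa using congrFun e k⟩
  obtain ⟨x, hx⟩ := H.exists_root_tv hw
  obtain ⟨K, hKdef⟩ : ∃ K, K = g.1 * Zm JB w (1 : Matrix α α F) * (g⁻¹).1 := ⟨_, rfl⟩
  obtain ⟨U, hUdef⟩ : ∃ U, U = Submodule.span F (Set.range fun q : (α × β → F) × α =>
      (fun l => (K *ᵥ q.1) (q.2, l) : β → F)) := ⟨_, rfl⟩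
  have hpt : ∀ w' : β → F, w' ≠ 0 → ∃ L : Submodule F (β → F), w' ∈ L ∧ Module.finrank F L ≤ 2 ∧ U ≤ L := by
    intro w' hw'
    obtain ⟨x', hx'⟩ := H.exists_root_tv hw'
    obtain ⟨L, a, b, c⟩ := H.exists_space hS hL hg hx hx' hnt
    refine ⟨L, a, b, ?_⟩
    rw [hUdef, Submodule.span_le]
    rintro _ ⟨⟨s, i⟩, rfl⟩
    rw [hKdef]
    exact c s i
  have hU : Module.finrank F U ≤ 1 := by
    by_contra hc
    have htop : ∀ w' : β → F, w' ∈ U := fun w' => by
      by_cases h0 : w' = 0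
      · rw [h0]; exact U.zero_mem
      obtain ⟨L, a, b, c⟩ := hpt w' h0
      rwa [Submodule.eq_of_le_of_finrank_le c (by omega)]
    obtain ⟨L, -, b, c⟩ := hpt w hw
    have h1 : Module.finrank F U = Fintype.card β := by
      rw [show U = ⊤ from top_unique fun y _ => htop y, finrank_top, Module.finrank_pi]
    have := Submodule.finrank_mono c
    have := H.four
    omega
  -- a vector orthogonal to the slices
  let ub : Fin (Module.finrank F U) → β → F := fun i => (Module.finBasis F U i : β → F)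
  obtain ⟨y, hy, hyU⟩ := exists_orth (fun i => JB *ᵥ ub i) (by
    have := H.four
    simp only [Fintype.card_fin]
    omega)
  have horth : ∀ u ∈ U, (JB *ᵥ y) ⬝ᵥ u = 0 := by
    intro u hu
    have e : u = ∑ i, (Module.finBasis F U).repr ⟨u, hu⟩ i • ub i := by
      have := congrArg (U.subtype) ((Module.finBasis F U).sum_repr ⟨u, hu⟩)
      simp only [map_sum, map_smul, Submodule.coe_subtype] at this
      exact this.symm
    rw [e, dotProduct_sum]
    exact Finset.sum_eq_zero fun i _ => by rw [dotProduct_smul, H.orth_comm (hyU i), smul_zero]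
  obtain ⟨k, hk⟩ : ∃ k, k = g * x * g⁻¹ := ⟨_, rfl⟩
  have hkM : k ∈ M := hk ▸ M.mul_mem (M.mul_mem hg hx.2.1) (M.inv_mem hg)
  have hkv : k.1 = 1 + K := by
    rw [hk, Units.val_mul, Units.val_mul, hx.2.2, Matrix.mul_add, Matrix.mul_one, Matrix.add_mul, g.mul_inv, hKdef]
  have hker : kr α (JB *ᵥ y) * K = 0 := by
    refine Matrix.ext fun i p => ?_
    have h0 := horth (fun l => (K *ᵥ Pi.single p 1) (i, l)) (by
      rw [hUdef]; exact Submodule.subset_span ⟨(Pi.single p 1, i), rfl⟩)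
    simp only [Matrix.mulVec_single_one, Matrix.col_apply] at h0
    rw [Matrix.mul_apply, Fintype.sum_prod_type, Fintype.sum_eq_single i]
    · simpa [kr_apply, dotProduct] using h0
    · intro b hb; simp [kr_apply, Ne.symm hb]
  have hfix := H.fix_of_kr hkM (y := y) (by rw [hkv, Matrix.mul_add, Matrix.mul_one, hker, add_zero])
  have hkT : Tens (k⁻¹).1 := H.tens_of_stab hS hL (M.inv_mem hkM) (H.selfB y) hy (A := 1)
    (by rw [hfix, Matrix.mul_one])
  exact hnt (H.tens_of_conj hS hL hg hx (hk ▸ tens_inv hkT k.inv_mul H.nonempty_left H.nonempty_right))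

/-- The dichotomy. -/
theorem dichotomy : (∀ g ∈ M, Tens g.1) ∨ ∀ x, Centre JA JB M x := by
  by_cases hS : Small JB M
  · exact Or.inl fun g hg => H.tens_all hS hg
  · exact Or.inr (H.centre_everywhere hS)

end SympHyp

end CfsgLib.Classical.TensorMixed
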